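import Cfsg.Agent.ThFive.Gen

/-!
# The centralizer of an element of order 5 of the Thompson group, I (helper227)

`H = C(X5)`, `s` the involution `a` of `H`: `|C_H(s)| = 120`, `s` is a commutator of two elements of
`C_H(s)`, and `|H| = 24 |N|` for the normal subgroup `N` of odd order of helper96.
-/

set_option autoImplicit false
set_option maxRecDepth 100000
set_option linter.unusedSectionVars false

namespace Cfsg.Agent.H227.IMTh.Five

open Subgroup Cfsg
open Cfsg.Agent.Th.Base Cfsg.Agent.Th.Word Cfsg.Agent.Th.RelWords Cfsg.Agent.Th.PermTab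
  Cfsg.Agent.Th.KOracle Cfsg.Agent.Th.KPerm Cfsg.Agent.Th.NineAct Cfsg.Agent.Th.CStruct
  Cfsg.Agent.Th.COracleDef Cfsg.Agent.Th.COracleSound
open Cfsg.Agent.KFacts.Th.Mask Cfsg.Agent.KFacts.Th.Struct
open Cfsg.Agent.CpAutTh.Data Cfsg.Agent.CpAutTh.Alt Cfsg.Agent.CpAutTh.RankOne Cfsg.Agent.CpAutTh.Local
  Cfsg.Agent.CpAutTh.Mid Cfsg.Agent.CpAutTh.ThreePerm Cfsg.Agent.CpAutTh.ThreeE
open Cfsg.Agent.BpSpor.ThCent Cfsg.Agent.BpSpor.ThThree
open Cfsg.Agent.ThFive Cfsg.Agent.ThFive.Five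

universe u

section Abs

/-- `H = N C`, `N` normal: `|H| * |N ∩ C| = |N| * |C|`. -/
theorem card_mul_of_sup {H : Type u} [Group H] [Finite H] (N C : Subgroup H) [N.Normal] (h : N ⊔ C = ⊤) :
    Nat.card H * Nat.card ↥(N ⊓ C) = Nat.card N * Nat.card C := by
  have h1 : N.index = N.relIndex C := by
    rw [← Subgroup.relIndex_top_right, ← h, Subgroup.relIndex_sup_left]
  have h2 := N.card_mul_index
  have h3 : Nat.card ↥(N ⊓ C) * N.relIndex C = Nat.card C := by
    have h4 : Nat.card ↥(N.subgroupOf C) = Nat.card ↥(N ⊓ C) := by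
      rw [← Subgroup.card_map_of_injective C.subtype_injective (K := N.subgroupOf C),
        Subgroup.subgroupOf_map_subtype]
    rw [← h4]
    exact (N.subgroupOf C).card_mul_index
  rw [← h2, ← h3, h1]
  ring

end Abs

/-! ### A Klein four-group in `A₄` -/

theorem klein4 : ∃ a b : alternatingGroup (Fin 4), a ≠ 1 ∧ b ≠ 1 ∧ a * b ≠ 1 ∧ a * a = 1 ∧ b * b = 1 ∧
    (a * b) * (a * b) = 1 := by decide +kernel

theorem kleinS : ∃ a b : alternatingGroup ↥S4, a ≠ 1 ∧ b ≠ 1 ∧ a * b ≠ 1 ∧ a * a = 1 ∧ b * b = 1 ∧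
    (a * b) * (a * b) = 1 := by
  have e0 : ↥S4 ≃ Fin 4 := (Fintype.equivFinOfCardEq (by rw [Fintype.card_coe, card_S4]))
  let e : alternatingGroup ↥S4 ≃* alternatingGroup (Fin 4) := e0.altCongrHom
  obtain ⟨a, b, h1, h2, h3, h4, h5, h6⟩ := klein4
  refine ⟨e.symm a, e.symm b, ?_, ?_, ?_, ?_, ?_, ?_⟩
  · rwa [Ne, MulEquiv.map_eq_one_iff]
  · rwa [Ne, MulEquiv.map_eq_one_iff]
  · rwa [← map_mul, Ne, MulEquiv.map_eq_one_iff]
  · rw [← map_mul, h4, map_one]
  · rw [← map_mul, h5, map_one]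
  · rw [← map_mul, ← map_mul, h6, map_one]

section

variable {G : Type u} [Group G] {γ : ℕ → G} (h : Ctx γ)
  {f : sub γ isC →* alternatingGroup (Fin 9)} (F : Epi γ f)
include h F

/-- the involution in its centralizer -/
def ss : ↥(centralizer ({sx h c5} : Set ↥(centralizer ({ev γ X5} : Set G)))) :=
  ⟨sx h c5, mem_centralizer_singleton_iff.2 rfl⟩

theorem ker_eq {y : ↥(centralizer ({sx h c5} : Set ↥(centralizer ({ev γ X5} : Set G))))}
    (hy : psi h c5 f y = 1) : y = 1 ∨ y = ss h := by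
  have h1 : ((y : ↥(centralizer ({ev γ X5} : Set G))) : G) ∈ Q0 γ :=
    (mem_ker_psi h F c5).1 (MonoidHom.mem_ker.2 hy)
  have h2 := mem_centralizer_singleton_iff.1 (y : ↥(centralizer ({ev γ X5} : Set G))).2
  rcases inv_ker h chk5 fix5 h1 h2 with h3 | h3
  · exact Or.inl (Subtype.ext (Subtype.ext h3))
  · exact Or.inr (Subtype.ext (Subtype.ext h3))

theorem ss_ne : ss h ≠ 1 := by
  intro h1
  have h2 : sx h c5 = 1 := congrArg Subtype.val h1
  have h3 := order_sx h c5
  rw [h2, orderOf_one] at h3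
  norm_num at h3

theorem psi_ss : psi h c5 f (ss h) = 1 := by
  rw [← MonoidHom.mem_ker, mem_ker_psi h F c5]
  exact h.a_mem

theorem card_ker : Nat.card (psi h c5 f).ker = 2 := by
  have := h.fin
  rw [Nat.card_eq_two_iff]
  refine ⟨⟨1, one_mem _⟩, ⟨ss h, psi_ss h F⟩, ?_, ?_⟩
  · intro h1
    exact ss_ne h F (congrArg Subtype.val h1).symm
  · rw [Set.eq_univ_iff_forall]
    rintro ⟨y, hy⟩
    rcases ker_eq h F (MonoidHom.mem_ker.1 hy) with rfl | rfl
    · exact Or.inl rfl
    · exact Or.inr rfl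

/-- `|C_H(s)| = 120` -/
theorem card_cent_s : Nat.card ↥(centralizer ({sx h c5} : Set ↥(centralizer ({ev γ X5} : Set G)))) = 120 := by
  rw [← card_mul_index (psi h c5 f).ker, index_ker, card_ker h F, range_card5 h F]

/-- an element of `C_H(s)` mapping to an involution of `A₉` has square `s` -/
theorem sq_eq {y : ↥(centralizer ({sx h c5} : Set ↥(centralizer ({ev γ X5} : Set G))))}
    (h1 : psi h c5 f y ≠ 1) (h2 : psi h c5 f y * psi h c5 f y = 1) : y * y = ss h := by
  rw [← map_mul] at h2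
  rcases ker_eq h F h2 with h3 | h3
  · exfalso
    -- `y` is an involution commuting with `s`
    have hy1 : y ≠ 1 := by
      rintro rfl
      exact h1 (map_one _)
    have h4 : orderOf (y : ↥(centralizer ({ev γ X5} : Set G))) = 2 := by
      have : Fact (Nat.Prime 2) := ⟨Nat.prime_two⟩
      rw [Subgroup.orderOf_coe]
      exact orderOf_eq_prime (by rw [pow_two, h3]) hy1
    have h5 := (sit5 h F).uniq _ h4 (mem_centralizer_singleton_iff.1 y.2)
    have h6 : y = ss h := Subtype.ext h5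
    rw [h6] at h1
    exact h1 (psi_ss h F)
  · exact h3

/-- `s` is a commutator of elements of `C(X5)` -/
theorem exists_quat : ∃ y z : ↥(centralizer ({ev γ X5} : Set G)), y * z = sx h c5 * (z * y) := by
  obtain ⟨a, b, h1, h2, h3, h4, h5, h6⟩ := kleinS
  obtain ⟨y, hy⟩ := (jj5 h F a).2
  obtain ⟨z, hz⟩ := (jj5 h F b).2
  have hne : ∀ {c : alternatingGroup ↥S4} {w : ↥(centralizer ({sx h c5} : Set ↥(centralizer ({ev γ X5} : Set G))))},
      c ≠ 1 → c * c = 1 → psi h c5 f w = (jj5 h F c : alternatingGroup (Fin 9)) → w * w = ss h := by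
    intro c w hc hcc hw
    refine sq_eq h F ?_ ?_
    · rw [hw]
      intro h7
      apply hc
      apply jj5_inj h F
      rw [map_one]
      exact Subtype.ext h7
    · rw [hw, ← Subgroup.coe_mul, ← map_mul, hcc, map_one]
      rfl
  have e1 := hne h1 h4 hy
  have e2 := hne h2 h5 hz
  have e3 := hne h3 h6 (w := y * z) (by rw [map_mul, hy, hz, map_mul]; rfl)
  have hs2 : ss h * ss h = 1 := by
    apply Subtype.ext
    have := order_sx h c5
    show sx h c5 * sx h c5 = 1
    rw [← pow_two, ← this, pow_orderOf_eq_one]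
  have hc : ∀ w : ↥(centralizer ({sx h c5} : Set ↥(centralizer ({ev γ X5} : Set G)))), w * ss h = ss h * w := by
    intro w
    exact Subtype.ext (mem_centralizer_singleton_iff.1 w.2)
  -- `y z y z = s = y y`
  have e4 : z * y * z = y := by
    apply mul_left_cancel (a := y)
    rw [e1, ← e3]
    group
  have e5 : y * z = ss h * (z * y) := by
    calc y * z = (z * y * z) * z := by rw [e4]
      _ = z * y * (z * z) := by group
      _ = z * y * ss h := by rw [e2]
      _ = ss h * (z * y) := hc _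
  exact ⟨y, z, congrArg Subtype.val e5⟩

/-- `|C(X5)| = 24 |N|` -/
theorem card_H {N : Subgroup ↥(centralizer ({ev γ X5} : Set G))} (hN : Core (sx h c5) (xx γ X5) 5 N) :
    Nat.card ↥(centralizer ({ev γ X5} : Set G)) = 24 * Nat.card N := by
  have := h.fin
  have hNn := hN.normal
  have h1 := card_mul_of_sup N _ hN.sup
  have h2 : N ⊓ centralizer ({sx h c5} : Set _) = zpowers (xx γ X5) := by
    refine le_antisymm hN.inf ?_
    rw [zpowers_le]
    exact ⟨hN.zN, mem_centralizer_singleton_iff.2 (hN.toSit.z_comm (sx h c5)).symm⟩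
  rw [h2, Nat.card_zpowers, hN.toSit.oz, card_cent_s h F] at h1
  omega

end

end Cfsg.Agent.H227.IMTh.Five
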