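import Cfsg.Agent.H227.IMThA
import Cfsg.Agent.H227.IMThE
import Cfsg.Agent.ThFive.Main
import Cfsg.Agent.ThType.Seven
import Cfsg.Agent.H502.ThFiveP

/-!
# The centralizer of an element of order 5 of the Thompson group, II (helper227)

`|C(x)| = 3000` for the elements `x` of order 5 which commute with an involution.
-/

set_option autoImplicit false
set_option maxRecDepth 100000
set_option linter.unusedSectionVars false

namespace Cfsg.Agent.H227.IMTh.Five

open Subgroup Cfsg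
open Cfsg.Agent.Th.Base Cfsg.Agent.Th.Word Cfsg.Agent.Th.RelWords Cfsg.Agent.Th.PermTab
  Cfsg.Agent.Th.KOracle Cfsg.Agent.Th.KPerm Cfsg.Agent.Th.NineAct Cfsg.Agent.Th.CStruct
  Cfsg.Agent.Th.COracleDef Cfsg.Agent.Th.COracleSound
open Cfsg.Agent.KFacts.Th.Mask Cfsg.Agent.KFacts.Th.Struct
open Cfsg.Agent.CpAutTh.Data Cfsg.Agent.CpAutTh.Alt Cfsg.Agent.CpAutTh.RankOne Cfsg.Agent.CpAutTh.Local
  Cfsg.Agent.CpAutTh.Mid Cfsg.Agent.CpAutTh.ThreePerm Cfsg.Agent.CpAutTh.ThreeE
open Cfsg.Agent.BpSpor.ThCent Cfsg.Agent.BpSpor.ThThree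
open Cfsg.Agent.ThFive Cfsg.Agent.ThFive.Five

universe u

section Abs

variable {H : Type u} [Group H] [Finite H] {s z : H} {p : ℕ} {N : Subgroup H}

/-- a prime `r` dividing the order of `H` once does not divide `|N|` if `s` is a commutator. -/
theorem not_dvd_of_quat (h : Core s z p N) {r : ℕ} (hr : r.Prime) (hr2 : r ≠ 2) (hrp : r ≠ p)
    (hr' : ¬ r ^ 2 ∣ Nat.card H) {y w : H} (hyw : y * w = s * (w * y)) : ¬ r ∣ Nat.card N := by
  intro hd
  have : Fact r.Prime := ⟨hr⟩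
  have hZ := h.toSit.normalZ
  obtain ⟨hinv, hcomm⟩ := h.quot
  set π := QuotientGroup.mk' (zpowers z) with hπ
  have hn := h.normal
  have hNb : (N.map π).Normal := hn.map _ (QuotientGroup.mk'_surjective _)
  have hA : (tors (N.map π) hcomm r).Normal := tors_normal hNb
  set A := tors (N.map π) hcomm r with hAdef
  have hQ : Nat.card H = Nat.card (H ⧸ zpowers z) * p := by
    rw [card_eq_card_quotient_mul_card_subgroup (zpowers z), Nat.card_zpowers, h.toSit.oz]
  -- an element of order `r` in the quotient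
  obtain ⟨n, hn1⟩ := exists_prime_orderOf_dvd_card' r hd
  have hnr : (n : H) ^ r = 1 := by
    rw [← hn1, ← Subgroup.orderOf_coe, pow_orderOf_eq_one]
  have hne : π (n : H) ≠ 1 := by
    intro h1
    have h2 : (n : H) ∈ zpowers z := (QuotientGroup.eq_one_iff _).1 h1
    have h3 := Nat.card_zpowers (n : H) ▸ Subgroup.card_dvd_of_le (zpowers_le.2 h2)
    rw [Nat.card_zpowers, h.toSit.oz, Subgroup.orderOf_coe, hn1, Nat.prime_dvd_prime_iff_eq hr h.toSit.prime] at h3
    exact hrp h3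
  have hnA : π (n : H) ∈ A := ⟨⟨n, n.2, rfl⟩, by rw [← map_pow, hnr, map_one]⟩
  have hPA : IsPGroup r ↥A := by
    intro a
    exact ⟨1, Subtype.ext (by rw [pow_one]; exact a.2.2)⟩
  have hcA : Nat.card A = r := by
    obtain ⟨j, hj⟩ := IsPGroup.iff_card.1 hPA
    have hj0 : j ≠ 0 := by
      rintro rfl
      rw [pow_zero, card_eq_one] at hj
      rw [hj, mem_bot] at hnA
      exact hne hnA
    have hj1 : ¬ 2 ≤ j := by
      intro h2
      apply hr'
      rw [hQ]
      refine Dvd.dvd.mul_right ?_ _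
      exact (pow_dvd_pow r h2).trans (hj ▸ card_subgroup_dvd_card A)
    rw [hj, show j = 1 by omega, pow_one]
  -- `A` is generated by `α`
  set α : H ⧸ zpowers z := π (n : H) with hα
  have hαr : orderOf α = r := orderOf_eq_prime hnA.2 hne
  have hAα : zpowers α = A := by
    refine eq_of_le_of_card_ge (zpowers_le.2 hnA) ?_
    rw [Nat.card_zpowers, hαr, hcA]
  obtain ⟨i, hi⟩ : ∃ i : ℤ, α ^ i = π y * α * (π y)⁻¹ := by
    rw [← mem_zpowers_iff, hAα]
    exact hA.conj_mem _ hnA _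
  obtain ⟨j, hj⟩ : ∃ j : ℤ, α ^ j = π w * α * (π w)⁻¹ := by
    rw [← mem_zpowers_iff, hAα]
    exact hA.conj_mem _ hnA _
  have h1 : (π y * π w) * α * (π y * π w)⁻¹ = α ^ (i * j) := by
    calc (π y * π w) * α * (π y * π w)⁻¹ = π y * (π w * α * (π w)⁻¹) * (π y)⁻¹ := by group
      _ = π y * α ^ j * (π y)⁻¹ := by rw [hj]
      _ = (π y * α * (π y)⁻¹) ^ j := by rw [conj_zpow]
      _ = α ^ (i * j) := by rw [← hi, zpow_mul]
  have h2 : (π w * π y) * α * (π w * π y)⁻¹ = α ^ (i * j) := by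
    calc (π w * π y) * α * (π w * π y)⁻¹ = π w * (π y * α * (π y)⁻¹) * (π w)⁻¹ := by group
      _ = π w * α ^ i * (π w)⁻¹ := by rw [hi]
      _ = (π w * α * (π w)⁻¹) ^ i := by rw [conj_zpow]
      _ = α ^ (i * j) := by rw [← hj, ← zpow_mul, mul_comm]
  have h3 : π y * π w = π s * (π w * π y) := by rw [← map_mul, hyw, map_mul, map_mul]
  have h4 : π s * α ^ (i * j) * (π s)⁻¹ = α ^ (i * j) := by
    conv_lhs => rw [← h2]
    rw [← h1, h3]
    group
  have hβ : α ^ (i * j) ∈ A := by rw [← hAα]; exact zpow_mem_zpowers _ _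
  have h5 := hinv _ hβ.1
  rw [h4] at h5
  have h6 : α ^ (i * j) = 1 := by
    refine eq_one_of_sq_odd (hr.odd_of_ne_two hr2) ?_ hβ.2
    nth_rewrite 2 [h5]
    exact mul_inv_cancel _
  rw [h6] at h1
  exact hne (conj_eq_one_iff.1 h1)

end Abs

section Model

open Cfsg.Agent.Th.IndexUpper Cfsg.Agent.H723.Spor.Th

/-- the element `X5` of `Th` -/
noncomputable def x5 : Spor.Th := ev gTh X5

theorem not_dvd_of_sq {n r : ℕ} (h : ¬ r ^ 2 ∣ 90745943887872000) (hn : n ∣ 90745943887872000) :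
    ¬ r ^ 2 ∣ n := fun h1 => h (h1.trans hn)

/-- an element of order 5 which commutes with an involution is conjugate to `x5`. -/
theorem conj_five {x s : Spor.Th} (hx : orderOf x = 5) (hs : orderOf s = 2) (hxs : x * s = s * x) :
    ∃ g : Spor.Th, g * s * g⁻¹ = gTh 1 ∧ g * x * g⁻¹ = x5 := by
  obtain ⟨f, F⟩ := CpAutTh.Local.exists_epi KFacts.Th.Main.ctx
  obtain ⟨g, h1, h2⟩ := exists_pair KFacts.Th.Main.ctx ThFive.hone hx hs hxs.symm (P := fun z => z = ev gTh X5)
    (fun y hy => by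
      obtain ⟨c, hc⟩ := exists_rep_five KFacts.Th.Main.ctx F hy
      exact ⟨c, congrArg Subtype.val hc⟩)
  exact ⟨g, h1, h2⟩

theorem order_x5 : orderOf x5 = 5 := by
  obtain ⟨f, F⟩ := CpAutTh.Local.exists_epi KFacts.Th.Main.ctx
  have := o5 KFacts.Th.Main.ctx F
  rwa [Subgroup.orderOf_mk] at this

theorem x5_comm : x5 * gTh 1 = gTh 1 * x5 :=
  KFacts.Th.Main.ctx.mem_C.1 (ev_mem_sub c5)

open Cfsg.Agent.H502 Cfsg.Agent.H502.ThFivePCheck in
theorem z_ne : ThFiveP.z ≠ 1 := ThFiveP.rz.ne_of Rep.one (by decide +kernel)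

open Cfsg.Agent.H502 Cfsg.Agent.H502.ThFivePCheck in
theorem y_ne : ThFiveP.y ≠ 1 := ThFiveP.ry.ne_of Rep.one (by decide +kernel)

open Cfsg.Agent.H502 in
theorem order_z : orderOf ThFiveP.z = 5 := by
  have : Fact (Nat.Prime 5) := ⟨Nat.prime_five⟩
  exact orderOf_eq_prime ThFiveP.z5 z_ne

open Cfsg.Agent.H502 in
theorem order_y : orderOf ThFiveP.y = 5 := by
  have : Fact (Nat.Prime 5) := ⟨Nat.prime_five⟩
  exact orderOf_eq_prime ThFiveP.y5 y_ne

theorem order_one : orderOf (gTh 1) = 2 := MonsterX.ThOneClass.orderOf_a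

open Cfsg.Agent.H502 in
/-- `z` is conjugate to `x5` -/
theorem z_conj : ∃ g : Spor.Th, g * ThFiveP.z * g⁻¹ = x5 := by
  have : Fact (Nat.Prime 2) := ⟨Nat.prime_two⟩
  obtain ⟨g, -, h⟩ := conj_five order_z (s := ThFiveP.a)
    (orderOf_eq_prime (by rw [pow_two, ThFiveP.aa]) ThFiveP.a1) ThFiveP.az.symm
  exact ⟨g, h⟩

open Cfsg.Agent.H502 in
/-- `y` is conjugate to `x5` -/
theorem y_conj : ∃ g : Spor.Th, g * ThFiveP.y * g⁻¹ = x5 := by
  have : Fact (Nat.Prime 2) := ⟨Nat.prime_two⟩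
  obtain ⟨g, -, h⟩ := conj_five order_y (s := ThFiveP.w)
    (orderOf_eq_prime (by rw [pow_two, ThFiveP.ww]) ThFiveP.w1) ThFiveP.wy.symm
  exact ⟨g, h⟩

open Cfsg.Agent.H502 in
theorem P5_le : ThFiveP.P5 ≤ centralizer ({ThFiveP.z} : Set Spor.Th) := by
  rw [ThFiveP.P5, closure_le]
  rintro g (rfl | rfl | rfl)
  · exact mem_centralizer_singleton_iff.2 ThFiveP.xz
  · exact mem_centralizer_singleton_iff.2 ThFiveP.yz
  · exact mem_centralizer_singleton_iff.2 rfl

theorem dvd125 : 125 ∣ Nat.card (centralizer ({x5} : Set Spor.Th)) := by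
  have hfin := fin_th
  obtain ⟨g, hg⟩ := z_conj
  rw [Cfsg.Agent.Blocks.SylowIn.card_centralizer_of_isConj (isConj_iff.2 ⟨g, hg⟩)]
  exact Cfsg.Agent.H502.ThFiveP.dvd_card.trans (Subgroup.card_dvd_of_le P5_le)

/-- no element of order 7 commutes with `x5` -/
theorem not_seven : ¬ 7 ∣ Nat.card (centralizer ({x5} : Set Spor.Th)) := by
  have hfin := fin_th
  have : Fact (Nat.Prime 7) := ⟨by norm_num⟩
  intro hd
  obtain ⟨⟨k, hk⟩, hk7⟩ := exists_prime_orderOf_dvd_card' 7 hd
  rw [Subgroup.orderOf_mk] at hk7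
  obtain ⟨t, ht, htk⟩ := ThType.Seven.exists_involution_Th S1700.result hk7
  have h1 := card_seven KFacts.Th.Main.ctx H723.Spor.Th.hone hk7 ht htk
  have h49 : 49 ∣ Nat.card (Subgroup.centralizer ({k} : Set Spor.Th)) := by
    obtain ⟨P, hP⟩ := (IsPGroup.of_card (n := 1) (by rw [Nat.card_zpowers, hk7, pow_one]) :
      IsPGroup 7 (Subgroup.zpowers k)).exists_le_sylow
    have hPc : Nat.card (P : Subgroup Spor.Th) = 7 ^ 2 := by
      rw [P.card_eq_multiplicity, card_th]
      congr 1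
      rw [show (90745943887872000 : ℕ) = 7 ^ 2 * 1851958038528000 by norm_num,
        Nat.factorization_mul (by norm_num) (by norm_num), Nat.Prime.factorization_pow (by norm_num)]
      simp [Nat.factorization_eq_zero_of_not_dvd (show ¬ 7 ∣ 1851958038528000 by decide)]
    have hcm : IsMulCommutative (P : Subgroup Spor.Th) := IsPGroup.isMulCommutative_of_card_eq_prime_sq hPc
    have hle : (P : Subgroup Spor.Th) ≤ Subgroup.centralizer ({k} : Set Spor.Th) := by
      intro x hx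
      rw [Subgroup.mem_centralizer_singleton_iff]
      have h1 := hcm.is_comm.comm (⟨x, hx⟩ : (P : Subgroup Spor.Th)) ⟨k, hP (Subgroup.mem_zpowers k)⟩
      exact congrArg Subtype.val h1
    have h1 := Subgroup.card_dvd_of_le hle
    rw [hPc] at h1
    norm_num at h1
    exact h1
  have h5 : 5 ∣ Nat.card (Subgroup.centralizer ({k} : Set Spor.Th)) := by
    have h2 : x5 ∈ Subgroup.centralizer ({k} : Set Spor.Th) :=
      mem_centralizer_singleton_iff.2 (mem_centralizer_singleton_iff.1 hk).symm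
    have h3 := orderOf_dvd_natCard (⟨x5, h2⟩ : Subgroup.centralizer ({k} : Set Spor.Th))
    rwa [Subgroup.orderOf_mk, order_x5] at h3
  rcases h1 with h1 | h1
  · rw [h1] at h5
    revert h5
    norm_num
  · rw [h1] at h49
    revert h49
    norm_num

/-- `|N| = 125` -/
theorem card_N {N : Subgroup ↥(centralizer ({x5} : Set Spor.Th))}
    (hN : Core (sx KFacts.Th.Main.ctx c5) (xx gTh X5) 5 N) : Nat.card N = 125 := by
  have hfin := fin_th
  obtain ⟨f, F⟩ := CpAutTh.Local.exists_epi KFacts.Th.Main.ctx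
  have h1 : Nat.card ↥(centralizer ({x5} : Set Spor.Th)) = 24 * Nat.card N := card_H KFacts.Th.Main.ctx F hN
  have hd : Nat.card ↥(centralizer ({x5} : Set Spor.Th)) ∣ 90745943887872000 := by
    rw [← card_th]
    exact card_subgroup_dvd_card _
  obtain ⟨y, w, hyw⟩ := exists_quat KFacts.Th.Main.ctx F
  have h3 : ¬ 3 ∣ Nat.card N := by
    intro h3
    apply ThFive.not_nine order_x5 order_one x5_comm
    rw [h1]
    exact Dvd.dvd.trans (by norm_num) (Nat.mul_dvd_mul_left 24 h3)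
  have h7 : ¬ 7 ∣ Nat.card N := fun h7 => not_seven (by rw [h1]; exact Dvd.dvd.mul_left h7 _)
  have hr : ∀ r : ℕ, r.Prime → r ≠ 2 → r ≠ 5 → ¬ r ^ 2 ∣ 90745943887872000 → ¬ r ∣ Nat.card N := by
    intro r hr hr2 hr5 hr'
    exact not_dvd_of_quat hN hr hr2 hr5 (fun h4 => hr' (h4.trans hd)) hyw
  have h13 := hr 13 (by norm_num) (by norm_num) (by norm_num) (by norm_num)
  have h19 := hr 19 (by norm_num) (by norm_num) (by norm_num) (by norm_num)
  have h31 := hr 31 (by norm_num) (by norm_num) (by norm_num) (by norm_num)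
  have h2 : ¬ 2 ∣ Nat.card N := by
    have := hN.oddN
    rwa [← Nat.not_even_iff_odd, even_iff_two_dvd] at this
  have h4 : Nat.card N ∣ 125 := by
    have h5 : Nat.card N ∣ 2 ^ 15 * 3 ^ 10 * 7 ^ 2 * 13 * 19 * 31 * 125 := by
      refine (Dvd.intro_left _ h1.symm).trans (hd.trans ?_)
      norm_num
    refine Nat.Coprime.dvd_of_dvd_mul_left ?_ h5
    refine Nat.Coprime.mul_right (Nat.Coprime.mul_right (Nat.Coprime.mul_right (Nat.Coprime.mul_right
      (Nat.Coprime.mul_right ?_ ?_) ?_) ?_) ?_) ?_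
    · exact (((Nat.Prime.coprime_iff_not_dvd (by norm_num)).2 h2).symm).pow_right _
    · exact (((Nat.Prime.coprime_iff_not_dvd (by norm_num)).2 h3).symm).pow_right _
    · exact (((Nat.Prime.coprime_iff_not_dvd (by norm_num)).2 h7).symm).pow_right _
    · exact ((Nat.Prime.coprime_iff_not_dvd (by norm_num)).2 h13).symm
    · exact ((Nat.Prime.coprime_iff_not_dvd (by norm_num)).2 h19).symm
    · exact ((Nat.Prime.coprime_iff_not_dvd (by norm_num)).2 h31).symm
  have h5 : 125 ∣ Nat.card N := by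
    have h6 := dvd125
    rw [h1] at h6
    exact Nat.Coprime.dvd_of_dvd_mul_left (by norm_num) h6
  exact Nat.dvd_antisymm h4 h5

theorem card_x5 : Nat.card (centralizer ({x5} : Set Spor.Th)) = 3000 := by
  have hfin := fin_th
  obtain ⟨f, F⟩ := CpAutTh.Local.exists_epi KFacts.Th.Main.ctx
  obtain ⟨N, hN⟩ := (sit5 KFacts.Th.Main.ctx F).core
  have h1 : Nat.card ↥(centralizer ({x5} : Set Spor.Th)) = 24 * Nat.card N := card_H KFacts.Th.Main.ctx F hN
  rw [h1]
  have h2 : Nat.card N = 125 := card_N hN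
  omega

/-- the centralizers of the elements of order 5 which commute with an involution -/
theorem card_five {x s : Spor.Th} (hx : orderOf x = 5) (hs : orderOf s = 2) (hxs : x * s = s * x) :
    Nat.card (centralizer ({x} : Set Spor.Th)) = 3000 := by
  have hfin := fin_th
  obtain ⟨g, -, hg⟩ := conj_five hx hs hxs
  rw [← Cfsg.Agent.Blocks.SylowIn.card_centralizer_of_isConj (isConj_iff.2 ⟨g, hg⟩), card_x5]

end Model

end Cfsg.Agent.H227.IMTh.Five
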