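import Cfsg.Agent.H816.IMEig

/-!
# From an eigenfunction to an eigenvector of the intersection matrix (helper227)

`exists_phi` : an eigenfunction of an adjacency operator which does not vanish at `y` gives an eigenvector `φ` of
the intersection matrix, `φ o ≠ 0`.
-/

set_option autoImplicit false

namespace Cfsg.Agent.H227.BTenAvg

open Cfsg.Agent.H816.IMEig Cfsg.Agent.H816.IMEig.Col
open scoped BigOperators

universe u v

variable {G : Type u} [Group G] {X : Type v} [MulAction G X] {ι : Type} [Fintype ι] [DecidableEq ι]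
variable {c : X → X → ι} {o : ι} [Fintype X] [DecidableEq X]

theorem AA_prep (h : Col G X ι c o) (a : ι) (g : G) (f : X → ℂ) : AA c a (prep G X g f) = prep G X g (AA c a f) := by
  funext x
  rw [prep_apply, AA_apply, AA_apply]
  refine Fintype.sum_equiv (MulAction.toPerm g⁻¹) _ _ fun z => ?_
  rw [prep_apply]
  have h1 : c (g⁻¹ • x) (g⁻¹ • z) = c x z := h.inv g⁻¹ x z
  show _ = if c (g⁻¹ • x) (g⁻¹ • z) = a then f (g⁻¹ • z) else 0
  rw [h1]

theorem exists_phi [Finite G] (h : Col G X ι c o) {a : ι} {θ : ℂ} {f : X → ℂ} (hf : AA c a f = θ • f) {y : X}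
    (hy : f y ≠ 0) : ∃ φ : ι → ℂ, φ o ≠ 0 ∧ ∀ x, ∑ w, (nn c a x y w : ℂ) * φ w = θ * φ (c x y) := by
  classical
  let H : Subgroup G := MulAction.stabilizer G y
  have : Fintype H := Fintype.ofFinite H
  set f' : X → ℂ := ∑ g : H, prep G X (g : G) f with hf'
  have hA : AA c a f' = θ • f' := by
    rw [hf', map_sum, Finset.smul_sum]
    refine Finset.sum_congr rfl fun g _ => ?_
    rw [AA_prep h, hf, map_smul]
  have hf'y : f' y = (Fintype.card H : ℂ) * f y := by
    rw [hf', Finset.sum_apply]
    have h1 : ∀ g : H, prep G X (g : G) f y = f y := by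
      intro g
      rw [prep_apply]
      congr 1
      exact inv_smul_eq_iff.2 (g.2 : (g : G) • y = y).symm
    simp only [h1, Finset.sum_const, Finset.card_univ, nsmul_eq_mul]
  have hinv : ∀ g : H, prep G X (g : G) f' = f' := by
    intro g
    rw [hf', map_sum]
    have h1 : ∀ k : H, prep G X (g : G) (prep G X (k : G) f) = prep G X ((g * k : H) : G) f := by
      intro k
      rw [Subgroup.coe_mul, map_mul]
      rfl
    simp only [h1]
    exact Fintype.sum_equiv (Equiv.mulLeft g) _ _ fun _ => rfl
  have hcol : ∀ x x' : X, c x y = c x' y → f' x = f' x' := by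
    intro x x' hxx
    obtain ⟨g, hg1, hg2⟩ := h.tr x y x' y hxx
    have h1 := congrFun (hinv ⟨g, hg2⟩) x'
    rw [prep_apply] at h1
    rw [← h1]
    congr 1
    exact (inv_smul_eq_iff.2 hg1.symm).symm
  set φ : ι → ℂ := fun u => if hu : ∃ x, c x y = u then f' hu.choose else 0 with hφ
  have hφc : ∀ x, φ (c x y) = f' x := by
    intro x
    have hu : ∃ x', c x' y = c x y := ⟨x, rfl⟩
    rw [hφ]
    simp only [dif_pos hu]
    exact hcol _ _ hu.choose_spec
  have hf'eq : f' = fun x => φ (c x y) := funext fun x => (hφc x).symm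
  refine ⟨φ, ?_, fun x => ?_⟩
  · have h1 : φ o = f' y := by rw [← hφc y, h.self]
    rw [h1, hf'y]
    have : (Fintype.card H : ℂ) ≠ 0 := by
      have := Fintype.card_pos (α := H)
      exact_mod_cast this.ne'
    exact mul_ne_zero this hy
  · rw [← AA_col a φ x y, ← hf'eq, hA]
    show θ * f' x = _
    rw [hφc]

end Cfsg.Agent.H227.BTenAvg
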