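import Cfsg.Agent.H227.BTenDeg
import Cfsg.Agent.MonsterP.NodesDone
import Cfsg.Agent.BM.KHAll

/-!
# Degrees of irreducible characters of the Baby Monster (helper227)

`exists_chi_N` : a group isomorphic to the Baby Monster has an irreducible complex character of degree `N` for
`N = 9458750, 9287037474, 536105794455, 4275362520, 4375623425250` (divisible by `49`), `6145833622500`,
`635966233056` : constituents of the permutation character of rank ten and of degree `11707448673375` on the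
involutions of class `2B`.
-/

set_option autoImplicit false

namespace Cfsg.Agent.H227.BTenB

open Cfsg Cfsg.Agent.MonsterX Cfsg.Agent.MonsterX.Space Cfsg.Agent.MonsterX.Conc Cfsg.Agent.MonsterX.InstData
open Cfsg.Agent.MonsterX.Model Cfsg.Agent.MonsterX.MainBasic Cfsg.Agent.MonsterX.MainPack Cfsg.Agent.MonsterX.MainSimple
open Cfsg.Agent.MonsterX.BabyQuot Cfsg.Agent.H816.MEnt Cfsg.Agent.H227.BTenCol Cfsg.Agent.H227.BTenDeg
open Subgroup

universe u

theorem hB : MBaby M := Cfsg.Agent.MonsterU.Uncond.all.hB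

/-- The involution of `a₀`. -/
noncomputable def t : ↥M.G := tG hG hR

theorem bh : BabyHyp (zG hG) t (M.Q.subgroupOf M.G) := babyHyp hG hR hL hO H816.MEnt.hT hB

/-- The centraliser of the involution of `a₀` as the stabiliser of `a₀`. -/
noncomputable def toSt : ↥(centralizer ({t} : Set ↥M.G)) →* ↥BTenCol.St where
  toFun g := ⟨g.1.1, g.1.2, (mem_cent_t_iff' hG hR hL hO H816.MEnt.hT g.1).1 g.2⟩
  map_one' := rfl
  map_mul' _ _ := rfl

theorem toSt_val (g : ↥(centralizer ({t} : Set ↥M.G))) : ((toSt g : ↥BTenCol.St) : V ≃ₗ[ℚ] V) = (g.1 : V ≃ₗ[ℚ] V) := rfl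

theorem toSt_surj : Function.Surjective toSt := fun g =>
  ⟨⟨⟨g.1, g.2.1⟩, (mem_cent_t_iff' hG hR hL hO H816.MEnt.hT ⟨g.1, g.2.1⟩).2 g.2.2⟩, rfl⟩

theorem t₀_C : M.t₀ ∈ M.C := hG.Q_le hR.t₀_mem

theorem t₀_a₀ : M.t₀ M.a₀ = M.a₀ := hR.t₀_a₀

theorem t₀_a₁ : M.t₀ M.a₁ = M.a₁ := C_a₁ hR t₀_C t₀_a₀

/-- The involution of `a₀` fixes the axes orthogonal to `a₀`. -/
theorem t₀_fix (y : Om) : M.t₀ y.1 = y.1 := by
  obtain ⟨g, hg, h1⟩ := exists_g y
  have h2 : g * M.t₀ = M.t₀ * g := (MainTrans.comm_iff hG hR hL hO H816.MEnt.hT hg.1).2 hg.2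
  apply g.injective
  have h3 : g (M.t₀ y.1) = M.t₀ (g y.1) := congrArg (fun f : V ≃ₗ[ℚ] V => f y.1) h2
  rw [h3, h1, t₀_a₁]

/-- The permutations of the axes orthogonal to `a₀`. -/
noncomputable def perm₀ : ↥(centralizer ({t} : Set ↥M.G)) →* Equiv.Perm Om := (MulAction.toPermHom ↥BTenCol.St Om).comp toSt

theorem perm₀_apply (g : ↥(centralizer ({t} : Set ↥M.G))) (y : Om) : perm₀ g y = toSt g • y := rfl

theorem ker_le : ∀ g ∈ zpowers bh.tH, perm₀ g = 1 := by
  intro g hg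
  apply Equiv.ext
  intro y
  rw [perm₀_apply]
  apply Subtype.ext
  rw [BTenCol.smul_val, toSt_val]
  rcases bh.mem_zpowers_t.1 hg with h | h
  · rw [h]; rfl
  · rw [h]; exact t₀_fix y

/-- The permutations by the quotient. -/
noncomputable def perm : bh.Quot →* Equiv.Perm Om := QuotientGroup.lift (zpowers bh.tH) perm₀ ker_le

noncomputable instance : MulAction bh.Quot Om := MulAction.compHom Om perm

theorem pr_smul (g : ↥(centralizer ({t} : Set ↥M.G))) (y : Om) : bh.pr g • y = toSt g • y := rfl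

theorem hQ (q : bh.Quot) : ∃ g : ↥BTenCol.St, ∀ x : Om, q • x = g • x := by
  obtain ⟨g, rfl⟩ := bh.pr_surj q
  exact ⟨toSt g, fun x => pr_smul g x⟩

theorem hQ' (g : ↥BTenCol.St) : ∃ q : bh.Quot, ∀ x : Om, q • x = g • x := by
  obtain ⟨k, rfl⟩ := toSt_surj g
  exact ⟨bh.pr k, fun x => pr_smul k x⟩

/-! ### The quotient is the Baby Monster -/

theorem equiv_aux {Γ : Type*} [Group Γ] [Finite Γ] {z t : Γ} {Q : Subgroup Γ} {y : ℕ → Γ}
    (hP : Cfsg.Agent.Bimonster.PRel y) (ht : y 10 = t) (h : BabyHyp z t Q)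
    (hcard : Nat.card (centralizer ({t} : Set Γ)) = 2 * 4154781481226426191177580544000000)
    (hB : Cfsg.IsB Cfsg.Spor.BabyMonster) (hne : y 0 ≠ y 1) : Nonempty (Cfsg.Spor.BabyMonster ≃* h.Quot) := by
  subst ht
  have h2 : Nat.card (zpowers h.tH) = 2 := by
    rw [Nat.card_zpowers]
    apply orderOf_eq_prime
    · rw [pow_two]; exact Subtype.ext h.tt
    · intro h1; exact h.t1 (congrArg Subtype.val h1)
  have hq : Nat.card h.Quot * 2 = Nat.card (centralizer ({y 10} : Set Γ)) := by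
    have h1 := card_eq_card_quotient_mul_card_subgroup (zpowers h.tH)
    rw [h1, h2]
  exact Cfsg.Agent.MonsterU.BabyCover.mulEquiv hP h (by rw [hB.2]; rw [hcard] at hq; omega) hB.1 hne

instance : Finite ↥M.G := G_finite hO

open Cfsg.Agent.MonsterP.NodeData in
theorem equiv : Nonempty (Cfsg.Spor.BabyMonster ≃* bh.Quot) := by
  have hmem : W (aw 10) ∈ M.G := FieldsP.W_mem_G' (by decide +kernel)
  set g : ↥M.G := ⟨W (aw 10), hmem⟩ with hg
  have hP := (Cfsg.Agent.MonsterP.NodesDone.prel hO).map (MulAut.conj g⁻¹).toMonoidHom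
  have h10 : (MulAut.conj g⁻¹).toMonoidHom (Cfsg.Agent.MonsterP.NodesDone.y hO 10) = t := by
    show g⁻¹ * Cfsg.Agent.MonsterP.NodesDone.y hO 10 * g⁻¹⁻¹ = _
    apply Subtype.ext
    show (g : V ≃ₗ[ℚ] V)⁻¹ * (Cfsg.Agent.MonsterP.NodesDone.y hO 10 : V ≃ₗ[ℚ] V) * (g : V ≃ₗ[ℚ] V)⁻¹⁻¹ = M.t₀
    rw [Cfsg.Agent.MonsterP.NodesDone.conj hO (by norm_num : 10 < 24)]
    show (W (aw 10))⁻¹ * (W (aw 10) * M.t₀ * (W (aw 10))⁻¹) * (W (aw 10))⁻¹⁻¹ = M.t₀
    group
  exact equiv_aux hP h10 bh (card_cent_t hG hR hL hO H816.MEnt.hT) Cfsg.Agent.BM.KHAll.isB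
    (fun e => Cfsg.Agent.MonsterP.NodesDone.ne hO ((MulAut.conj g⁻¹).injective e))

instance : Finite bh.Quot := inferInstance

/-! ### The degrees -/

/-- Transport of a degree. -/
theorem transport {S : Type u} [Group S] (h : Spor.IsoB S) {n : ℕ}
    (hn : ∃ χ : bh.Quot → ℂ, IsIrrCharacter bh.Quot χ ∧ χ 1 = n) :
    ∃ χ : S → ℂ, IsIrrCharacter S χ ∧ χ 1 = n := by
  obtain ⟨e⟩ := h
  obtain ⟨e'⟩ := equiv
  obtain ⟨χ, h1, h2⟩ := hn
  let f : S ≃* bh.Quot := e.trans e'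
  exact ⟨χ ∘ f.toMonoidHom, Cfsg.Agent.Characters.Core.isIrr_comp f.toMonoidHom f.surjective h1, by
    show χ (f.toMonoidHom 1) = n
    rw [map_one, h2]⟩

/-- The degrees. -/
def ds : List ℕ := [9458750, 9287037474, 536105794455, 4275362520, 4375623425250, 6145833622500, 635966233056]

theorem deg_model {d : ℕ} (hd : d ∈ ds) : ∃ χ : bh.Quot → ℂ, IsIrrCharacter bh.Quot χ ∧ χ 1 = (d : ℂ) := by
  unfold ds at hd
  simp only [List.mem_cons, List.not_mem_nil, or_false] at hd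
  rcases hd with rfl | rfl | rfl | rfl | rfl | rfl | rfl
  · exact exists_degree_of bh.Quot hQ hQ' dat_9458750
  · exact exists_degree_of bh.Quot hQ hQ' dat_9287037474
  · exact exists_degree_of bh.Quot hQ hQ' dat_536105794455
  · exact exists_degree_of bh.Quot hQ hQ' dat_4275362520
  · exact exists_degree_of bh.Quot hQ hQ' dat_4375623425250
  · exact exists_degree_of bh.Quot hQ hQ' dat_6145833622500
  · exact exists_degree_of bh.Quot hQ hQ' dat_635966233056

/-- **Degrees of the Baby Monster.** -/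
theorem exists_chi {S : Type u} [Group S] (h : Spor.IsoB S) {d : ℕ} (hd : d ∈ ds) :
    ∃ χ : S → ℂ, IsIrrCharacter S χ ∧ χ 1 = (d : ℂ) := transport h (deg_model hd)

end Cfsg.Agent.H227.BTenB
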