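import Cfsg.Agent.H227.BTenLane
import Cfsg.Agent.H816.MTab

/-!
# Lane counts over the axes orthogonal to `a₀`: kernel checks (helper227)

`tl u` : the lists of `(32 F (s, y), number of lanes)`, for the two axes `s` of a lane orthogonal to `a₀`,
`y` the `u`-th representative.
-/

set_option autoImplicit false
set_option maxRecDepth 100000
set_option Elab.async false

namespace Cfsg.Agent.H227.BTenChk

open Cfsg.Agent.H227.BTenLane Cfsg.Agent.H816.MTab

/-- The representatives: the ten entries orthogonal to `a₀`, then the entries of inner product `1`. -/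
def es : List Ent := [(0, 0, false), (0, 2, false), (1, 0, false), (1, 2, false), (2, 0, false), (4, 3, false), (3, 3, false), (5, 0, false), (6, 5, false), (9, 3, false), (0, 1, false), (0, 1, true), (1, 0, true), (2, 1, true), (3, 0, false), (5, 4, true)]

/-- The tables. -/
def tl : List (List (ℕ × ℕ) × List (ℕ × ℕ)) := [
  ([(0, 46575)], [(0, 46575)]),
  ([(0, 21582), (8, 22528), (32, 2464), (256, 1)], [(0, 21583), (8, 22528), (32, 2464)]),
  ([(0, 2191), (4, 32256), (8, 12096), (32, 32)], [(0, 2192), (4, 32256), (8, 12096), (32, 31)]),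
  ([(0, 919), (4, 26880), (8, 18720), (32, 56)], [(0, 911), (4, 26880), (8, 18720), (32, 64)]),
  ([(0, 205), (4, 15232), (5, 21504), (8, 8592), (13, 1024), (32, 18)], [(0, 216), (4, 15232), (5, 21504), (8, 8575), (13, 1024), (32, 24)]),
  ([(0, 7), (4, 2520), (5, 26880), (6, 15360), (8, 1808)], [(0, 8), (4, 2520), (5, 26880), (6, 15360), (8, 1807)]),
  ([(0, 14), (4, 5144), (5, 21760), (6, 16384), (8, 3016), (13, 256), (32, 1)], [(0, 16), (4, 5143), (5, 21760), (6, 16384), (8, 3016), (13, 256)]),
  ([(4, 12420), (5, 12528), (6, 20736), (8, 427), (13, 464)], [(4, 12528), (5, 12420), (6, 20736), (8, 464), (13, 427)]),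
  ([(4, 1508), (5, 26764), (6, 16064), (8, 2219), (13, 20)], [(4, 1552), (5, 26687), (6, 16192), (8, 2128), (13, 16)]),
  ([(4, 1894), (5, 26976), (6, 15576), (8, 2081), (13, 48)], [(4, 1956), (5, 26924), (6, 15599), (8, 2044), (13, 52)]),
  ([(0, 24948), (8, 20736), (32, 891)], [(0, 24948), (8, 20736), (32, 891)]),
  ([(0, 24948), (8, 20736), (32, 891)], [(0, 24948), (8, 20736), (32, 891)]),
  ([(0, 2196), (4, 32256), (8, 12096), (32, 27)], [(0, 2187), (4, 32256), (8, 12096), (32, 36)]),
  ([(0, 222), (4, 21120), (5, 22528), (8, 2704), (32, 1)], [(0, 240), (4, 21120), (5, 22528), (8, 2687)]),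
  ([(0, 31), (4, 13208), (5, 32256), (8, 1080)], [(0, 32), (4, 13207), (5, 32256), (8, 1080)]),
  ([(4, 12388), (5, 33760), (8, 427)], [(4, 12560), (5, 33551), (8, 464)])]

/-- The check of a representative. -/
noncomputable def ck (n k : ℕ) : Bool :=
  chkO n (wd (es.getD k (0, 0, false))) (tl.getD k ([], [])).1 (tl.getD k ([], [])).2

theorem c0 : ck 3 0 = true := by decide +kernel

theorem c1 : ck 3 1 = true := by decide +kernel

theorem c2 : ck 3 2 = true := by decide +kernel

theorem c3 : ck 3 3 = true := by decide +kernel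

theorem c4 : ck 3 4 = true := by decide +kernel

theorem c5 : ck 5 5 = true := by decide +kernel

theorem c6 : ck 5 6 = true := by decide +kernel

theorem c7 : ck 6 7 = true := by decide +kernel

theorem c8 : ck 6 8 = true := by decide +kernel

theorem c9 : ck 6 9 = true := by decide +kernel

theorem c10 : ck 3 10 = true := by decide +kernel

theorem c11 : ck 3 11 = true := by decide +kernel

theorem c12 : ck 3 12 = true := by decide +kernel

theorem c13 : ck 3 13 = true := by decide +kernel

theorem c14 : ck 5 14 = true := by decide +kernel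

theorem c15 : ck 6 15 = true := by decide +kernel

end Cfsg.Agent.H227.BTenChk
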