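import Cfsg.Agent.H227.BTenCol

/-!
# The subdegrees of the ten orbitals (helper227)

`kk_eq` : the numbers of the points of colour `u` from the base point; `isCol` : the structure `Col`.
-/

set_option autoImplicit false
set_option maxRecDepth 100000

namespace Cfsg.Agent.H227.BTenCnt

open Cfsg Cfsg.Agent.MonsterX Cfsg.Agent.MonsterX.Space Cfsg.Agent.MonsterX.Conc Cfsg.Agent.MonsterX.InstData
open Cfsg.Agent.MonsterX.Model Cfsg.Agent.MonsterX.MainBasic Cfsg.Agent.MonsterX.CertUTab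
open Cfsg.Agent.H816.MTab Cfsg.Agent.H816.MCol Cfsg.Agent.H816.MEnt Cfsg.Agent.H816.MCnt
open Cfsg.Agent.H816.IMEig Cfsg.Agent.H227.BTenCol
open Cfsg.Agent.H816.MSch (XT SX σX σX_val dX CG n12 b0 σX_b0 b0_S S_card)
open scoped BigOperators

/-- The class and the second colour of a colour. -/
def jk (u : Fin 10) : Fin 12 × Fin 9 :=
  ([(0, 0), (0, 2), (1, 1), (1, 2), (2, 5), (4, 5), (3, 6), (5, 3), (6, 8), (9, 7)] : List (Fin 12 × Fin 9)).getD u.1 (0, 0)

theorem jk_ok : ∀ e ∈ L12, ∀ u : Fin 10, cd e.1 (k1 e) = u ↔ e.1 = (jk u).1.1 ∧ k1 e = (jk u).2.1 := by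
  decide +kernel

theorem kap_b1 (y : Om) : kap b1 y = cd (cls y.1).1 (col M M.a₁ y.1).1 :=
  kap_of BTenCol.St.one_mem (x := b1) rfl y

theorem exists_ent1 (y : Om) : ∃ e ∈ L12, (cls y.1).1 = e.1 ∧ (col M M.a₁ y.1).1 = k1 e := by
  obtain ⟨n, hn, n0, e, he, h1, h2, h3, h4⟩ := exists_ent BTenCol.St.one_mem y
  exact ⟨e, mem_L12 he h2, h3, h4⟩

/-- The colour from the base point. -/
theorem kap_b1_iff (y : Om) (u : Fin 10) : kap b1 y = u ↔ cls y.1 = (jk u).1 ∧ col M M.a₁ y.1 = (jk u).2 := by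
  obtain ⟨e, he, h1, h2⟩ := exists_ent1 y
  rw [kap_b1, h1, h2, jk_ok e he u, ← h1, ← h2, Fin.ext_iff, Fin.ext_iff]

/-! ### The refined count -/

/-- The refined colour. -/
noncomputable def c2 (x y : XT) : Fin 9 × Fin 12 := (H816.MSch.c x y, cls y.1)

theorem c2_C (g : ↥M.G) (hg : g ∈ CG) (x y : XT) : c2 (g • x) (g • y) = c2 x y := by
  unfold c2
  rw [H816.MSch.c_inv]
  exact Prod.ext rfl (cls_C y.2 (g := (g : V ≃ₗ[ℚ] V)) hg)

/-- The numbers for the refined colour. -/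
def m2 (j : Fin 12) (u w : Fin 9 × Fin 12) : ℕ := if u.2 = j ∧ w.2 = j then mt j.1 u.1 w.1 else 0

theorem hm2 (j : Fin 12) (u w : Fin 9 × Fin 12) :
    {s | s ∈ SX ∧ c2 s (dX j) = u ∧ c2 (σX s) (dX j) = w}.ncard = m2 j u w := by
  have hj : cls (dX j).1 = j := cls_of (j := j) M.C.one_mem rfl
  unfold m2
  split_ifs with h
  · rw [← H816.MSch.hm j u.1 w.1]
    congr 1
    ext s
    constructor
    · rintro ⟨h1, h2, h3⟩
      exact ⟨h1, congrArg Prod.fst h2, congrArg Prod.fst h3⟩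
    · rintro ⟨h1, h2, h3⟩
      exact ⟨h1, Prod.ext h2 (by rw [h.1]; exact hj), Prod.ext h3 (by rw [h.2]; exact hj)⟩
  · rw [show {s | s ∈ SX ∧ c2 s (dX j) = u ∧ c2 (σX s) (dX j) = w} = ∅ from ?_, Set.ncard_empty]
    rw [Set.eq_empty_iff_forall_notMem]
    rintro s ⟨-, h2, h3⟩
    apply h
    have h4 : cls (dX j).1 = u.2 := congrArg Prod.snd h2
    have h5 : cls (dX j).1 = w.2 := congrArg Prod.snd h3
    exact ⟨by rw [← h4, hj], by rw [← h5, hj]⟩

theorem count2 (u w : Fin 9 × Fin 12) :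
    196560 * Nat.card {y // c2 b0 y = u ∧ c2 H816.MSch.b1 y = w} = ∑ j, n12 j * m2 j u w := by
  have h := H816.SchemeAbs.count_tt CG c2 c2_C b0 σX SX ?_ ?_ ?_ dX n12 H816.MSch.hn ?_ ?_ m2 hm2 u w
  · rw [σX_b0, S_card] at h
    exact h
  · rintro s ⟨g, hg, hs⟩
    exact ⟨⟨g, C_le hg⟩, hg, Subtype.ext hs.symm⟩
  · intro g hg
    apply Subtype.ext
    have h1 : (g • b0).1 ∈ M.S := C_S hg b0_S
    rw [σX_val h1, H816.MSch.smul_val, H816.MSch.smul_val, σX_val b0_S]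
    exact hR.σ_comm _ hg _
  · intro g hg s hs
    have h1 : (g • s).1 ∈ M.S := C_S hg hs
    refine ⟨h1, Subtype.ext ?_⟩
    rw [σX_val h1, H816.MSch.smul_val, H816.MSch.smul_val, σX_val hs]
    exact hR.σ_comm _ hg _
  · rintro ⟨x, j, g, hg, hx⟩
    exact ⟨j, ⟨g, C_le hg⟩, hg, Subtype.ext hx⟩
  · intro j k g hg h
    exact hO.disjoint j k g.1 hg (congrArg Subtype.val h)

theorem count3 (j : Fin 12) (k : Fin 9) :
    196560 * Nat.card {y // c2 b0 y = (2, j) ∧ c2 H816.MSch.b1 y = (k, j)} = n12 j * mt j.1 2 k := by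
  rw [count2, Finset.sum_eq_single j]
  · unfold m2
    rw [if_pos ⟨rfl, rfl⟩]
  · intro i _ hi
    unfold m2
    rw [if_neg (fun h => hi h.1.symm), Nat.mul_zero]
  · intro h; exact absurd (Finset.mem_univ _) h

/-- The subdegrees. -/
def nL : List ℕ := [1, 93150, 7286400, 262310400, 4196966400, 537211699200, 470060236800, 9646899200,
  6685301145600, 4000762036224]

/-- The subdegrees. -/
def nk (u : Fin 10) : ℕ := nL.getD u.1 0

theorem nk_ok : ∀ u : Fin 10, CertVec.nth 0 CertLenT.clsT (jk u).1.1 * mt (jk u).1.1 2 (jk u).2 = 196560 * nk u := by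
  decide +kernel

/-- **The subdegrees.** -/
theorem kk_eq (u : Fin 10) : Col.kk kap b1 u = nk u := by
  have h1 : Col.kk kap b1 u = Nat.card {y // c2 b0 y = (2, (jk u).1) ∧ c2 H816.MSch.b1 y = ((jk u).2, (jk u).1)} := by
    unfold Col.kk
    refine Nat.card_congr ⟨fun y => ⟨⟨y.1.1, y.1.2.1⟩, ?_, ?_⟩, fun y => ⟨⟨y.1.1, y.1.2, ?_⟩, ?_⟩, fun _ => rfl,
      fun _ => rfl⟩
    · obtain ⟨h2, h3⟩ := (kap_b1_iff y.1 u).1 y.2
      exact Prod.ext ((col_two a₀_X y.1.2.1).2 y.1.2.2) h2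
    · obtain ⟨h2, h3⟩ := (kap_b1_iff y.1 u).1 y.2
      exact Prod.ext h3 h2
    · exact (col_two a₀_X y.1.2).1 (congrArg Prod.fst y.2.1)
    · exact (kap_b1_iff _ u).2 ⟨congrArg Prod.snd y.2.2, congrArg Prod.fst y.2.2⟩
  have h2 := count3 (jk u).1 (jk u).2
  rw [← h1] at h2
  have h3 : n12 (jk u).1 * mt (jk u).1.1 2 (jk u).2 = 196560 * nk u := nk_ok u
  rw [h3] at h2
  exact Nat.eq_of_mul_eq_mul_left (by norm_num) h2

theorem nk_inj : ∀ u w : Fin 10, nk u = nk w → u = w := by decide +kernel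

theorem kap_symm (x y : Om) : kap x y = kap y x := by
  rcases Nat.lt_trichotomy (nk (kap x y)) (nk (kap y x)) with h | h | h
  · rw [← kk_eq, ← kk_eq] at h
    exact (H816.SchemeSymm.no_swap kap_inv kap_tr trans b1 h (x := y) (y := x) rfl rfl).elim
  · exact nk_inj _ _ h
  · rw [← kk_eq, ← kk_eq] at h
    exact (H816.SchemeSymm.no_swap kap_inv kap_tr trans b1 h (x := x) (y := y) rfl rfl).elim

/-- **The colouring.** -/
theorem isCol : Col ↥BTenCol.St Om (Fin 10) kap 0 where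
  inv := kap_inv
  tr := kap_tr
  diag := kap_diag
  symm := kap_symm

theorem card_Om : Nat.card Om = 11707448673375 := by
  have e : Om ≃ Σ u : Fin 10, {y // kap b1 y = u} :=
    ⟨fun y => ⟨kap b1 y, y, rfl⟩, fun y => y.2.1, fun _ => rfl, fun y => by
      obtain ⟨w, y, rfl⟩ := y
      rfl⟩
  rw [Nat.card_congr e, Nat.card_sigma]
  have h : ∀ u : Fin 10, Nat.card {y // kap b1 y = u} = nk u := kk_eq
  simp only [h, Fin.sum_univ_succ, Fin.sum_univ_zero]
  decide +kernel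

end Cfsg.Agent.H227.BTenCnt
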