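import Cfsg.Agent.H816.MSch
import Cfsg.Agent.H227.BTenChk

/-!
# The ten orbitals of the stabiliser of `a₀` on the axes orthogonal to `a₀` (helper227)

`Om` : the axes orthogonal to `a₀`; `St` : the stabiliser of `a₀` in `M.G`; `kap x y : Fin 10` : the colour of
a pair; `kap_inv`, `kap_tr`, `kap_diag`.
-/

set_option autoImplicit false
set_option maxRecDepth 100000

namespace Cfsg.Agent.H227.BTenCol

open Cfsg Cfsg.Agent.MonsterX Cfsg.Agent.MonsterX.Space Cfsg.Agent.MonsterX.Conc Cfsg.Agent.MonsterX.InstData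
open Cfsg.Agent.MonsterX.Model Cfsg.Agent.MonsterX.MainBasic Cfsg.Agent.MonsterX.CertUTab
open Cfsg.Agent.H816.MTab Cfsg.Agent.H816.MCol Cfsg.Agent.H816.MEnt Cfsg.Agent.H816.MCnt
open Cfsg.Agent.H816.IMEig

/-! ### The class of an axis -/

open Classical in
/-- The class of an axis. -/
noncomputable def cls (y : V) : Fin 12 := if h : ∃ j : Fin 12, ∃ g ∈ M.C, y = g (M.d j) then h.choose else 0

theorem cls_of {y : V} {j : Fin 12} {g : V ≃ₗ[ℚ] V} (hg : g ∈ M.C) (h : y = g (M.d j)) : cls y = j := by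
  have h0 : ∃ j : Fin 12, ∃ g ∈ M.C, y = g (M.d j) := ⟨j, g, hg, h⟩
  unfold cls
  rw [dif_pos h0]
  obtain ⟨k, hk, e⟩ := h0.choose_spec
  refine hO.disjoint _ _ (g⁻¹ * k) (M.C.mul_mem (M.C.inv_mem hg) hk) ?_
  rw [LinearEquiv.mul_apply, ← e, h, inv_apply']

theorem cls_C {y : V} (hy : y ∈ M.X) {g : V ≃ₗ[ℚ] V} (hg : g ∈ M.C) : cls (g y) = cls y := by
  obtain ⟨j, k, hk, e⟩ := hy
  rw [cls_of hk e]
  exact cls_of (M.C.mul_mem hg hk) (by rw [e]; rfl)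

/-! ### The axes orthogonal to `a₀` -/

/-- The axes orthogonal to `a₀`. -/
abbrev Om : Type := {y : V // y ∈ M.X ∧ M.F M.a₀ y = 0}

/-- The stabiliser of `a₀`. -/
def St : Subgroup (V ≃ₗ[ℚ] V) where
  carrier := {g | g ∈ M.G ∧ g M.a₀ = M.a₀}
  mul_mem' := fun {a b} ha hb => ⟨M.G.mul_mem ha.1 hb.1, by rw [LinearEquiv.mul_apply, hb.2, ha.2]⟩
  one_mem' := ⟨M.G.one_mem, rfl⟩
  inv_mem' := fun {a} ha => ⟨M.G.inv_mem ha.1, (eq_inv_apply a ha.2).symm⟩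

theorem St_iff {g : V ≃ₗ[ℚ] V} : g ∈ St ↔ g ∈ M.G ∧ g M.a₀ = M.a₀ := Iff.rfl

theorem St_F {g : V ≃ₗ[ℚ] V} (hg : g ∈ St) (y : V) : M.F M.a₀ (g y) = M.F M.a₀ y := by
  nth_rewrite 1 [← hg.2]
  exact G_isom hO hR hg.1 _ _

noncomputable instance : MulAction ↥St Om where
  smul g x := ⟨(g : V ≃ₗ[ℚ] V) x.1, G_X hO g.2.1 x.2.1, by rw [St_F g.2]; exact x.2.2⟩
  one_smul _ := rfl
  mul_smul _ _ _ := rfl

theorem smul_val (g : ↥St) (x : Om) : (g • x).1 = (g : V ≃ₗ[ℚ] V) x.1 := rfl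

instance : Finite Om := by
  have h : Finite {y : V // y ∈ M.X} := (X_finite hO).to_subtype
  exact Finite.of_injective (fun y : Om => (⟨y.1, y.2.1⟩ : {y : V // y ∈ M.X}))
    fun x y h => Subtype.ext (congrArg (fun z => z.1) h)

theorem vv_two : vv 2 = 0 := by decide

/-- Orthogonality and the colour. -/
theorem col_two {x y : V} (hx : x ∈ M.X) (hy : y ∈ M.X) : col M x y = 2 ↔ M.F x y = 0 := by
  rw [F_iff hx hy (by decide) (by decide), vv_two]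
  norm_num

/-- The base point. -/
noncomputable def b1 : Om := ⟨M.a₁, a₁_X, (col_two a₀_X a₁_X).1 H816.MSch.c_b1⟩

theorem exists_g (x : Om) : ∃ g ∈ St, g x.1 = M.a₁ := by
  obtain ⟨g, hg, h0, h1⟩ := H816.MEnt.tr a₀_X x.2.1 a₀_X a₁_X
    (((col_two a₀_X x.2.1).2 x.2.2).trans H816.MSch.c_b1.symm)
  exact ⟨g, ⟨hg, h0⟩, h1⟩

theorem trans (x y : Om) : ∃ g : ↥St, g • x = y := by
  obtain ⟨g, hg, h1⟩ := exists_g x
  obtain ⟨k, hk, h2⟩ := exists_g y
  refine ⟨⟨k, hk⟩⁻¹ * ⟨g, hg⟩, ?_⟩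
  rw [mul_smul, inv_smul_eq_iff]
  apply Subtype.ext
  rw [smul_val, smul_val]
  exact h1.trans h2.symm

/-! ### The colours -/

/-- The colour from the class and the second colour. -/
def cd (j k : ℕ) : Fin 10 :=
  if j = 0 then (if k = 0 then 0 else 1) else if j = 1 then (if k = 1 then 2 else 3) else
    if j = 2 then 4 else if j = 4 then 5 else if j = 3 then 6 else if j = 5 then 7 else if j = 6 then 8 else 9

/-- The colour of a pair. -/
noncomputable def kap (x y : Om) : Fin 10 := cd (cls ((exists_g x).choose y.1)).1 (col M x.1 y.1).1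

theorem mem_C_of {g : V ≃ₗ[ℚ] V} (hg : g ∈ St) (h1 : g M.a₁ = M.a₁) : g ∈ M.C :=
  pair_stab hG hR hL hO hg.1 hg.2 h1

theorem kap_of {g : V ≃ₗ[ℚ] V} (hg : g ∈ St) {x : Om} (hx : g x.1 = M.a₁) (y : Om) :
    kap x y = cd (cls (g y.1)).1 (col M M.a₁ (g y.1)).1 := by
  unfold kap
  set k := (exists_g x).choose with hk
  obtain ⟨k1, k2⟩ := (exists_g x).choose_spec
  rw [← hk] at k1 k2
  have h1 : k * g⁻¹ ∈ M.C := by
    refine mem_C_of (St.mul_mem k1 (St.inv_mem hg)) ?_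
    rw [LinearEquiv.mul_apply, ← hx, inv_apply', k2, hx]
  have h2 : k y.1 = (k * g⁻¹) (g y.1) := by rw [LinearEquiv.mul_apply, inv_apply']
  have h3 : cls (k y.1) = cls (g y.1) := by
    rw [h2]
    exact cls_C (G_X hO hg.1 y.2.1) h1
  have h4 : col M x.1 y.1 = col M M.a₁ (g y.1) := by
    rw [← hx]
    exact (col_smul hG hR hL hO H816.MEnt.hT hg.1 x.2.1 _).symm
  rw [h3, h4]

theorem kap_inv (g : ↥St) (x y : Om) : kap (g • x) (g • y) = kap x y := by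
  obtain ⟨k, hk, h1⟩ := exists_g x
  have h2 : (k * (g : V ≃ₗ[ℚ] V)⁻¹) (g • x).1 = M.a₁ := by
    rw [smul_val, LinearEquiv.mul_apply, inv_apply', h1]
  have h3 : (k * (g : V ≃ₗ[ℚ] V)⁻¹) (g • y).1 = k y.1 := by
    rw [smul_val, LinearEquiv.mul_apply, inv_apply']
  rw [kap_of (St.mul_mem hk (St.inv_mem g.2)) h2, kap_of hk h1, h3]

/-- The entry of a pair. -/
theorem exists_ent {g : V ≃ₗ[ℚ] V} (hg : g ∈ St) (y : Om) : ∃ n ∈ M.C, n M.a₀ = M.a₀ ∧
    ∃ e : Ent, Val e ∧ n (g y.1) = yE e ∧ k0 e = 2 ∧ cls (g y.1) = e.1 ∧ (col M M.a₁ (g y.1)).1 = k1 e := by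
  have hy : g y.1 ∈ M.X := G_X hO hg.1 y.2.1
  obtain ⟨n, hn, n0, e, he, h1, j, hj, k, hk, h2⟩ := cov_N hy
  refine ⟨n, hn, n0, e, he, h1, ?_, ?_, ?_⟩
  · have h3 : col M M.a₀ (g y.1) = 2 := by
      rw [col_two a₀_X hy, St_F hg]
      exact y.2.2
    rw [← col_k0 he, ← h1]
    nth_rewrite 1 [← n0]
    rw [col_smul hG hR hL hO H816.MEnt.hT (C_le hn) a₀_X, h3]
    rfl
  · rw [cls_of hk h2, hj]
  · rw [← col_k1 he, ← h1]
    nth_rewrite 2 [← C_a₁ hR hn n0]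
    rw [col_smul hG hR hL hO H816.MEnt.hT (C_le hn) a₁_X]

/-! ### The representatives -/

/-- The entries orthogonal to `a₀`. -/
def L12 : List Ent := [(0, 0, false), (0, 2, false), (0, 2, true), (1, 0, false), (1, 2, false), (1, 2, true),
  (2, 0, false), (3, 3, false), (4, 3, false), (5, 0, false), (6, 5, false), (9, 3, false)]

theorem L12_ok : ∀ j < 12, ∀ m < nr j, ∀ b : Bool, k0 (j, m, b) = 2 → (L12.any (eqE (j, m, b))) = true := by
  decide +kernel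

theorem mem_L12 {e : Ent} (he : Val e) (h : k0 e = 2) : e ∈ L12 := by
  have h1 := L12_ok e.1 he.1 e.2.1 he.2 e.2.2 h
  obtain ⟨e', h2, h3⟩ := List.any_eq_true.1 h1
  rw [show e = e' from eqE_sound h3]
  exact h2

/-- The representative of a colour. -/
def rp (u : Fin 10) : Ent := ([(0, 0, false), (0, 2, false), (1, 0, false), (1, 2, false), (2, 0, false),
  (4, 3, false), (3, 3, false), (5, 0, false), (6, 5, false), (9, 3, false)] : List Ent).getD u.1 (0, 0, false)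

/-- Conjugate under the stabiliser of the pair `(a₀, a₁)`. -/
def Eq2 (y y' : V) : Prop := ∃ g ∈ M.G, g M.a₀ = M.a₀ ∧ g M.a₁ = M.a₁ ∧ g y = y'

theorem eq_02 : yE (0, 2, true) = yE (0, 2, false) := by
  rw [yE_wd, yE_wd]
  exact W_eq_of_up (n := 8) (by decide +kernel)

theorem w5683 : W (H816.MTab.wd (1, 2, true) ++ [5, 6, 8, 3]) (vecV a0B) = W (H816.MTab.wd (1, 2, false)) (vecV a0B) :=
  W_eq_of_up (n := 8) (by decide +kernel)

theorem w5683_a₀ : W [5, 6, 8, 3] (vecV a0B) = vecV a0B := by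
  have h : W [5, 6, 8, 3] (vecV a0B) = W [] (vecV a0B) := W_eq_of_up (n := 0) (by decide +kernel)
  rw [h, W_nil]
  rfl

theorem w5683_a₁ : W [5, 6, 8, 3] (vecV a1B) = vecV a1B := by
  have h : W [5, 6, 8, 3] (vecV a1B) = W [] (vecV a1B) := W_eq_of_up (n := 0) (by decide +kernel)
  rw [h, W_nil]
  rfl

theorem eq2_12 : Eq2 (yE (1, 2, true)) (yE (1, 2, false)) := by
  refine ⟨W [5, 6, 8, 3], FieldsP.W_mem_G' (by decide), ?_, ?_, ?_⟩
  · rw [M_a₀]; exact w5683_a₀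
  · rw [M_a₁]; exact w5683_a₁
  · rw [yE_wd, yE_wd, ← w5683, W_append]; rfl

theorem rp_ok : ∀ e ∈ L12, e = rp (cd e.1 (k1 e)) ∨ e = (0, 2, true) ∨ e = (1, 2, true) := by decide +kernel

theorem rp_02 : rp (cd 0 (k1 (0, 2, true))) = (0, 2, false) := by decide +kernel

theorem rp_12 : rp (cd 1 (k1 (1, 2, true))) = (1, 2, false) := by decide +kernel

/-- Every entry is conjugate to the representative of its colour. -/
theorem eq2_rp {e : Ent} (he : Val e) (h : k0 e = 2) : Eq2 (yE e) (yE (rp (cd e.1 (k1 e)))) := by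
  rcases rp_ok e (mem_L12 he h) with h1 | h1 | h1
  · rw [← h1]
    exact ⟨1, M.G.one_mem, rfl, rfl, rfl⟩
  · subst h1
    refine ⟨1, M.G.one_mem, rfl, rfl, ?_⟩
    show yE (0, 2, true) = yE (rp (cd 0 (k1 (0, 2, true))))
    rw [rp_02, eq_02]
  · subst h1
    show Eq2 (yE (1, 2, true)) (yE (rp (cd 1 (k1 (1, 2, true)))))
    rw [rp_12]
    exact eq2_12

/-- **Normal form.** -/
theorem exists_nf (x y : Om) : ∃ g : ↥St, g • x = b1 ∧ (g • y).1 = yE (rp (kap x y)) := by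
  obtain ⟨g, hg, h1⟩ := exists_g x
  obtain ⟨n, hn, n0, e, he, h2, h3, h4, h5⟩ := exists_ent hg y
  obtain ⟨m, hm, m0, m1, h6⟩ := eq2_rp he h3
  have hk : kap x y = cd e.1 (k1 e) := by rw [kap_of hg h1, h4, h5]
  refine ⟨⟨m, hm, m0⟩ * (⟨n, C_le hn, n0⟩ * ⟨g, hg⟩), ?_, ?_⟩
  · apply Subtype.ext
    show m (n (g x.1)) = M.a₁
    rw [h1, C_a₁ hR hn n0, m1]
  · show m (n (g y.1)) = _
    rw [h2, h6, hk]

theorem kap_tr (x y x' y' : Om) (h : kap x y = kap x' y') : ∃ g : ↥St, g • x = x' ∧ g • y = y' := by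
  obtain ⟨g, g1, g2⟩ := exists_nf x y
  obtain ⟨k, k1, k2⟩ := exists_nf x' y'
  refine ⟨k⁻¹ * g, ?_, ?_⟩
  · rw [mul_smul, inv_smul_eq_iff, g1, k1]
  · rw [mul_smul, inv_smul_eq_iff]
    apply Subtype.ext
    rw [g2, k2, h]

theorem cls_a₀ : cls M.a₀ = 0 := cls_of (j := 0) M.C.one_mem (by
  rw [show M.d (0 : Fin 12) = M.d M.j₀ from rfl, hO.d_j₀]; rfl)

theorem cls_S {s : V} : s ∈ M.S → cls s = 0 := by
  rintro ⟨g, hg, rfl⟩
  rw [cls_C a₀_X hg, cls_a₀]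

theorem mem_S_of {s : V} (hs : s ∈ M.X) (h : cls s = 0) : s ∈ M.S := by
  obtain ⟨j, g, hg, e⟩ := hs
  rw [cls_of hg e] at h
  subst h
  refine ⟨g, hg, ?_⟩
  rw [e, show M.d (0 : Fin 12) = M.d M.j₀ from rfl, hO.d_j₀]
  rfl

theorem kap_diag (x y : Om) : kap x y = 0 ↔ x = y := by
  constructor
  · intro h
    obtain ⟨g, g1, g2⟩ := exists_nf x y
    rw [h, show rp 0 = (0, 0, false) from rfl, yE_00f] at g2
    have h1 : g • x = g • y := by
      rw [g1]; exact Subtype.ext g2.symm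
    exact smul_left_cancel g h1
  · rintro rfl
    obtain ⟨g, hg, h1⟩ := exists_g x
    rw [kap_of hg h1, h1, cls_S (a₁_mem_S hG hR), (H816.MEnt.diag a₁_X a₁_X).2 rfl]
    rfl

end Cfsg.Agent.H227.BTenCol
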