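import Cfsg.Agent.H227.BTenP

/-!
# Integral data of the eigenvectors of a rank ten scheme (helper227, after helper816)
-/

set_option autoImplicit false

namespace Cfsg.Agent.H227.BTenEigL

open Cfsg.Agent.H816.IMEig Cfsg.Agent.H816.IMEig.Col
open scoped BigOperators

/-- The sum of ten terms. -/
def s10 {α : Type*} [Add α] (f : Fin 10 → α) : α := f 0 + f 1 + f 2 + f 3 + f 4 + f 5 + f 6 + f 7 + f 8 + f 9

theorem sum10 {α : Type*} [AddCommMonoid α] (f : Fin 10 → α) : ∑ u, f u = s10 f := BTenP.sum10 f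

/-- Integral data of an eigenvector: `t` the numbers of points, `k` the row sums, `P` the intersection
matrix of the relation `a`, `θ` the eigenvalue, `ω / D` the eigenvector, `R`, `r` the certificate for
the dimension of the eigenspace. -/
structure Dat (t : Fin 10 → Fin 10 → ℕ) (k : Fin 10 → ℕ) (P : Fin 10 → Fin 10 → ℤ) (a : Fin 10) (θ D : ℤ) (ω : Fin 10 → ℤ)
    (R : Fin 10 → Fin 10 → ℤ) (r : Fin 10 → ℤ) (n f : ℕ) : Prop where
  hk : ∀ u, s10 (t u) = k u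
  k_pos : ∀ u, 0 < k u
  hP : ∀ u w, (k a : ℤ) * (t u w : ℤ) = P u w * (k u : ℤ)
  hD : D ≠ 0
  h0 : ω 0 = D
  eig : ∀ u, s10 (fun w => P u w * ω w) = θ * ω u
  hr : ∀ u, r u ≠ 0
  hR : ∀ u w, s10 (fun v => R u v * (P v w - if v = w then θ else 0)) =
    r u * ((if u = w then D else 0) - (if w = 0 then ω u else 0))
  deg : (f : ℤ) * s10 (fun u => (k u : ℤ) * (ω u) ^ 2) = (n : ℤ) * D ^ 2

variable {t : Fin 10 → Fin 10 → ℕ} {k : Fin 10 → ℕ} {P : Fin 10 → Fin 10 → ℤ} {a : Fin 10} {θ D : ℤ} {ω : Fin 10 → ℤ}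
  {R : Fin 10 → Fin 10 → ℤ} {r : Fin 10 → ℤ} {n f : ℕ}

theorem Dat.row (h : Dat t k P a θ D ω R r n f) (φ : Fin 10 → ℂ) (u : Fin 10) :
    ∑ w, ((∑ w', t a w' : ℕ) : ℂ) * (t u w : ℂ) * φ w = (k u : ℂ) * ∑ w, (P u w : ℂ) * φ w := by
  rw [Finset.mul_sum]
  refine Finset.sum_congr rfl fun w _ => ?_
  rw [sum10, h.hk]
  have h1 : ((k a : ℤ) : ℂ) * ((t u w : ℤ) : ℂ) = (P u w : ℂ) * ((k u : ℤ) : ℂ) := by
    exact_mod_cast congrArg (fun x : ℤ => (x : ℂ)) (h.hP u w)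
  push_cast at h1
  calc (k a : ℂ) * (t u w : ℂ) * φ w = ((k a : ℂ) * (t u w : ℂ)) * φ w := by ring
    _ = (P u w : ℂ) * (k u : ℂ) * φ w := by rw [h1]
    _ = _ := by ring

theorem Dat.hkC (h : Dat t k P a θ D ω R r n f) (u : Fin 10) : ((∑ w, t u w : ℕ) : ℂ) = (k u : ℂ) := by
  rw [sum10, h.hk]

/-- The eigenvector. -/
theorem Dat.toEig (h : Dat t k P a θ D ω R r n f) : Eig a 0 t (θ : ℂ) (fun u => (ω u : ℂ) / (D : ℂ)) where
  one := by
    have hD : (D : ℂ) ≠ 0 := by exact_mod_cast h.hD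
    show (ω 0 : ℂ) / (D : ℂ) = 1
    rw [h.h0, div_self hD]
  eig u := by
    rw [h.row, h.hkC]
    have h1 : ∑ w, (P u w : ℂ) * ((ω w : ℂ) / (D : ℂ)) = (θ : ℂ) * ((ω u : ℂ) / (D : ℂ)) := by
      have h2 : ∑ w, (P u w : ℂ) * (ω w : ℂ) = (θ : ℂ) * (ω u : ℂ) := by
        have h3 := h.eig u
        rw [← sum10] at h3
        exact_mod_cast congrArg (fun x : ℤ => (x : ℂ)) h3
      calc ∑ w, (P u w : ℂ) * ((ω w : ℂ) / (D : ℂ)) = (∑ w, (P u w : ℂ) * (ω w : ℂ)) / (D : ℂ) := by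
            rw [Finset.sum_div]
            exact Finset.sum_congr rfl fun w _ => by ring
        _ = _ := by rw [h2]; ring
    rw [h1]
    ring
  uniq φ hφ u := by
    have hD : (D : ℂ) ≠ 0 := by exact_mod_cast h.hD
    have hr : (r u : ℂ) ≠ 0 := by exact_mod_cast h.hr u
    have h1 : ∀ v, ∑ w, (P v w : ℂ) * φ w = (θ : ℂ) * φ v := by
      intro v
      have h2 := hφ v
      rw [h.row, h.hkC] at h2
      have hk : (k v : ℂ) ≠ 0 := by exact_mod_cast (h.k_pos v).ne'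
      apply mul_left_cancel₀ hk
      rw [h2]; ring
    have h2 : ∑ v, (R u v : ℂ) * ((∑ w, (P v w : ℂ) * φ w) - (θ : ℂ) * φ v) = 0 := by
      refine Finset.sum_eq_zero fun v _ => ?_
      rw [h1 v]; ring
    have h3 : ∑ v, (R u v : ℂ) * ((∑ w, (P v w : ℂ) * φ w) - (θ : ℂ) * φ v) =
        ∑ w, (∑ v, (R u v : ℂ) * ((P v w : ℂ) - if v = w then (θ : ℂ) else 0)) * φ w := by
      have e1 : ∀ v, (θ : ℂ) * φ v = ∑ w, (if v = w then (θ : ℂ) else 0) * φ w := by
        intro v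
        rw [Finset.sum_eq_single v]
        · rw [if_pos rfl]
        · intro w _ hw
          rw [if_neg (Ne.symm hw), zero_mul]
        · intro hv; exact absurd (Finset.mem_univ _) hv
      calc ∑ v, (R u v : ℂ) * ((∑ w, (P v w : ℂ) * φ w) - (θ : ℂ) * φ v)
          = ∑ v, ∑ w, (R u v : ℂ) * ((P v w : ℂ) - if v = w then (θ : ℂ) else 0) * φ w := by
            refine Finset.sum_congr rfl fun v _ => ?_
            rw [e1 v, ← Finset.sum_sub_distrib, Finset.mul_sum]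
            refine Finset.sum_congr rfl fun w _ => ?_
            ring
        _ = ∑ w, ∑ v, (R u v : ℂ) * ((P v w : ℂ) - if v = w then (θ : ℂ) else 0) * φ w := Finset.sum_comm
        _ = _ := by
            refine Finset.sum_congr rfl fun w _ => ?_
            rw [Finset.sum_mul]
    have h4 : ∀ w, ∑ v, (R u v : ℂ) * ((P v w : ℂ) - if v = w then (θ : ℂ) else 0) =
        (r u : ℂ) * ((if u = w then (D : ℂ) else 0) - (if w = 0 then (ω u : ℂ) else 0)) := by
      intro w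
      have h5 := h.hR u w
      rw [← sum10] at h5
      have h6 := congrArg (fun x : ℤ => (x : ℂ)) h5
      push_cast at h6
      exact h6
    rw [h3] at h2
    simp only [h4] at h2
    have h7 : ∑ w, (r u : ℂ) * ((if u = w then (D : ℂ) else 0) - (if w = 0 then (ω u : ℂ) else 0)) * φ w =
        (r u : ℂ) * ((D : ℂ) * φ u - (ω u : ℂ) * φ 0) := by
      have e1 : ∀ w, (r u : ℂ) * ((if u = w then (D : ℂ) else 0) - (if w = 0 then (ω u : ℂ) else 0)) * φ w =
          (if u = w then (r u : ℂ) * (D : ℂ) * φ w else 0) - (if w = 0 then (r u : ℂ) * (ω u : ℂ) * φ w else 0) := by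
        intro w
        split_ifs <;> ring
      simp only [e1, Finset.sum_sub_distrib, Finset.sum_ite_eq, Finset.sum_ite_eq', Finset.mem_univ, if_true]
      ring
    rw [h7] at h2
    have h8 := (mul_eq_zero.1 h2).resolve_left hr
    show φ u = φ 0 * ((ω u : ℂ) / (D : ℂ))
    field_simp
    linear_combination h8

theorem Dat.toDeg (h : Dat t k P a θ D ω R r n f) :
    (f : ℂ) * ∑ u, ((∑ w, t u w : ℕ) : ℂ) * ((ω u : ℂ) / (D : ℂ)) ^ 2 = (n : ℂ) := by
  have hD : (D : ℂ) ≠ 0 := by exact_mod_cast h.hD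
  have h1 := h.deg
  rw [← sum10] at h1
  have h2 := congrArg (fun x : ℤ => (x : ℂ)) h1
  push_cast at h2
  have h3 : ∑ u, ((∑ w, t u w : ℕ) : ℂ) * ((ω u : ℂ) / (D : ℂ)) ^ 2 = (∑ u, (k u : ℂ) * (ω u : ℂ) ^ 2) / (D : ℂ) ^ 2 := by
    rw [Finset.sum_div]
    refine Finset.sum_congr rfl fun u _ => ?_
    rw [h.hkC]
    ring
  rw [h3, ← mul_div_assoc, h2, mul_div_assoc, div_self (pow_ne_zero 2 hD), mul_one]

end Cfsg.Agent.H227.BTenEigL
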