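import Cfsg.Agent.H816.MLane

/-!
# Lane counts over the axes of the base orbit orthogonal to `a₀` (helper227)

`cnt_of` : the numbers of `s` in the base orbit, orthogonal to `a₀` and to `a₁`, with a given value
`F s v`, from one kernel check for `v = W w a₀`.
-/

set_option autoImplicit false
set_option maxRecDepth 100000

namespace Cfsg.Agent.H227.BTenLane

open Cfsg Cfsg.Agent.Monster Cfsg.Agent.Monster.VecEngine Cfsg.Agent.Monster.VecSpace
open Cfsg.Agent.Monster.PlaneArith Cfsg.Agent.Monster.LevelSets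
open Cfsg.Agent.MonsterX.LaneLab Cfsg.Agent.MonsterX.LaneVec Cfsg.Agent.MonsterX.LaneInj
open Cfsg.Agent.MonsterX.ProgBase Cfsg.Agent.MonsterX.ProgTable Cfsg.Agent.MonsterX.Space Cfsg.Agent.MonsterX.Conc
open Cfsg.Agent.MonsterX.USide (u)
open Cfsg.Agent.MonsterX.InstData Cfsg.Agent.MonsterX.InstEval Cfsg.Agent.MonsterX.LaneQuad
open Cfsg.Agent.MonsterX.LaneCount
open Cfsg.Agent.MonsterX Cfsg.Agent.H816.MLane

/-- The planes of the values of the two axes of a lane. -/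
noncomputable def lanes (y : Pl) (k : Pl → Pl → Bool) : Bool :=
  quad 131072 (rowsQ 24) y (.sgn 0) fun p => go (x32 (low 131072 y)) fun z =>
    go (plus p z) fun Y1 => go (sub 131072 p z) fun Y0 => k Y1 Y0

theorem lanes_sound {y : Pl} {k : Pl → Pl → Bool} (h : lanes y k = true) : ∃ Y1 Y0 : Pl,
    (∀ i < 131072, val Y1 i = qv y i true ∧ val Y0 i = qv y i false) ∧ k Y1 Y0 = true := by
  unfold lanes at h
  obtain ⟨p, hp, hk⟩ := quad_sound h
  rw [go_eq, go_eq, go_eq] at hk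
  have hq' : ∀ i < 131072, val p i = quadVal (rowsQ 24) y i := by
    intro i hi
    rw [hp i hi, val_sgn, bt_zero]; ring
  have hz : ∀ i < 131072, val (norm (x32 (low 131072 y))) i = 32 * val y i := by
    intro i hi
    rw [val_norm, val_x32, val_low _ _ _ hi]
  refine ⟨_, _, fun i hi => ⟨?_, ?_⟩, hk⟩
  · rw [val_norm, val_plus, hq' i hi, hz i hi, qv_true]
  · rw [val_norm, val_sub _ _ _ _ hi, hq' i hi, hz i hi, qv_false]

/-- The check of a list of values on the lanes of a mask. -/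
noncomputable def vls (D q : ℕ) (Y : Pl) (l : List (ℕ × ℕ)) : ℕ → Bool :=
  List.rec (motive := fun _ => ℕ → Bool) (fun M => Nat.beq M D)
    (fun e _ ih M => goN (lev 17 12 (Nat.mul q e.1) D Y) fun m =>
      and (and (Nat.blt e.2 262144) (Nat.blt (Nat.mul q e.1) 4096))
        (and (cardIs 17 18 e.2 m) (goN (Nat.lor M m) ih))) l

theorem vls_cons (D q : ℕ) (Y : Pl) (e : ℕ × ℕ) (l : List (ℕ × ℕ)) (M : ℕ) :
    vls D q Y (e :: l) M = goN (lev 17 12 (Nat.mul q e.1) D Y) fun m =>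
      and (and (Nat.blt e.2 262144) (Nat.blt (Nat.mul q e.1) 4096))
        (and (cardIs 17 18 e.2 m) (goN (Nat.lor M m) (vls D q Y l))) := rfl

theorem testBit_levD {D c : ℕ} {Y : Pl} (hD : ∀ i, D.testBit i = true → XL.testBit i = true) (hc : c < 4096) (i : ℕ) :
    (lev 17 12 c D Y).testBit i = true ↔ D.testBit i = true ∧ val Y i = c := by
  rw [testBit_lev (by norm_num; omega)]
  have h : cstVal 12 c = c := by
    unfold cstVal
    rw [if_pos (by norm_num; omega)]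
  rw [h]
  constructor
  · rintro ⟨h1, -, h3⟩; exact ⟨h1, h3⟩
  · rintro ⟨h1, h3⟩
    exact ⟨h1, lt_of_lt_of_le (lt_of_XL (hD i h1)) (by norm_num), h3⟩

theorem vls_sound {D q : ℕ} {Y : Pl} {l : List (ℕ × ℕ)} {M : ℕ} (hD : ∀ i, D.testBit i = true → XL.testBit i = true)
    (h : vls D q Y l M = true) :
    (∀ e ∈ l, ((Finset.range (2 ^ 17)).filter (fun i => D.testBit i = true ∧
      val Y i = ((q * e.1 : ℕ) : ℤ))).card = e.2) ∧
    ∀ i, D.testBit i = true → M.testBit i = true ∨ ∃ e ∈ l, val Y i = ((q * e.1 : ℕ) : ℤ) := by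
  induction l generalizing M with
  | nil =>
    have h' : Nat.beq M D = true := h
    have h1 := Nat.eq_of_beq_eq_true h'
    refine ⟨by simp, fun i hi => Or.inl ?_⟩
    rw [h1]; exact hi
  | cons e l ih =>
    rw [vls_cons, goN_eq, goN_eq, Bool.and_eq_true, Bool.and_eq_true, Bool.and_eq_true,
      Nat.blt_eq, Nat.blt_eq] at h
    obtain ⟨⟨h1, h2⟩, h4, h5⟩ := h
    obtain ⟨i1, i2⟩ := ih h5
    refine ⟨fun f hf => ?_, fun i hi => ?_⟩
    · rcases List.mem_cons.1 hf with rfl | hf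
      · refine Eq.trans (congrArg Finset.card (Finset.filter_congr fun i _ => ?_))
          (cardIs_sound (lt_of_lt_of_eq h1 (by norm_num)) h4)
        exact (testBit_levD hD h2 i).symm
      · exact i1 f hf
    · rcases i2 i hi with h6 | ⟨f, hf, h6⟩
      · have h7 : (M ||| lev 17 12 (q * e.1) D Y).testBit i = true := h6
        rw [Nat.testBit_or, Bool.or_eq_true] at h7
        rcases h7 with h7 | h7
        · exact Or.inl h7
        · exact Or.inr ⟨e, List.mem_cons_self, ((testBit_levD hD h2 i).1 h7).2⟩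
      · exact Or.inr ⟨f, List.mem_cons_of_mem _ hf, h6⟩

/-- The check of a vector. -/
noncomputable def chkD (D q : ℕ) (l1 l0 : List (ℕ × ℕ)) (y : Pl) : Bool :=
  lanes y fun Y1 Y0 => and (vls D q Y1 l1 0) (vls D q Y0 l0 0)

/-- Look up. -/
def lk1 (l : List (ℕ × ℕ)) (a : ℕ) : ℕ :=
  match l.find? (fun e => e.1 == a) with
  | some e => e.2
  | none => 0

theorem vls_card {D q : ℕ} (hq : 0 < q) {Y : Pl} {l : List (ℕ × ℕ)} (hD : ∀ i, D.testBit i = true → XL.testBit i = true)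
    (h : vls D q Y l 0 = true) (a : ℕ) :
    ((Finset.range (2 ^ 17)).filter (fun i => D.testBit i = true ∧ val Y i = ((q * a : ℕ) : ℤ))).card = lk1 l a := by
  obtain ⟨h1, h2⟩ := vls_sound hD h
  unfold lk1
  cases hf : l.find? (fun e => e.1 == a) with
  | some e =>
    have h4 := List.find?_some hf
    have h5 := eq_of_beq h4
    subst h5
    exact h1 e (List.mem_of_find?_eq_some hf)
  | none =>
    show _ = 0
    rw [Finset.card_eq_zero, Finset.filter_eq_empty_iff]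
    rintro i _ ⟨h4, h5⟩
    rcases h2 i h4 with h6 | ⟨e, he, h7⟩
    · simp at h6
    · rw [h5] at h7
      have h9 : a = e.1 := Nat.eq_of_mul_eq_mul_left hq (by exact_mod_cast h7)
      have h11 := List.find?_eq_none.1 hf e he
      apply h11
      rw [h9]
      simp

/-- The kernel check for `W w a₀`: the mask of the lanes orthogonal to `a₀` is computed first. -/
noncomputable def chkO (n : ℕ) (w : List ℕ) (l1 l0 : List (ℕ × ℕ)) : Bool :=
  runL (([] : List ℕ).map prog) (up 1 a0B) fun y0 => lanes y0 fun Y1 Y0 => goN (jm Y1 Y0 0 0) fun D =>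
    runL (w.map prog) (up (Nat.succ n) a0B) (chkD D (Nat.pow 2 n) l1 l0)

/-- The lanes orthogonal to `a₀`. -/
def OL (i : ℕ) : Prop := XL.testBit i = true ∧ F (sv KRows.Xv i true) (vecV a0B) = 0 ∧
  F (sv KRows.Xv i false) (vecV a0B) = 0

theorem chkO_sound {n : ℕ} {w : List ℕ} {l1 l0 : List (ℕ × ℕ)} (h : chkO n w l1 l0 = true) (b : Bool) (a : ℕ) :
    ∃ A : Finset ℕ, (∀ i, i ∈ A ↔ OL i ∧ F (sv KRows.Xv i b) (W w (vecV a0B)) = (a : ℚ) / 32) ∧
      A.card = lk1 (if b = true then l1 else l0) a := by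
  unfold chkO at h
  obtain ⟨y0, hy0, hk0⟩ := run_coe sym_a0B h
  obtain ⟨Y1, Y0, hY, hk1⟩ := lanes_sound hk0
  rw [goN_eq] at hk1
  obtain ⟨y, hy, hk⟩ := run_coe sym_a0B hk1
  obtain ⟨Z1, Z0, hZ, hk2⟩ := lanes_sound hk
  rw [Bool.and_eq_true] at hk2
  have hW : W [] (vecV a0B) = vecV a0B := by rw [W_nil]; rfl
  have hy0' : ∀ i : Lane U, (2 : ℚ) ^ (0 + 1) * (vecV a0B : Lane U → ℚ) i = ((val y0 i.1 : ℤ) : ℚ) := by
    intro i
    rw [← hW]
    exact hy0 i
  have hD : ∀ i, (jm Y1 Y0 0 0).testBit i = true ↔ OL i := by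
    intro i
    rw [testBit_jm (by norm_num) (by norm_num)]
    constructor
    · rintro ⟨h1, h2, h3⟩
      refine ⟨h1, ?_, ?_⟩
      · have h4 := (qv_iff (n := 0) hy0' h1 true 0).2 (by rw [← (hY i (lt_of_XL h1)).1, h2]; simp)
        rw [h4]; norm_num
      · have h4 := (qv_iff (n := 0) hy0' h1 false 0).2 (by rw [← (hY i (lt_of_XL h1)).2, h3]; simp)
        rw [h4]; norm_num
    · rintro ⟨h1, h2, h3⟩
      refine ⟨h1, ?_, ?_⟩
      · have h4 := (qv_iff (n := 0) hy0' h1 true 0).1 (by rw [h2]; norm_num)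
        rw [(hY i (lt_of_XL h1)).1, h4]; simp
      · have h4 := (qv_iff (n := 0) hy0' h1 false 0).1 (by rw [h3]; norm_num)
        rw [(hY i (lt_of_XL h1)).2, h4]; simp
  have hDX : ∀ i, (jm Y1 Y0 0 0).testBit i = true → XL.testBit i = true := fun i hi => ((hD i).1 hi).1
  have hpos : 0 < 2 ^ n := by positivity
  cases b
  · refine ⟨(Finset.range (2 ^ 17)).filter (fun i => (jm Y1 Y0 0 0).testBit i = true ∧
      val Z0 i = ((2 ^ n * a : ℕ) : ℤ)), fun i => ?_, vls_card hpos hDX hk2.2 a⟩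
    rw [Finset.mem_filter, Finset.mem_range, hD]
    constructor
    · rintro ⟨-, h1, h2⟩
      refine ⟨h1, (qv_iff hy h1.1 false a).2 ?_⟩
      rw [← (hZ i (lt_of_XL h1.1)).2]; exact h2
    · rintro ⟨h1, h2⟩
      refine ⟨lt_of_lt_of_le (lt_of_XL h1.1) (by norm_num), h1, ?_⟩
      rw [(hZ i (lt_of_XL h1.1)).2]
      exact (qv_iff hy h1.1 false a).1 h2
  · refine ⟨(Finset.range (2 ^ 17)).filter (fun i => (jm Y1 Y0 0 0).testBit i = true ∧
      val Z1 i = ((2 ^ n * a : ℕ) : ℤ)), fun i => ?_, vls_card hpos hDX hk2.1 a⟩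
    rw [Finset.mem_filter, Finset.mem_range, hD]
    constructor
    · rintro ⟨-, h1, h2⟩
      refine ⟨h1, (qv_iff hy h1.1 true a).2 ?_⟩
      rw [← (hZ i (lt_of_XL h1.1)).1]; exact h2
    · rintro ⟨h1, h2⟩
      refine ⟨lt_of_lt_of_le (lt_of_XL h1.1) (by norm_num), h1, ?_⟩
      rw [(hZ i (lt_of_XL h1.1)).1]
      exact (qv_iff hy h1.1 true a).1 h2

/-- The axes of the base orbit orthogonal to `a₀` and `a₁`. -/
def NB : Set V := {s | s ∈ M.S ∧ F s (vecV a0B) = 0 ∧ F (InstData.σ s) (vecV a0B) = 0}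

/-- **The number of the axes of `NB` with a given value.** -/
theorem cnt_of {n : ℕ} {w : List ℕ} {l1 l0 : List (ℕ × ℕ)} (h : chkO n w l1 l0 = true) (a : ℕ) :
    {s | s ∈ NB ∧ F s (W w (vecV a0B)) = (a : ℚ) / 32}.ncard = lk1 l1 a + lk1 l0 a := by
  classical
  obtain ⟨A1, hA1, c1⟩ := chkO_sound h true a
  obtain ⟨A0, hA0, c0⟩ := chkO_sound h false a
  have hset : {s | s ∈ NB ∧ F s (W w (vecV a0B)) = (a : ℚ) / 32} =
      (fun l => sv KRows.Xv l true) '' (A1 : Set ℕ) ∪ (fun l => sv KRows.Xv l false) '' (A0 : Set ℕ) := by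
    ext s
    constructor
    · rintro ⟨⟨hs, h0, h1⟩, h2⟩
      rw [S_sv XHyp_Xv SHyp_S] at hs
      obtain ⟨l, hl, c, rfl⟩ := hs
      rw [σ_sv] at h1
      cases c
      · right; exact ⟨l, (hA0 l).2 ⟨⟨hl, h1, h0⟩, h2⟩, rfl⟩
      · left; exact ⟨l, (hA1 l).2 ⟨⟨hl, h0, h1⟩, h2⟩, rfl⟩
    · rintro (⟨l, hl, rfl⟩ | ⟨l, hl, rfl⟩)
      · obtain ⟨⟨h2, h3, h4⟩, h5⟩ := (hA1 l).1 hl
        refine ⟨⟨?_, h3, by rw [σ_sv]; exact h4⟩, h5⟩
        rw [S_sv XHyp_Xv SHyp_S]
        exact ⟨l, h2, true, rfl⟩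
      · obtain ⟨⟨h2, h3, h4⟩, h5⟩ := (hA0 l).1 hl
        refine ⟨⟨?_, h4, by rw [σ_sv]; exact h3⟩, h5⟩
        rw [S_sv XHyp_Xv SHyp_S]
        exact ⟨l, h2, false, rfl⟩
  have hinj1 : Set.InjOn (fun l => sv KRows.Xv l true) (A1 : Set ℕ) := by
    intro l hl l' hl' he
    exact (sv_inj XHyp_Xv ((hA1 l).1 hl).1.1 ((hA1 l').1 hl').1.1 he).1
  have hinj0 : Set.InjOn (fun l => sv KRows.Xv l false) (A0 : Set ℕ) := by
    intro l hl l' hl' he
    exact (sv_inj XHyp_Xv ((hA0 l).1 hl).1.1 ((hA0 l').1 hl').1.1 he).1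
  rw [hset, Set.ncard_union_eq]
  · rw [hinj1.ncard_image, hinj0.ncard_image, Set.ncard_coe_finset, Set.ncard_coe_finset, c1, c0]
    simp
  · rw [Set.disjoint_left]
    rintro _ ⟨l, hl, rfl⟩ ⟨l', hl', he⟩
    have h2 := (sv_inj XHyp_Xv ((hA0 l').1 hl').1.1 ((hA1 l).1 hl).1.1 he).2
    exact absurd h2 (by simp)

end Cfsg.Agent.H227.BTenLane
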