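import Cfsg.Agent.H227.BTenPsi

/-!
# The intersection matrix (helper227)

`P_eq` : the intersection numbers `P u w`.
-/

set_option autoImplicit false
set_option maxRecDepth 100000

namespace Cfsg.Agent.H227.BTenP

open Cfsg.Agent.H816.MCnt Cfsg.Agent.H227.BTenCnt Cfsg.Agent.H227.BTenVal
open scoped BigOperators

/-- The sum of ten terms. -/
theorem sum10 {α : Type*} [AddCommMonoid α] (f : Fin 10 → α) :
    ∑ u, f u = f 0 + f 1 + f 2 + f 3 + f 4 + f 5 + f 6 + f 7 + f 8 + f 9 := by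
  simp [Fin.sum_univ_succ]
  have : ∀ a b c d e f g h i j : α, a + (b + (c + (d + (e + (f + (g + (h + (i + j)))))))) =
      a + b + c + d + e + f + g + h + i + j := by
    intros; simp only [add_assoc]
  exact this _ _ _ _ _ _ _ _ _ _

theorem vj : vv (jk 0).2 = 256 ∧ vv (jk 1).2 = 0 ∧ vv (jk 2).2 = 32 ∧ vv (jk 3).2 = 0 ∧ vv (jk 4).2 = 8 ∧
    vv (jk 5).2 = 8 ∧ vv (jk 6).2 = 4 ∧ vv (jk 7).2 = 13 ∧ vv (jk 8).2 = 5 ∧ vv (jk 9).2 = 6 := by decide

theorem row (u : Fin 10) : P u 0 = tlv u.1 256 ∧ P u 2 = tlv u.1 32 ∧ P u 1 + P u 3 = tlv u.1 0 ∧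
    P u 4 + P u 5 = tlv u.1 8 ∧ P u 6 = tlv u.1 4 ∧ P u 7 = tlv u.1 13 ∧ P u 8 = tlv u.1 5 ∧ P u 9 = tlv u.1 6 := by
  obtain ⟨v0, v1, v2, v3, v4, v5, v6, v7, v8, v9⟩ := vj
  refine ⟨?_, ?_, ?_, ?_, ?_, ?_, ?_, ?_⟩
  all_goals
    rw [← val_sum, sum10, v0, v1, v2, v3, v4, v5, v6, v7, v8, v9]
    simp

theorem r0 : P 0 0 = 0 ∧ P 0 2 = 0 ∧ P 0 1 + P 0 3 = 93150 ∧ P 0 4 + P 0 5 = 0 ∧
    P 0 6 = 0 ∧ P 0 7 = 0 ∧ P 0 8 = 0 ∧ P 0 9 = 0 := by
  obtain ⟨h0, h1, h2, h3, h4, h5, h6, h7⟩ := row 0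
  exact ⟨h0.trans (by decide +kernel), h1.trans (by decide +kernel), h2.trans (by decide +kernel), h3.trans (by decide +kernel), h4.trans (by decide +kernel), h5.trans (by decide +kernel), h6.trans (by decide +kernel), h7.trans (by decide +kernel)⟩

theorem r1 : P 1 0 = 1 ∧ P 1 2 = 4928 ∧ P 1 1 + P 1 3 = 43165 ∧ P 1 4 + P 1 5 = 45056 ∧
    P 1 6 = 0 ∧ P 1 7 = 0 ∧ P 1 8 = 0 ∧ P 1 9 = 0 := by
  obtain ⟨h0, h1, h2, h3, h4, h5, h6, h7⟩ := row 1
  exact ⟨h0.trans (by decide +kernel), h1.trans (by decide +kernel), h2.trans (by decide +kernel), h3.trans (by decide +kernel), h4.trans (by decide +kernel), h5.trans (by decide +kernel), h6.trans (by decide +kernel), h7.trans (by decide +kernel)⟩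

theorem r2 : P 2 0 = 0 ∧ P 2 2 = 63 ∧ P 2 1 + P 2 3 = 4383 ∧ P 2 4 + P 2 5 = 24192 ∧
    P 2 6 = 64512 ∧ P 2 7 = 0 ∧ P 2 8 = 0 ∧ P 2 9 = 0 := by
  obtain ⟨h0, h1, h2, h3, h4, h5, h6, h7⟩ := row 2
  exact ⟨h0.trans (by decide +kernel), h1.trans (by decide +kernel), h2.trans (by decide +kernel), h3.trans (by decide +kernel), h4.trans (by decide +kernel), h5.trans (by decide +kernel), h6.trans (by decide +kernel), h7.trans (by decide +kernel)⟩

theorem r3 : P 3 0 = 0 ∧ P 3 2 = 120 ∧ P 3 1 + P 3 3 = 1830 ∧ P 3 4 + P 3 5 = 37440 ∧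
    P 3 6 = 53760 ∧ P 3 7 = 0 ∧ P 3 8 = 0 ∧ P 3 9 = 0 := by
  obtain ⟨h0, h1, h2, h3, h4, h5, h6, h7⟩ := row 3
  exact ⟨h0.trans (by decide +kernel), h1.trans (by decide +kernel), h2.trans (by decide +kernel), h3.trans (by decide +kernel), h4.trans (by decide +kernel), h5.trans (by decide +kernel), h6.trans (by decide +kernel), h7.trans (by decide +kernel)⟩

theorem r4 : P 4 0 = 0 ∧ P 4 2 = 42 ∧ P 4 1 + P 4 3 = 421 ∧ P 4 4 + P 4 5 = 17167 ∧
    P 4 6 = 30464 ∧ P 4 7 = 2048 ∧ P 4 8 = 43008 ∧ P 4 9 = 0 := by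
  obtain ⟨h0, h1, h2, h3, h4, h5, h6, h7⟩ := row 4
  exact ⟨h0.trans (by decide +kernel), h1.trans (by decide +kernel), h2.trans (by decide +kernel), h3.trans (by decide +kernel), h4.trans (by decide +kernel), h5.trans (by decide +kernel), h6.trans (by decide +kernel), h7.trans (by decide +kernel)⟩

theorem r5 : P 5 0 = 0 ∧ P 5 2 = 0 ∧ P 5 1 + P 5 3 = 15 ∧ P 5 4 + P 5 5 = 3615 ∧
    P 5 6 = 5040 ∧ P 5 7 = 0 ∧ P 5 8 = 53760 ∧ P 5 9 = 30720 := by
  obtain ⟨h0, h1, h2, h3, h4, h5, h6, h7⟩ := row 5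
  exact ⟨h0.trans (by decide +kernel), h1.trans (by decide +kernel), h2.trans (by decide +kernel), h3.trans (by decide +kernel), h4.trans (by decide +kernel), h5.trans (by decide +kernel), h6.trans (by decide +kernel), h7.trans (by decide +kernel)⟩

theorem r6 : P 6 0 = 0 ∧ P 6 2 = 1 ∧ P 6 1 + P 6 3 = 30 ∧ P 6 4 + P 6 5 = 6032 ∧
    P 6 6 = 10287 ∧ P 6 7 = 512 ∧ P 6 8 = 43520 ∧ P 6 9 = 32768 := by
  obtain ⟨h0, h1, h2, h3, h4, h5, h6, h7⟩ := row 6
  exact ⟨h0.trans (by decide +kernel), h1.trans (by decide +kernel), h2.trans (by decide +kernel), h3.trans (by decide +kernel), h4.trans (by decide +kernel), h5.trans (by decide +kernel), h6.trans (by decide +kernel), h7.trans (by decide +kernel)⟩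

theorem r7 : P 7 0 = 0 ∧ P 7 2 = 0 ∧ P 7 1 + P 7 3 = 0 ∧ P 7 4 + P 7 5 = 891 ∧
    P 7 6 = 24948 ∧ P 7 7 = 891 ∧ P 7 8 = 24948 ∧ P 7 9 = 41472 := by
  obtain ⟨h0, h1, h2, h3, h4, h5, h6, h7⟩ := row 7
  exact ⟨h0.trans (by decide +kernel), h1.trans (by decide +kernel), h2.trans (by decide +kernel), h3.trans (by decide +kernel), h4.trans (by decide +kernel), h5.trans (by decide +kernel), h6.trans (by decide +kernel), h7.trans (by decide +kernel)⟩

theorem r8 : P 8 0 = 0 ∧ P 8 2 = 0 ∧ P 8 1 + P 8 3 = 0 ∧ P 8 4 + P 8 5 = 4347 ∧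
    P 8 6 = 3060 ∧ P 8 7 = 36 ∧ P 8 8 = 53451 ∧ P 8 9 = 32256 := by
  obtain ⟨h0, h1, h2, h3, h4, h5, h6, h7⟩ := row 8
  exact ⟨h0.trans (by decide +kernel), h1.trans (by decide +kernel), h2.trans (by decide +kernel), h3.trans (by decide +kernel), h4.trans (by decide +kernel), h5.trans (by decide +kernel), h6.trans (by decide +kernel), h7.trans (by decide +kernel)⟩

theorem r9 : P 9 0 = 0 ∧ P 9 2 = 0 ∧ P 9 1 + P 9 3 = 0 ∧ P 9 4 + P 9 5 = 4125 ∧
    P 9 6 = 3850 ∧ P 9 7 = 100 ∧ P 9 8 = 53900 ∧ P 9 9 = 31175 := by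
  obtain ⟨h0, h1, h2, h3, h4, h5, h6, h7⟩ := row 9
  exact ⟨h0.trans (by decide +kernel), h1.trans (by decide +kernel), h2.trans (by decide +kernel), h3.trans (by decide +kernel), h4.trans (by decide +kernel), h5.trans (by decide +kernel), h6.trans (by decide +kernel), h7.trans (by decide +kernel)⟩

theorem s01 : 1 * P 0 1 = 93150 * P 1 0 := P_symm 0 1

theorem s03 : 1 * P 0 3 = 262310400 * P 3 0 := P_symm 0 3

theorem s04 : 1 * P 0 4 = 4196966400 * P 4 0 := P_symm 0 4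

theorem s05 : 1 * P 0 5 = 537211699200 * P 5 0 := P_symm 0 5

theorem s12 : 93150 * P 1 2 = 7286400 * P 2 1 := P_symm 1 2

theorem s13 : 93150 * P 1 3 = 262310400 * P 3 1 := P_symm 1 3

theorem s14 : 93150 * P 1 4 = 4196966400 * P 4 1 := P_symm 1 4

theorem s15 : 93150 * P 1 5 = 537211699200 * P 5 1 := P_symm 1 5

theorem s16 : 93150 * P 1 6 = 470060236800 * P 6 1 := P_symm 1 6

theorem s17 : 93150 * P 1 7 = 9646899200 * P 7 1 := P_symm 1 7

theorem s18 : 93150 * P 1 8 = 6685301145600 * P 8 1 := P_symm 1 8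

theorem s19 : 93150 * P 1 9 = 4000762036224 * P 9 1 := P_symm 1 9

theorem s23 : 7286400 * P 2 3 = 262310400 * P 3 2 := P_symm 2 3

theorem s24 : 7286400 * P 2 4 = 4196966400 * P 4 2 := P_symm 2 4

theorem s25 : 7286400 * P 2 5 = 537211699200 * P 5 2 := P_symm 2 5

theorem s34 : 262310400 * P 3 4 = 4196966400 * P 4 3 := P_symm 3 4

theorem s35 : 262310400 * P 3 5 = 537211699200 * P 5 3 := P_symm 3 5

theorem s36 : 262310400 * P 3 6 = 470060236800 * P 6 3 := P_symm 3 6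

theorem s37 : 262310400 * P 3 7 = 9646899200 * P 7 3 := P_symm 3 7

theorem s38 : 262310400 * P 3 8 = 6685301145600 * P 8 3 := P_symm 3 8

theorem s39 : 262310400 * P 3 9 = 4000762036224 * P 9 3 := P_symm 3 9

theorem s45 : 4196966400 * P 4 5 = 537211699200 * P 5 4 := P_symm 4 5

theorem s46 : 4196966400 * P 4 6 = 470060236800 * P 6 4 := P_symm 4 6

theorem s47 : 4196966400 * P 4 7 = 9646899200 * P 7 4 := P_symm 4 7

theorem s48 : 4196966400 * P 4 8 = 6685301145600 * P 8 4 := P_symm 4 8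

theorem s49 : 4196966400 * P 4 9 = 4000762036224 * P 9 4 := P_symm 4 9

theorem s56 : 537211699200 * P 5 6 = 470060236800 * P 6 5 := P_symm 5 6

theorem s57 : 537211699200 * P 5 7 = 9646899200 * P 7 5 := P_symm 5 7

theorem s58 : 537211699200 * P 5 8 = 6685301145600 * P 8 5 := P_symm 5 8

theorem s59 : 537211699200 * P 5 9 = 4000762036224 * P 9 5 := P_symm 5 9

theorem k0 : P 0 1 = 93150 ∧ P 0 3 = 0 ∧ P 0 4 = 0 ∧ P 0 5 = 0 := by
  obtain ⟨h0, h1, h2, h3, h4, h5, h6, h7⟩ := r0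
  have t1 := s01
  have q1 := r1
  have t3 := s03
  have q3 := r3
  have t4 := s04
  have q4 := r4
  have t5 := s05
  have q5 := r5
  refine ⟨?_, ?_, ?_, ?_⟩ <;> omega

theorem k2 : P 2 1 = 63 ∧ P 2 3 = 4320 ∧ P 2 4 = 24192 ∧ P 2 5 = 0 := by
  obtain ⟨h0, h1, h2, h3, h4, h5, h6, h7⟩ := r2
  have t1 := s12
  have q1 := r1
  have t3 := s23
  have q3 := r3
  have t4 := s24
  have q4 := r4
  have t5 := s25
  have q5 := r5
  refine ⟨?_, ?_, ?_, ?_⟩ <;> omega

theorem k6 : P 6 1 = 0 ∧ P 6 3 = 30 ∧ P 6 4 = 272 ∧ P 6 5 = 5760 := by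
  obtain ⟨h0, h1, h2, h3, h4, h5, h6, h7⟩ := r6
  have t1 := s16
  have q1 := r1
  have t3 := s36
  have q3 := r3
  have t4 := s46
  have q4 := r4
  have t5 := s56
  have q5 := r5
  refine ⟨?_, ?_, ?_, ?_⟩ <;> omega

theorem k7 : P 7 1 = 0 ∧ P 7 3 = 0 ∧ P 7 4 = 891 ∧ P 7 5 = 0 := by
  obtain ⟨h0, h1, h2, h3, h4, h5, h6, h7⟩ := r7
  have t1 := s17
  have q1 := r1
  have t3 := s37
  have q3 := r3
  have t4 := s47
  have q4 := r4
  have t5 := s57
  have q5 := r5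
  refine ⟨?_, ?_, ?_, ?_⟩ <;> omega

theorem k8 : P 8 1 = 0 ∧ P 8 3 = 0 ∧ P 8 4 = 27 ∧ P 8 5 = 4320 := by
  obtain ⟨h0, h1, h2, h3, h4, h5, h6, h7⟩ := r8
  have t1 := s18
  have q1 := r1
  have t3 := s38
  have q3 := r3
  have t4 := s48
  have q4 := r4
  have t5 := s58
  have q5 := r5
  refine ⟨?_, ?_, ?_, ?_⟩ <;> omega

theorem k9 : P 9 1 = 0 ∧ P 9 3 = 0 ∧ P 9 4 = 0 ∧ P 9 5 = 4125 := by
  obtain ⟨h0, h1, h2, h3, h4, h5, h6, h7⟩ := r9
  have t1 := s19
  have q1 := r1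
  have t3 := s39
  have q3 := r3
  have t4 := s49
  have q4 := r4
  have t5 := s59
  have q5 := r5
  refine ⟨?_, ?_, ?_, ?_⟩ <;> omega

theorem cross : P 4 1 = 1 ∧ P 4 3 = 420 ∧ P 5 1 = 0 ∧ P 5 3 = 15 ∧ P 1 4 = 45056 ∧ P 1 5 = 0 ∧ P 3 4 = 6720 ∧
    P 3 5 = 30720 := by
  have h1 := r1
  have h3 := r3
  have h4 := r4
  have h5 := r5
  have t1 := s14
  have t2 := s15
  have t3 := s34
  have t4 := s35
  omega

theorem par : P 1 3 = 2816 * P 3 1 ∧ P 1 1 + 2816 * P 3 1 = 43165 ∧ P 3 3 + P 3 1 = 1830 ∧ P 4 5 = 128 * P 5 4 ∧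
    P 4 4 + 128 * P 5 4 = 17167 ∧ P 5 5 + P 5 4 = 3615 := by
  have h1 := r1
  have h3 := r3
  have h4 := r4
  have h5 := r5
  have t1 := s13
  have t2 := s45
  omega

/-- **The determinant.** -/
theorem det_zero {m t : ℂ} {φ : Fin 10 → ℂ} (h0 : φ 0 ≠ 0)
    (e0 : 93150 * φ 1 = 495 * φ 0)
    (e1 : 1 * φ 0 + (43165 - 2816 * m) * φ 1 + 4928 * φ 2 + (2816 * m) * φ 3 + 45056 * φ 4 = 495 * φ 1)
    (e2 : 63 * φ 1 + 63 * φ 2 + 4320 * φ 3 + 24192 * φ 4 + 64512 * φ 6 = 495 * φ 2)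
    (e3 : m * φ 1 + 120 * φ 2 + (1830 - m) * φ 3 + 6720 * φ 4 + 30720 * φ 5 + 53760 * φ 6 = 495 * φ 3)
    (e4 : 1 * φ 1 + 42 * φ 2 + 420 * φ 3 + (17167 - 128 * t) * φ 4 + (128 * t) * φ 5 + 30464 * φ 6 + 2048 * φ 7 + 43008 * φ 8 = 495 * φ 4)
    (e5 : 15 * φ 3 + t * φ 4 + (3615 - t) * φ 5 + 5040 * φ 6 + 53760 * φ 8 + 30720 * φ 9 = 495 * φ 5)
    (e6 : 1 * φ 2 + 30 * φ 3 + 272 * φ 4 + 5760 * φ 5 + 10287 * φ 6 + 512 * φ 7 + 43520 * φ 8 + 32768 * φ 9 = 495 * φ 6)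
    (e7 : 891 * φ 4 + 24948 * φ 6 + 891 * φ 7 + 24948 * φ 8 + 41472 * φ 9 = 495 * φ 7)
    (e8 : 27 * φ 4 + 4320 * φ 5 + 3060 * φ 6 + 36 * φ 7 + 53451 * φ 8 + 32256 * φ 9 = 495 * φ 8)
    (e9 : 4125 * φ 5 + 3850 * φ 6 + 100 * φ 7 + 53900 * φ 8 + 31175 * φ 9 = 495 * φ 9) :
    (-42015600 : ℂ) + (2685840) * m + (349905) * t + (-22367) * m * t = 0 := by
  have h : ((-42015600 : ℂ) + (2685840) * m + (349905) * t + (-22367) * m * t) * φ 0 = 0 := by
    apply mul_left_cancel₀ (show (44867561479020 : ℂ) ≠ 0 by norm_num)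
    linear_combination ((3791873499363694800) + (-243456739935345840) * m + (-31578698161533615) * t + (2027452383486617) * m * t) * e0 + ((-8160133892883786000) + (-3994945185114000) * m + (67928509357353675) * t + (36182224635075) * m * t) * e1 + ((-82456427238734736000) + (-1167709629451305600) * m + (698765003237683800) * t + (8762891603768280) * m * t) * e2 + ((-64099262522592000000) + (-11249765641281024000) * m + (431821738774800000) * t + (101889144572371200) * m * t) * e3 + ((174651659663266368000) + (7187562843562252800) * m + (-975955735399154400) * t + (-98286606461276640) * m * t) * e4 + ((14665028830991345664000) + (1537272072778681958400) * m + (-124922334131091763200) * t + (-12580685627043409920) * m * t) * e5 + ((4948505053851744000000) + (563330767473386035200) * m + (-43713680480571024000) * t + (-4491396707484677760) * m * t) * e6 + ((-1826915923412490240000) + (-205272117810537676800) *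 m + (15911195259746688000) * t + (1653899400453667840) * m * t) * e7 + ((6044154362812532736000) + (513633081626413056000) * m + (-44155119249450316800) * t + (-4774494028390732800) * m * t) * e8 + ((-23854520379523674931200) + (-2403485139355670937600) * m + (196689127222703554560) * t + (20178237067072634880) * m * t) * e9
  exact (mul_eq_zero.1 h).resolve_right h0

theorem sol : ∀ m : Fin 16, ∀ t : Fin 135, (-42015600 : ℤ) + (2685840) * (m.1 : ℤ) + (349905) * (t.1 : ℤ) + (-22367) * (m.1 : ℤ) * (t.1 : ℤ) = 0 →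
    m.1 = 15 ∧ t.1 = 120 := by decide +kernel

/-- **The two parameters.** -/
theorem mt_eq : P 3 1 = 15 ∧ P 5 4 = 120 := by
  obtain ⟨φ, h0, hφ⟩ := BTenPsi.exists_phi
  obtain ⟨p1, p2, p3, p4, p5, p6⟩ := par
  obtain ⟨x1, x2, x3, x4, x5, x6, x7, x8⟩ := cross
  obtain ⟨a00, a02, -, -, a06, a07, a08, a09⟩ := r0
  obtain ⟨a10, a12, -, -, a16, a17, a18, a19⟩ := r1
  obtain ⟨a20, a22, -, -, a26, a27, a28, a29⟩ := r2
  obtain ⟨a30, a32, -, -, a36, a37, a38, a39⟩ := r3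
  obtain ⟨a40, a42, -, -, a46, a47, a48, a49⟩ := r4
  obtain ⟨a50, a52, -, -, a56, a57, a58, a59⟩ := r5
  obtain ⟨a60, a62, -, -, a66, a67, a68, a69⟩ := r6
  obtain ⟨a70, a72, -, -, a76, a77, a78, a79⟩ := r7
  obtain ⟨a80, a82, -, -, a86, a87, a88, a89⟩ := r8
  obtain ⟨a90, a92, -, -, a96, a97, a98, a99⟩ := r9
  obtain ⟨a01, a03, a04, a05⟩ := k0
  obtain ⟨a21, a23, a24, a25⟩ := k2
  obtain ⟨a61, a63, a64, a65⟩ := k6
  obtain ⟨a71, a73, a74, a75⟩ := k7
  obtain ⟨a81, a83, a84, a85⟩ := k8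
  obtain ⟨a91, a93, a94, a95⟩ := k9
  have c11 : (P 1 1 : ℂ) = 43165 - 2816 * (P 3 1 : ℂ) := by
    have h : ((P 1 1 + 2816 * P 3 1 : ℕ) : ℂ) = ((43165 : ℕ) : ℂ) := by rw [p2]
    push_cast at h
    linear_combination h
  have c33 : (P 3 3 : ℂ) = 1830 - (P 3 1 : ℂ) := by
    have h : ((P 3 3 + P 3 1 : ℕ) : ℂ) = ((1830 : ℕ) : ℂ) := by rw [p3]
    push_cast at h
    linear_combination h
  have c44 : (P 4 4 : ℂ) = 17167 - 128 * (P 5 4 : ℂ) := by
    have h : ((P 4 4 + 128 * P 5 4 : ℕ) : ℂ) = ((17167 : ℕ) : ℂ) := by rw [p5]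
    push_cast at h
    linear_combination h
  have c55 : (P 5 5 : ℂ) = 3615 - (P 5 4 : ℂ) := by
    have h : ((P 5 5 + P 5 4 : ℕ) : ℂ) = ((3615 : ℕ) : ℂ) := by rw [p6]
    push_cast at h
    linear_combination h
  have f0 := hφ 0
  rw [sum10] at f0
  have f1 := hφ 1
  rw [sum10] at f1
  have f2 := hφ 2
  rw [sum10] at f2
  have f3 := hφ 3
  rw [sum10] at f3
  have f4 := hφ 4
  rw [sum10] at f4
  have f5 := hφ 5
  rw [sum10] at f5
  have f6 := hφ 6
  rw [sum10] at f6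
  have f7 := hφ 7
  rw [sum10] at f7
  have f8 := hφ 8
  rw [sum10] at f8
  have f9 := hφ 9
  rw [sum10] at f9
  rw [a00, a01, a02, a03, a04, a05, a06, a07, a08, a09] at f0
  push_cast at f0
  rw [a10, a12, a16, a17, a18, a19, c11, p1, x5, x6] at f1
  push_cast at f1
  rw [a20, a21, a22, a23, a24, a25, a26, a27, a28, a29] at f2
  push_cast at f2
  rw [a30, a32, a36, a37, a38, a39, c33, x7, x8] at f3
  push_cast at f3
  rw [a40, a42, a46, a47, a48, a49, c44, p4, x1, x2] at f4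
  push_cast at f4
  rw [a50, a52, a56, a57, a58, a59, c55, x3, x4] at f5
  push_cast at f5
  rw [a60, a61, a62, a63, a64, a65, a66, a67, a68, a69] at f6
  push_cast at f6
  rw [a70, a71, a72, a73, a74, a75, a76, a77, a78, a79] at f7
  push_cast at f7
  rw [a80, a81, a82, a83, a84, a85, a86, a87, a88, a89] at f8
  push_cast at f8
  rw [a90, a91, a92, a93, a94, a95, a96, a97, a98, a99] at f9
  push_cast at f9
  have hd := det_zero (m := (P 3 1 : ℂ)) (t := (P 5 4 : ℂ)) h0 (by linear_combination f0) (by linear_combination f1)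
    (by linear_combination f2) (by linear_combination f3) (by linear_combination f4) (by linear_combination f5)
    (by linear_combination f6) (by linear_combination f7) (by linear_combination f8) (by linear_combination f9)
  have hz : (-42015600 : ℤ) + (2685840) * (P 3 1 : ℤ) + (349905) * (P 5 4 : ℤ) + (-22367) * (P 3 1 : ℤ) * (P 5 4 : ℤ) = 0 := by exact_mod_cast hd
  have hm : P 3 1 < 16 := by omega
  have ht : P 5 4 < 135 := by omega
  exact sol ⟨P 3 1, hm⟩ ⟨P 5 4, ht⟩ hz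

/-- The intersection matrix. -/
def PL : List (List ℕ) := [
  [0, 93150, 0, 0, 0, 0, 0, 0, 0, 0],
  [1, 925, 4928, 42240, 45056, 0, 0, 0, 0, 0],
  [0, 63, 63, 4320, 24192, 0, 64512, 0, 0, 0],
  [0, 15, 120, 1815, 6720, 30720, 53760, 0, 0, 0],
  [0, 1, 42, 420, 1807, 15360, 30464, 2048, 43008, 0],
  [0, 0, 0, 15, 120, 3495, 5040, 0, 53760, 30720],
  [0, 0, 1, 30, 272, 5760, 10287, 512, 43520, 32768],
  [0, 0, 0, 0, 891, 0, 24948, 891, 24948, 41472],
  [0, 0, 0, 0, 27, 4320, 3060, 36, 53451, 32256],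
  [0, 0, 0, 0, 0, 4125, 3850, 100, 53900, 31175]]

/-- The intersection matrix. -/
def PN (u w : Fin 10) : ℕ := (PL.getD u.1 []).getD w.1 0

/-- **The intersection numbers.** -/
theorem P_eq (u w : Fin 10) : P u w = PN u w := by
  obtain ⟨m1, m2⟩ := mt_eq
  obtain ⟨p1, p2, p3, p4, p5, p6⟩ := par
  obtain ⟨x1, x2, x3, x4, x5, x6, x7, x8⟩ := cross
  obtain ⟨a00, a02, -, -, a06, a07, a08, a09⟩ := r0
  obtain ⟨a10, a12, -, -, a16, a17, a18, a19⟩ := r1
  obtain ⟨a20, a22, -, -, a26, a27, a28, a29⟩ := r2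
  obtain ⟨a30, a32, -, -, a36, a37, a38, a39⟩ := r3
  obtain ⟨a40, a42, -, -, a46, a47, a48, a49⟩ := r4
  obtain ⟨a50, a52, -, -, a56, a57, a58, a59⟩ := r5
  obtain ⟨a60, a62, -, -, a66, a67, a68, a69⟩ := r6
  obtain ⟨a70, a72, -, -, a76, a77, a78, a79⟩ := r7
  obtain ⟨a80, a82, -, -, a86, a87, a88, a89⟩ := r8
  obtain ⟨a90, a92, -, -, a96, a97, a98, a99⟩ := r9
  obtain ⟨a01, a03, a04, a05⟩ := k0
  obtain ⟨a21, a23, a24, a25⟩ := k2
  obtain ⟨a61, a63, a64, a65⟩ := k6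
  obtain ⟨a71, a73, a74, a75⟩ := k7
  obtain ⟨a81, a83, a84, a85⟩ := k8
  obtain ⟨a91, a93, a94, a95⟩ := k9
  have y13 : P 1 3 = 42240 := by omega
  have y11 : P 1 1 = 925 := by omega
  have y33 : P 3 3 = 1815 := by omega
  have y45 : P 4 5 = 15360 := by omega
  have y44 : P 4 4 = 1807 := by omega
  have y55 : P 5 5 = 3495 := by omega
  fin_cases u <;> fin_cases w
  · exact a00
  · exact a01
  · exact a02
  · exact a03
  · exact a04
  · exact a05
  · exact a06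
  · exact a07
  · exact a08
  · exact a09
  · exact a10
  · exact y11
  · exact a12
  · exact y13
  · exact x5
  · exact x6
  · exact a16
  · exact a17
  · exact a18
  · exact a19
  · exact a20
  · exact a21
  · exact a22
  · exact a23
  · exact a24
  · exact a25
  · exact a26
  · exact a27
  · exact a28
  · exact a29
  · exact a30
  · exact m1
  · exact a32
  · exact y33
  · exact x7
  · exact x8
  · exact a36
  · exact a37
  · exact a38
  · exact a39
  · exact a40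
  · exact x1
  · exact a42
  · exact x2
  · exact y44
  · exact y45
  · exact a46
  · exact a47
  · exact a48
  · exact a49
  · exact a50
  · exact x3
  · exact a52
  · exact x4
  · exact m2
  · exact y55
  · exact a56
  · exact a57
  · exact a58
  · exact a59
  · exact a60
  · exact a61
  · exact a62
  · exact a63
  · exact a64
  · exact a65
  · exact a66
  · exact a67
  · exact a68
  · exact a69
  · exact a70
  · exact a71
  · exact a72
  · exact a73
  · exact a74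
  · exact a75
  · exact a76
  · exact a77
  · exact a78
  · exact a79
  · exact a80
  · exact a81
  · exact a82
  · exact a83
  · exact a84
  · exact a85
  · exact a86
  · exact a87
  · exact a88
  · exact a89
  · exact a90
  · exact a91
  · exact a92
  · exact a93
  · exact a94
  · exact a95
  · exact a96
  · exact a97
  · exact a98
  · exact a99

end Cfsg.Agent.H227.BTenP
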