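import Cfsg.Agent.H227.BTenVal
import Cfsg.Agent.H227.BTenAvg

/-!
# An eigenfunction with the eigenvalue `495` (helper227)

The function `z ↦ psi (32 F (z, y'))` on the axes orthogonal to `a₀`, `y'` an axis with `F (a₀, y') = 1`.
`exists_phi` : the eigenvector of the intersection matrix.
-/

set_option autoImplicit false
set_option maxRecDepth 100000

namespace Cfsg.Agent.H227.BTenPsi

open Cfsg Cfsg.Agent.MonsterX Cfsg.Agent.MonsterX.Space Cfsg.Agent.MonsterX.Conc Cfsg.Agent.MonsterX.InstData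
open Cfsg.Agent.MonsterX.Model Cfsg.Agent.MonsterX.MainBasic Cfsg.Agent.MonsterX.CertUTab
open Cfsg.Agent.H816.MTab Cfsg.Agent.H816.MCol Cfsg.Agent.H816.MEnt Cfsg.Agent.H816.MCnt
open Cfsg.Agent.H816.IMEig Cfsg.Agent.H227.BTenCol Cfsg.Agent.H227.BTenCnt Cfsg.Agent.H227.BTenLane
open Cfsg.Agent.H227.BTenChk Cfsg.Agent.H227.BTenVal
open scoped BigOperators

/-- The values of the eigenfunction. -/
def psi (a : ℕ) : ℤ := if a = 32 then -811008 else if a = 0 then 21504 else if a = 8 then -704 else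
  if a = 4 then -240 else if a = 5 then 99 else 0

/-- The possible values. -/
def T : Finset ℕ := {256, 32, 0, 13, 4, 8, 6, 5}

theorem vv_T : ∀ u : Fin 9, vv u ∈ T := by decide

noncomputable instance : Fintype Om := Fintype.ofFinite Om

open Classical in
/-- The sum over the neighbours. -/
noncomputable def S (x : Om) (y : V) : ℤ := ∑ z : Om, if kap x z = 1 then psi (vv (col M z.1 y)) else 0

theorem S_smul (g : ↥BTenCol.St) (x : Om) (y : V) : S (g • x) ((g : V ≃ₗ[ℚ] V) y) = S x y := by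
  unfold S
  refine (Fintype.sum_equiv (MulAction.toPerm g) _ _ fun z => ?_).symm
  show _ = if kap (g • x) (g • z) = 1 then psi (vv (col M (g • z).1 ((g : V ≃ₗ[ℚ] V) y))) else 0
  rw [kap_inv, BTenCol.smul_val, col_smul hG hR hL hO H816.MEnt.hT g.2.1 z.2.1]

theorem S_b1 {y : V} (hy : y ∈ M.X) : S b1 y =
    ∑ a ∈ T, (Nat.card {z : Om // kap b1 z = 1 ∧ M.F z.1 y = (a : ℚ) / 32} : ℤ) * psi a := by
  classical
  unfold S
  rw [← Finset.sum_filter, ← Finset.sum_fiberwise_of_maps_to (t := T) (g := fun z : Om => vv (col M z.1 y))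
    (fun z _ => vv_T _)]
  refine Finset.sum_congr rfl fun a _ => ?_
  rw [Finset.sum_congr rfl (g := fun _ => psi a) (fun z hz => by rw [(Finset.mem_filter.1 hz).2]),
    Finset.sum_const, nsmul_eq_mul, Nat.card_eq_fintype_card, Fintype.card_subtype, Finset.filter_filter]
  congr 3
  ext z
  simp only [Finset.mem_filter, Finset.mem_univ, true_and]
  rw [vv_of z.2.1 hy]

theorem psi_ok : ∀ k : Fin 16, 10 ≤ k.1 →
    ∑ a ∈ T, (tlv k.1 a : ℤ) * psi a = 495 * psi (vv (Fin.ofNat 9 (k1 (es.getD k.1 (0, 0, false))))) ∧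
      psi (vv (Fin.ofNat 9 (k1 (es.getD k.1 (0, 0, false))))) ≠ 0 ∧ k1 (es.getD k.1 (0, 0, false)) < 9 := by
  decide +kernel

theorem L6_ok : ∀ j < 12, ∀ m < nr j, ∀ b : Bool, k0 (j, m, b) = 1 →
    ((List.range 16).any fun k => decide (10 ≤ k) && eqE (es.getD k (0, 0, false)) (j, m, b)) = true := by
  decide +kernel

theorem exists_k {e : Ent} (he : Val e) (h : k0 e = 1) : ∃ k : Fin 16, 10 ≤ k.1 ∧ es.getD k.1 (0, 0, false) = e := by
  have h1 := L6_ok e.1 he.1 e.2.1 he.2 e.2.2 h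
  obtain ⟨k, hk, h2⟩ := List.any_eq_true.1 h1
  rw [Bool.and_eq_true] at h2
  exact ⟨⟨k, List.mem_range.1 hk⟩, of_decide_eq_true h2.1, eqE_sound h2.2⟩

/-- **The eigenvalue equation.** -/
theorem S_eq (x : Om) {y : V} (hy : y ∈ M.X) (h1 : col M M.a₀ y = 1) :
    S x y = 495 * psi (vv (col M x.1 y)) ∧ psi (vv (col M x.1 y)) ≠ 0 := by
  obtain ⟨g, hg, g1⟩ := exists_g x
  have hy' : g y ∈ M.X := G_X hO hg.1 hy
  obtain ⟨n, hn, n0, e, he, h2, -⟩ := cov_N hy'
  have hnS : n ∈ BTenCol.St := ⟨C_le hn, n0⟩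
  have hk0 : k0 e = 1 := by
    rw [← col_k0 he, ← h2]
    have h3 : col M (n (g M.a₀)) (n (g y)) = 1 := by
      rw [col_smul hG hR hL hO H816.MEnt.hT (C_le hn) (G_X hO hg.1 a₀_X),
        col_smul hG hR hL hO H816.MEnt.hT hg.1 a₀_X, h1]
    rw [hg.2, n0] at h3
    rw [h3]; rfl
  have hS : S x y = S b1 (yE e) := by
    have h4 := S_smul (⟨n, hnS⟩ * ⟨g, hg⟩) x y
    have h5 : ((⟨n, hnS⟩ * ⟨g, hg⟩ : ↥BTenCol.St)) • x = b1 := by
      apply Subtype.ext
      show n (g x.1) = M.a₁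
      rw [g1, C_a₁ hR hn n0]
    rw [h5] at h4
    rw [← h4, ← h2]
    rfl
  have hc : col M x.1 y = col M M.a₁ (yE e) := by
    rw [← h2]
    nth_rewrite 1 [← C_a₁ hR hn n0]
    rw [← g1, col_smul hG hR hL hO H816.MEnt.hT (C_le hn) (G_X hO hg.1 x.2.1),
      col_smul hG hR hL hO H816.MEnt.hT hg.1 x.2.1]
  obtain ⟨k, hk, rfl⟩ := exists_k he hk0
  obtain ⟨q1, q2, q3⟩ := psi_ok k hk
  have hcol : col M M.a₁ (yE (es.getD k.1 (0, 0, false))) = Fin.ofNat 9 (k1 (es.getD k.1 (0, 0, false))) := by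
    apply Fin.ext
    rw [col_k1 he]
    exact (Nat.mod_eq_of_lt q3).symm
  rw [hS, hc, hcol, S_b1 (yE_X he), ← q1]
  refine ⟨Finset.sum_congr rfl fun a _ => ?_, q2⟩
  rw [tab k a]

instance : Finite ↥BTenCol.St := by
  have h := H816.MSch.finite_G
  exact Finite.of_injective (fun g : ↥BTenCol.St => (⟨g.1, g.2.1⟩ : ↥M.G))
    fun g k h => Subtype.ext (congrArg (fun z => z.1) h)

theorem exists_y : ∃ y ∈ M.X, col M M.a₀ y = 1 := by
  have he : Val (0, 1, false) := by decide +kernel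
  refine ⟨yE (0, 1, false), yE_X he, Fin.ext ?_⟩
  rw [col_k0 he]
  decide +kernel

/-- **The eigenvector of the intersection matrix with the eigenvalue `495`.** -/
theorem exists_phi : ∃ φ : Fin 10 → ℂ, φ 0 ≠ 0 ∧ ∀ u, ∑ w, (P u w : ℂ) * φ w = 495 * φ u := by
  classical
  obtain ⟨y, hy, h1⟩ := exists_y
  set f : Om → ℂ := fun z => ((psi (vv (col M z.1 y)) : ℤ) : ℂ) with hf
  have hA : Col.AA kap 1 f = (495 : ℂ) • f := by
    funext x
    rw [Col.AA_apply]
    have h2 := (S_eq x hy h1).1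
    have h3 := congrArg (fun n : ℤ => (n : ℂ)) h2
    unfold S at h3
    push_cast at h3
    rw [Pi.smul_apply, smul_eq_mul, hf]
    rw [← h3]
  have hb : f b1 ≠ 0 := by
    show ((psi (vv (col M b1.1 y)) : ℤ) : ℂ) ≠ 0
    exact_mod_cast (S_eq b1 hy h1).2
  obtain ⟨φ, h2, h3⟩ := BTenAvg.exists_phi isCol hA hb
  refine ⟨φ, h2, fun u => ?_⟩
  have h4 : kap b1 (R u) = kap (R u) b1 := kap_symm _ _
  have h5 := h3 (R u)
  rw [← h4, kap_R] at h5
  rw [← h5]
  refine Finset.sum_congr rfl fun w _ => ?_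
  congr 2
  exact isCol.nn_eq 1 h4 w

end Cfsg.Agent.H227.BTenPsi
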