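import Cfsg.Agent.H227.BTenB
import Cfsg.Agent.H670.PSing

/-!
# Degrees of irreducible characters of the Baby Monster, II (helper227)

* `deg_b` : a group isomorphic to the Baby Monster has irreducible complex characters of degrees
  `9458750 = 2.5^4.7.23.47`, `9287037474 = 2.3.11.13.17.19.23.31.47`, `536105794455 = 3^7.5.7.11.19.23.31.47`,
  `4275362520 = 2^3.3^3.5.11.13.19.31.47`, `4375623425250 = 2.3.5^3.7^2.11.17.19.23.31.47`,
  `6145833622500 = 2^2.3^3.5^4.11.13.19.23.31.47`, `635966233056 = 2^5.3^11.7.11.31.47`;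
* `seven_b` : an irreducible character of degree divisible by `49`, the `7`-part of the order (`7`-defect zero).
-/

set_option autoImplicit false

namespace Cfsg.Agent.H227.BTenRow

open Cfsg Cfsg.Agent.H227.BTenB

universe u

/-- **Degrees of the Baby Monster.** -/
theorem deg_b {S : Type u} [Group S] (h : Spor.IsoB S) {d : ℕ} (hd : d ∈ ds) :
    ∃ χ : IrrCharacter S, (χ : S → ℂ) 1 = (d : ℂ) ∧ charDegree (χ : S → ℂ) = d := by
  obtain ⟨χ, hχ, h1⟩ := exists_chi h hd
  exact ⟨⟨χ, hχ⟩, h1, Cfsg.Agent.H670.PSing.charDegree_eq_of h1⟩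

/-- **A character of `7`-defect zero of the Baby Monster.** -/
theorem seven_b {S : Type u} [Group S] (h : Spor.IsoB S) :
    ∃ χ : IrrCharacter S, 7 ^ 2 ∣ charDegree (χ : S → ℂ) := by
  obtain ⟨χ, -, hχ⟩ := deg_b h (d := 4375623425250) (by simp [ds])
  exact ⟨χ, by rw [hχ]; norm_num⟩

/-- A character of odd degree divisible by `7`, `11`, `19`, `23`, `31` and `47`. -/
theorem odd_b {S : Type u} [Group S] (h : Spor.IsoB S) :
    ∃ χ : IrrCharacter S, charDegree (χ : S → ℂ) = 536105794455 := by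
  obtain ⟨χ, -, hχ⟩ := deg_b h (d := 536105794455) (by simp [ds])
  exact ⟨χ, hχ⟩

end Cfsg.Agent.H227.BTenRow
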