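import Cfsg.Agent.H227.BTenCnt

/-!
# The values and the intersection numbers (helper227)

`val_sum` : the sums of the intersection numbers `nn kap 1 b1 (R u) w` over the colours `w` with a given value.
-/

set_option autoImplicit false
set_option maxRecDepth 100000

namespace Cfsg.Agent.H227.BTenVal

open Cfsg Cfsg.Agent.MonsterX Cfsg.Agent.MonsterX.Space Cfsg.Agent.MonsterX.Conc Cfsg.Agent.MonsterX.InstData
open Cfsg.Agent.MonsterX.Model Cfsg.Agent.MonsterX.MainBasic Cfsg.Agent.MonsterX.CertUTab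
open Cfsg.Agent.H816.MTab Cfsg.Agent.H816.MCol Cfsg.Agent.H816.MEnt Cfsg.Agent.H816.MCnt
open Cfsg.Agent.H816.IMEig Cfsg.Agent.H227.BTenCol Cfsg.Agent.H227.BTenCnt Cfsg.Agent.H227.BTenLane
open Cfsg.Agent.H227.BTenChk
open scoped BigOperators

theorem nk_pos : ∀ u : Fin 10, 0 < nk u := by decide +kernel

theorem exists_R (u : Fin 10) : ∃ y : Om, y.1 = yE (rp u) ∧ kap b1 y = u := by
  have h : 0 < Nat.card {y // kap b1 y = u} := by
    rw [show Nat.card {y // kap b1 y = u} = nk u from kk_eq u]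
    exact nk_pos u
  obtain ⟨⟨y, hy⟩⟩ := (Nat.card_pos_iff.1 h).1
  obtain ⟨g, g1, g2⟩ := exists_nf b1 y
  refine ⟨g • y, ?_, ?_⟩
  · rw [g2, hy]
  · rw [← hy, ← kap_inv g b1 y, g1]

/-- The representative points. -/
noncomputable def R (u : Fin 10) : Om := (exists_R u).choose

theorem R_val (u : Fin 10) : (R u).1 = yE (rp u) := (exists_R u).choose_spec.1

theorem kap_R (u : Fin 10) : kap b1 (R u) = u := (exists_R u).choose_spec.2

/-- The colour of a pair as a pair of axes. -/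
theorem col_kap (x y : Om) : col M x.1 y.1 = (jk (kap x y)).2 := by
  obtain ⟨g, g1, g2⟩ := exists_nf x y
  have h1 := ((kap_b1_iff (g • y) (kap x y)).1 (by rw [← kap_inv g x y, g1])).2
  have h2 : (g • x).1 = M.a₁ := by rw [g1]; rfl
  rw [← h1, ← h2]
  exact (col_smul hG hR hL hO H816.MEnt.hT g.2.1 x.2.1 _).symm

theorem F_kap (x y : Om) : M.F x.1 y.1 = (vv (jk (kap x y)).2 : ℚ) / 32 := by
  rw [F_eq x.2.1 y.2.1, col_kap]

theorem F_kap_iff (x y : Om) (a : ℕ) : M.F x.1 y.1 = (a : ℚ) / 32 ↔ vv (jk (kap x y)).2 = a := by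
  rw [vv_of x.2.1 y.2.1, col_kap]

/-! ### The neighbours -/

theorem F_σ_a₀ (s : V) : F (InstData.σ s) (vecV a0B) = M.F M.a₁ s := by
  rw [← M_a₀]
  show M.F (M.σ s) M.a₀ = _
  rw [← σ_a₁ hR, hR.σ_isom, hR.F_symm]

theorem mem_NB_iff {s : V} (hs : s ∈ M.X) (h0 : M.F M.a₀ s = 0) : s ∈ NB ↔ kap b1 ⟨s, hs, h0⟩ = 1 := by
  rw [kap_b1_iff]
  have hj : jk 1 = (0, 2) := rfl
  rw [hj]
  constructor
  · rintro ⟨h1, -, h3⟩
    rw [F_σ_a₀] at h3
    exact ⟨cls_S h1, (col_two a₁_X hs).2 h3⟩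
  · rintro ⟨h1, h2⟩
    refine ⟨mem_S_of hs h1, ?_, ?_⟩
    · rw [← M_a₀]
      show M.F s M.a₀ = 0
      rw [hR.F_symm]; exact h0
    · rw [F_σ_a₀]
      exact (col_two a₁_X hs).1 h2

theorem NB_X {s : V} (h : s ∈ NB) : s ∈ M.X ∧ M.F M.a₀ s = 0 := by
  refine ⟨S_X h.1, ?_⟩
  rw [hR.F_symm]
  have h1 := h.2.1
  rw [← M_a₀] at h1
  exact h1

/-- Counting over the neighbours of the base point. -/
theorem ncard_NB (p : V → Prop) : Nat.card {z : Om // kap b1 z = 1 ∧ p z.1} = {s | s ∈ NB ∧ p s}.ncard := by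
  rw [← Nat.card_coe_set_eq]
  refine Nat.card_congr ⟨fun z => ⟨z.1.1, (mem_NB_iff z.1.2.1 z.1.2.2).2 z.2.1, z.2.2⟩,
    fun s => ⟨⟨s.1, NB_X s.2.1⟩, (mem_NB_iff (NB_X s.2.1).1 (NB_X s.2.1).2).1 s.2.1, s.2.2⟩, fun _ => rfl,
    fun _ => rfl⟩

theorem card_fib {X W : Type*} [Finite X] [Fintype W] [DecidableEq W] (p : X → Prop) (f : X → W) (q : W → Prop)
    [DecidablePred q] : Nat.card {z // p z ∧ q (f z)} = ∑ w, if q w then Nat.card {z // p z ∧ f z = w} else 0 := by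
  classical
  have := Fintype.ofFinite X
  rw [Nat.card_eq_fintype_card, Fintype.card_subtype,
    Finset.card_eq_sum_card_fiberwise (f := f) (t := Finset.univ) (fun _ _ => Finset.mem_coe.2 (Finset.mem_univ _))]
  refine Finset.sum_congr rfl fun w _ => ?_
  split_ifs with h
  · rw [Nat.card_eq_fintype_card, Fintype.card_subtype]
    congr 1
    ext z
    simp only [Finset.mem_filter, Finset.mem_univ, true_and]
    constructor
    · rintro ⟨⟨h1, h2⟩, h3⟩; exact ⟨h1, h3⟩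
    · rintro ⟨h1, h3⟩; exact ⟨⟨h1, by rw [h3]; exact h⟩, h3⟩
  · rw [Finset.card_eq_zero, Finset.filter_eq_empty_iff]
    intro z hz h3
    rw [Finset.mem_filter] at hz
    exact h (by rw [← h3]; exact hz.2.2)

/-- The number of the neighbours of the base point with a given value. -/
def tlv (k a : ℕ) : ℕ := lk1 (tl.getD k ([], [])).1 a + lk1 (tl.getD k ([], [])).2 a

theorem ck_of {n k : ℕ} (h : ck n k = true) (a : ℕ) :
    Nat.card {z : Om // kap b1 z = 1 ∧ M.F z.1 (yE (es.getD k (0, 0, false))) = (a : ℚ) / 32} = tlv k a := by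
  rw [ncard_NB fun s => M.F s (yE (es.getD k (0, 0, false))) = (a : ℚ) / 32, yE_wd]
  exact cnt_of h a

theorem tab (k : Fin 16) (a : ℕ) :
    Nat.card {z : Om // kap b1 z = 1 ∧ M.F z.1 (yE (es.getD k.1 (0, 0, false))) = (a : ℚ) / 32} = tlv k.1 a := by
  fin_cases k
  · exact ck_of c0 a
  · exact ck_of c1 a
  · exact ck_of c2 a
  · exact ck_of c3 a
  · exact ck_of c4 a
  · exact ck_of c5 a
  · exact ck_of c6 a
  · exact ck_of c7 a
  · exact ck_of c8 a
  · exact ck_of c9 a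
  · exact ck_of c10 a
  · exact ck_of c11 a
  · exact ck_of c12 a
  · exact ck_of c13 a
  · exact ck_of c14 a
  · exact ck_of c15 a

theorem rp_es (u : Fin 10) : rp u = es.getD u.1 (0, 0, false) := by
  fin_cases u <;> rfl

/-- The intersection numbers. -/
noncomputable def P (u w : Fin 10) : ℕ := Col.nn kap 1 b1 (R u) w

/-- **The sums of the intersection numbers.** -/
theorem val_sum (u : Fin 10) (a : ℕ) : ∑ w, (if vv (jk w).2 = a then P u w else 0) = tlv u.1 a := by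
  rw [← tab ⟨u.1, by omega⟩ a]
  show _ = Nat.card {z : Om // kap b1 z = 1 ∧ M.F z.1 (yE (es.getD u.1 (0, 0, false))) = (a : ℚ) / 32}
  rw [← rp_es, ← R_val]
  have h1 := card_fib (fun z : Om => kap b1 z = 1) (fun z => kap z (R u)) (fun w => vv (jk w).2 = a)
  rw [show (∑ w, (if vv (jk w).2 = a then P u w else 0)) =
    ∑ w, (if vv (jk w).2 = a then Nat.card {z : Om // kap b1 z = 1 ∧ kap z (R u) = w} else 0) from rfl, ← h1]
  refine Nat.card_congr (Equiv.subtypeEquivRight fun z => ?_)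
  rw [F_kap_iff]

/-- **The symmetry of the intersection numbers.** -/
theorem P_symm (u w : Fin 10) : nk u * P u w = nk w * P w u := by
  have hz : kap b1 (R 1) = 1 := kap_R 1
  have key : ∀ u w : Fin 10, P u w * nk u = nk 1 * Col.tt kap b1 (R 1) u w := by
    intro u w
    have h := isCol.nn_mul (x₀ := b1) (z₀ := R 1) b1 (R u) w
    rw [hz, kap_R, kk_eq, kk_eq] at h
    exact h
  have h2 : Col.tt kap b1 (R 1) u w = Col.tt kap b1 (R 1) w u := by
    rw [isCol.tt_eq (x := b1) (z := R 1) (x' := R 1) (z' := b1) (kap_symm _ _)]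
    unfold Col.tt
    exact Nat.card_congr (Equiv.subtypeEquivRight fun y => And.comm)
  rw [Nat.mul_comm, key, h2, ← key, Nat.mul_comm]

theorem tt_eq (u w : Fin 10) : P u w * nk u = nk 1 * Col.tt kap b1 (R 1) u w := by
  have hz : kap b1 (R 1) = 1 := kap_R 1
  have h := isCol.nn_mul (x₀ := b1) (z₀ := R 1) b1 (R u) w
  rw [hz, kap_R, kk_eq, kk_eq] at h
  exact h

end Cfsg.Agent.H227.BTenVal
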