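import Cfsg.Agent.H227.FrakL
import Mathlib.GroupTheory.SpecificGroups.Dihedral

/-!
# The action of a `Y`-minimal group `L` on `O_2(L)/C_Y(L)`: `L/O_2(L)` with one class of involutions, in which the
elements of odd prime order are inverted by involutions
-/

set_option autoImplicit false
set_option linter.unusedSectionVars false

namespace Cfsg.Agent.H227.FrakL

open Subgroup Cfsg
open Cfsg.Agent.H227.Weak (cj mem_cj cj_cj cj_eq_self_iff cj_le_iff cj_mono cj_cj_inv cj_inv_cj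
  conj_mem_cj cj_eq_iff cj_inj cj_normal cj_sup cj_inf cj_eq_self_of_mem cj_commutator cj_one)

section invol

variable {L : Type*} [Group L] [Finite L] {Y : Subgroup L}

theorem Setup.fp_invol [Fact (Nat.Prime 2)] (S : Setup 2 Y) {J : Type*} [Group J] (φ : L →* J)
    (hφ : Function.Surjective φ) (hker : φ.ker = pCore 2 L)
    (hconj : ∀ s t : J, s * s = 1 → s ≠ 1 → t * t = 1 → t ≠ 1 → ∃ g, g * s * g⁻¹ = t)
    (hinv : ∀ (x : J) (r : ℕ), r.Prime → r ≠ 2 → orderOf x = r →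
      ∃ t, t * t = 1 ∧ t ≠ 1 ∧ t * x * t⁻¹ = x⁻¹)
    {h : L} (hnp : ¬ ∃ k : ℕ, orderOf h = 2 ^ k) : Fp 2 Y h := by
  have memP : ∀ x : L, x ∈ pCore 2 L ↔ φ x = 1 := fun x => by rw [← hker, MonoidHom.mem_ker]
  -- an odd prime divisor
  obtain ⟨r, hr, hr2, hrn⟩ : ∃ r : ℕ, r.Prime ∧ r ≠ 2 ∧ r ∣ orderOf h := by
    by_contra! hcon
    apply hnp
    refine ⟨_, Nat.eq_prime_pow_of_unique_prime_dvd (orderOf_pos h).ne' ?_⟩
    intro d hd hdn
    by_contra hne
    exact hcon d hd hne hdn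
  set n := orderOf h / r with hn
  apply S.fp_of_pow n
  have hrn' : orderOf (h ^ n) = r := by
    rw [hn, orderOf_pow_of_dvd (Nat.div_pos (Nat.le_of_dvd (orderOf_pos h) hrn) hr.pos).ne'
      (Nat.div_dvd_of_dvd hrn), Nat.div_div_self hrn (orderOf_pos h).ne']
  set h' := h ^ n with hh'
  have hx : orderOf (φ h') = r := by
    have h1 : orderOf (φ h') ∣ r := hrn' ▸ orderOf_map_dvd φ h'
    rcases (Nat.dvd_prime hr).1 h1 with h2 | h2
    · exfalso
      have h3 : φ h' = 1 := orderOf_eq_one_iff.1 h2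
      rw [← memP] at h3
      have h4 := Weak.eq_one_of_coprime (p := 2) (Lib.Cores.pCore_isPGroup (G := L) 2) h3 (by
        rw [hrn']
        exact (Nat.coprime_primes hr Nat.prime_two).2 hr2)
      rw [h4, orderOf_one] at hrn'
      exact hr.one_lt.ne hrn'
    · exact h2
  obtain ⟨t, htt, ht1, htx⟩ := hinv _ r hr hr2 hx
  set x := φ h' with hxd
  have hti : t⁻¹ = t := inv_eq_of_mul_eq_one_left htt
  have hx1 : x * x ≠ 1 := by
    intro h1
    have h2 : orderOf x ∣ 2 := orderOf_dvd_of_pow_eq_one (by rw [pow_two, h1])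
    rw [hx] at h2
    exact hr2 ((Nat.prime_dvd_prime_iff_eq hr Nat.prime_two).1 h2)
  have htx' : t * x * t = x⁻¹ := by rw [hti] at htx; exact htx
  have hux : (t * x) * (t * x) = 1 := by
    rw [← mul_assoc, htx', inv_mul_cancel]
  have hu1 : t * x ≠ 1 := by
    intro h1
    apply hx1
    have h2 : x = t := by rw [← hti]; exact (inv_eq_of_mul_eq_one_right h1).symm
    rw [h2, htt]
  -- an element of `Y ∖ P`
  obtain ⟨y, hy, hyP⟩ : ∃ y ∈ Y, y ∉ pCore 2 L := by
    by_contra! hcon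
    have h1 := YMin.eq_top_of_normal S.min S.Pn hcon
    have h2 : h' ∈ pCore 2 L := h1 ▸ mem_top _
    rw [memP] at h2
    rw [hxd, h2, orderOf_one] at hx
    exact hr.one_lt.ne hx
  have hyy : φ y * φ y = 1 := by
    rw [← map_mul, ← pow_two, S.el.2 y hy, map_one]
  have hy1 : φ y ≠ 1 := fun h => hyP ((memP y).2 h)
  obtain ⟨a, ha⟩ := hconj _ _ hyy hy1 htt ht1
  obtain ⟨b, hb⟩ := hconj _ _ hyy hy1 hux hu1
  obtain ⟨a, rfl⟩ := hφ a
  obtain ⟨b, rfl⟩ := hφ b
  have ea : φ (a * y * a⁻¹) = t := by rw [map_mul, map_mul, map_inv, ha]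
  have eb : φ (b * y * b⁻¹) = t * x := by rw [map_mul, map_mul, map_inv, hb]
  have h1 : h' = ((a * y * a⁻¹) * (b * y * b⁻¹)) * (((a * y * a⁻¹) * (b * y * b⁻¹))⁻¹ * h') := by
    group
  rw [h1]
  refine S.fp_congr ?_ (S.fp_mul (a := a) (b := b) ?_ (conj_mem_cj hy) (conj_mem_cj hy) ?_ ?_)
  · rw [memP, map_mul, map_inv, map_mul, ea, eb, ← mul_assoc, htt, one_mul, inv_mul_cancel]
  · intro heq
    have h2 : (a * y * a⁻¹) * (b * y * b⁻¹) = (b * y * b⁻¹) * (a * y * a⁻¹) :=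
      S.cjYc (heq ▸ conj_mem_cj hy) (conj_mem_cj hy)
    have h3 := congrArg φ h2
    rw [map_mul φ (a * y * a⁻¹), map_mul φ (b * y * b⁻¹), ea, eb, ← mul_assoc, htt, one_mul,
      htx'] at h3
    apply hx1
    rw [mul_eq_one_iff_eq_inv]
    exact h3
  · rw [memP, ea]; exact ht1
  · rw [memP, eb]; exact hu1

end invol

section dihedral

theorem dihedral_conj {r : ℕ} (hr : Odd r) (s t : DihedralGroup r) (hs : s * s = 1) (hs1 : s ≠ 1)
    (ht : t * t = 1) (ht1 : t ≠ 1) : ∃ g, g * s * g⁻¹ = t := by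
  have hu : IsUnit (2 : ZMod r) := by
    have : IsUnit ((2 : ℕ) : ZMod r) :=
      (ZMod.isUnit_iff_coprime 2 r).2 (Nat.coprime_two_left.2 hr)
    exact_mod_cast this
  have key : ∀ i : ZMod r, i + i = 0 → i = 0 := by
    intro i hi
    rw [← two_mul] at hi
    exact (hu.mul_right_eq_zero).1 hi
  obtain ⟨u, hu'⟩ := hu
  have hu2 : (2 : ZMod r) * (u⁻¹ : (ZMod r)ˣ) = 1 := by rw [← hu', Units.mul_inv]
  rcases s with i | i
  · exfalso
    apply hs1
    rw [DihedralGroup.r_mul_r, DihedralGroup.one_def] at hs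
    rw [DihedralGroup.one_def, key i (DihedralGroup.r.inj hs)]
  rcases t with j | j
  · exfalso
    apply ht1
    rw [DihedralGroup.r_mul_r, DihedralGroup.one_def] at ht
    rw [DihedralGroup.one_def, key j (DihedralGroup.r.inj ht)]
  refine ⟨DihedralGroup.r ((i - j) * (u⁻¹ : (ZMod r)ˣ)), ?_⟩
  rw [DihedralGroup.r_mul_sr, DihedralGroup.inv_r, DihedralGroup.sr_mul_r]
  congr 1
  linear_combination (-(i - j)) * hu2

theorem dihedral_inv {r : ℕ} (x : DihedralGroup r) (q : ℕ) (hq2 : q ≠ 2)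
    (hx : orderOf x = q) : ∃ t : DihedralGroup r, t * t = 1 ∧ t ≠ 1 ∧ t * x * t⁻¹ = x⁻¹ := by
  rcases x with i | i
  · refine ⟨DihedralGroup.sr 0, ?_, ?_, ?_⟩
    · rw [DihedralGroup.sr_mul_sr, sub_zero, DihedralGroup.one_def]
    · rw [DihedralGroup.one_def]; intro h; cases h
    · rw [DihedralGroup.inv_sr, DihedralGroup.inv_r, DihedralGroup.sr_mul_r,
        DihedralGroup.sr_mul_sr]
      simp
  · exfalso
    rw [DihedralGroup.orderOf_sr] at hx
    exact hq2 hx.symm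

end dihedral

end Cfsg.Agent.H227.FrakL
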