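import Cfsg.Agent.H227.YMin2

/-!
# The action of a `Y`-minimal group `L` on `O_p(L)/C_Y(L)`

Setting: `L` of characteristic `p`, `Y`-minimal, `N_L(Y)` maximal, `Y` elementary abelian, `P = O_p(L)` normalizes
`Y` and is the normal closure of `P ∩ Y`; `Z = Y ∩ Z(L)`.  We prove that a product of two elements of `L ∖ P` lying
in two different conjugates of `Y` has no nontrivial fixed point on `P/Z`.
-/

set_option autoImplicit false
set_option linter.unusedSectionVars false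

namespace Cfsg.Agent.H227.FrakL

open Subgroup Cfsg
open Cfsg.Agent.H227.Weak (cj mem_cj cj_cj cj_eq_self_iff cj_le_iff cj_mono cj_cj_inv cj_inv_cj
  conj_mem_cj cj_eq_iff cj_inj cj_normal cj_sup cj_inf cj_eq_self_of_mem cj_commutator cj_one)

/-- the setting -/
structure Setup (p : ℕ) {L : Type*} [Group L] (Y : Subgroup L) : Prop where
  char : centralizer (pCore p L : Set L) ≤ pCore p L
  coatom : IsCoatom (normalizer (Y : Set L))
  el : IsElementaryAbelian p Y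
  min : IsMinimalOver Y
  norm : pCore p L ≤ normalizer (Y : Set L)
  gen : pCore p L = normalClosure (((pCore p L ⊓ Y : Subgroup L)) : Set L)

/-- `h` acts on `P/Z` without nontrivial fixed points -/
def Fp (p : ℕ) {L : Type*} [Group L] (Y : Subgroup L) (h : L) : Prop :=
  ∀ x ∈ pCore p L, h * x * h⁻¹ * x⁻¹ ∈ Y ⊓ center L → x ∈ Y ⊓ center L

variable {L : Type*} [Group L] [Finite L] {p : ℕ} [hp : Fact p.Prime] {Y : Subgroup L}

theorem mem_center_comm {x : L} (hx : x ∈ Y ⊓ center L) (y : L) : y * x = x * y :=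
  mem_center_iff.1 hx.2 y

theorem Z_normal (Y : Subgroup L) : (Y ⊓ center L).Normal := by
  constructor
  intro x hx y
  rw [mem_center_comm hx y, mul_inv_cancel_right]
  exact hx

theorem cj_Z (g : L) (Y : Subgroup L) : cj g (Y ⊓ center L) = Y ⊓ center L := by
  have := Z_normal Y
  exact cj_normal g _

theorem Z_le_cj (g : L) (Y : Subgroup L) : Y ⊓ center L ≤ cj g Y := by
  rw [← cj_Z g Y]
  exact cj_mono g inf_le_left

namespace Setup

variable (S : Setup p Y)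
include S

theorem exists_not_mem : ∃ g : L, g ∉ normalizer (Y : Set L) := by
  by_contra! h
  exact S.coatom.1 (eq_top_iff.2 fun g _ => h g)

theorem Pn : (pCore p L).Normal := Lib.Cores.pCore_normal p

theorem Z_le_P : Y ⊓ center L ≤ pCore p L := by
  refine inf_le_right.trans (le_trans ?_ S.char)
  intro z hz
  rw [mem_centralizer_iff]
  intro x _
  exact mem_center_iff.1 hz x

theorem main {g : L} (hg : g ∉ normalizer (Y : Set L)) :
    ⁅pCore p L, pCore p L⁆ ≤ Y ⊓ center L ∧ Y ⊓ cj g Y = Y ⊓ center L := by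
  obtain ⟨-, h1, -, h2, h3, -⟩ :=
    YMin.commutators S.char _ S.coatom Y le_normalizer S.el S.min S.norm _ S.gen g hg
  rw [← h1] at h2
  exact ⟨h2, h3⟩

theorem comm_mem {x y : L} (hx : x ∈ pCore p L) (hy : y ∈ pCore p L) :
    x * y * x⁻¹ * y⁻¹ ∈ Y ⊓ center L := by
  obtain ⟨g, hg⟩ := S.exists_not_mem
  exact (S.main hg).1 (commutator_mem_commutator hx hy)

theorem inf_cj {g : L} (hg : g ∉ normalizer (Y : Set L)) : Y ⊓ cj g Y = Y ⊓ center L :=
  (S.main hg).2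

theorem cj_inf_cj {a b : L} (hab : cj a Y ≠ cj b Y) : cj a Y ⊓ cj b Y = Y ⊓ center L := by
  have h1 : a⁻¹ * b ∉ normalizer (Y : Set L) := by
    intro h
    apply hab
    rw [← cj_eq_self_iff, ← cj_cj, cj_eq_iff, inv_inv] at h
    exact h.symm
  have h2 := congrArg (cj a) (S.inf_cj h1)
  rwa [Weak.cj_inf, cj_cj, mul_inv_cancel_left, cj_Z] at h2

theorem P_le_norm_cj (g : L) : pCore p L ≤ normalizer ((cj g Y : Subgroup L) : Set L) := by
  have := S.Pn
  have h := Weak.le_normalizer_cj (g := g) S.norm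
  rwa [cj_normal g (pCore p L)] at h

theorem exists_mul {g : L} (hg : g ∉ normalizer (Y : Set L)) {x : L} (hx : x ∈ pCore p L) :
    ∃ b ∈ pCore p L ⊓ Y, ∃ c ∈ pCore p L ⊓ cj g Y, x = b * c := by
  have hPn := S.Pn
  have hPY : ⁅pCore p L, Y⁆ ≤ pCore p L ⊓ Y :=
    le_inf (commutator_le_left _ _) (Weak.commutator_le_of_le_normalizer' S.norm)
  have hPYg : ⁅pCore p L, cj g Y⁆ ≤ pCore p L ⊓ cj g Y :=
    le_inf (commutator_le_left _ _) (Weak.commutator_le_of_le_normalizer' (S.P_le_norm_cj g))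
  have hBC : ((pCore p L ⊓ Y) ⊔ (pCore p L ⊓ cj g Y)).Normal := by
    rw [← normalizer_eq_top_iff, eq_top_iff,
      ← YMin.sup_cj_eq_top S.coatom le_normalizer S.min hg]
    refine sup_le ?_ ?_
    · apply Weak.le_normalizer_of_commutator_le
      exact (commutator_mono (sup_le inf_le_left inf_le_left) le_rfl).trans
        (hPY.trans le_sup_left)
    · apply Weak.le_normalizer_of_commutator_le
      exact (commutator_mono (sup_le inf_le_left inf_le_left) le_rfl).trans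
        (hPYg.trans le_sup_right)
  have h1 : pCore p L ≤ (pCore p L ⊓ Y) ⊔ (pCore p L ⊓ cj g Y) := by
    conv_lhs => rw [S.gen]
    exact normalClosure_le_normal (le_sup_left : pCore p L ⊓ Y ≤ _)
  have h2 : pCore p L ⊓ cj g Y ≤ normalizer ((pCore p L ⊓ Y : Subgroup L) : Set L) := by
    intro x hx
    rw [← cj_eq_self_iff, Weak.cj_inf, cj_normal x (pCore p L),
      cj_eq_self_iff.2 (S.norm (mem_inf.1 hx).1)]
  exact Weak.exists_mul_of_mem_sup h2 (h1 hx)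

theorem Yc {x y : L} (hx : x ∈ Y) (hy : y ∈ Y) : x * y = y * x := by
  have hYc : IsMulCommutative Y := S.el.1
  exact congrArg Subtype.val (hYc.is_comm.comm (⟨x, hx⟩ : Y) ⟨y, hy⟩)

theorem cjYc {g x y : L} (hx : x ∈ cj g Y) (hy : y ∈ cj g Y) : x * y = y * x := by
  rw [mem_cj] at hx hy
  have h2 := S.Yc hx hy
  have h3 : g⁻¹ * (x * y) * g = g⁻¹ * (y * x) * g := by simpa [mul_assoc] using h2
  simpa using h3

/-- an element centralizing `P/Z` lies in `P` -/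
theorem mem_P_of_forall {y : L} (hy : ∀ x ∈ pCore p L, y * x * y⁻¹ * x⁻¹ ∈ Y ⊓ center L) :
    y ∈ pCore p L := by
  have hPn := S.Pn
  have hZn := Z_normal Y
  have hPp : IsPGroup p (pCore p L) := Lib.Cores.pCore_isPGroup p
  let D : Subgroup L :=
    { carrier := {d | ∀ x ∈ pCore p L, d * x * d⁻¹ * x⁻¹ ∈ Y ⊓ center L}
      one_mem' := by intro x _; simp
      mul_mem' := by
        intro a b ha hb x hx
        have h1 := ha _ (hPn.conj_mem x hx b)
        have h2 := hb x hx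
        have : a * b * x * (a * b)⁻¹ * x⁻¹ = (a * (b * x * b⁻¹) * a⁻¹ * (b * x * b⁻¹)⁻¹) *
            (b * x * b⁻¹ * x⁻¹) := by group
        rw [this]
        exact mul_mem h1 h2
      inv_mem' := by
        intro a ha x hx
        have h1 := ha _ (hPn.conj_mem x hx a⁻¹)
        have : a⁻¹ * x * a⁻¹⁻¹ * x⁻¹ = (a * (a⁻¹ * x * a⁻¹⁻¹) * a⁻¹ * (a⁻¹ * x * a⁻¹⁻¹)⁻¹)⁻¹ := by
          group
        rw [this]
        exact inv_mem h1 }
  have hDn : D.Normal := by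
    constructor
    intro d hd g x hx
    have h1 := hd _ (hPn.conj_mem x hx g⁻¹)
    have : g * d * g⁻¹ * x * (g * d * g⁻¹)⁻¹ * x⁻¹ =
        g * (d * (g⁻¹ * x * g⁻¹⁻¹) * d⁻¹ * (g⁻¹ * x * g⁻¹⁻¹)⁻¹) * g⁻¹ := by group
    rw [this]
    exact hZn.conj_mem _ h1 g
  have hDp : IsPGroup p D := by
    refine Weak.isPGroup_of_forall fun d hd hdc => ?_
    refine Weak.eq_one_of_coprime hPp (S.char ?_) hdc
    rw [mem_centralizer_iff]
    intro x hx
    have hz := hd x hx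
    set z := d * x * d⁻¹ * x⁻¹ with hzd
    have h1 : ∀ n : ℕ, d ^ n * x * (d ^ n)⁻¹ = z ^ n * x := by
      intro n
      induction n with
      | zero => simp
      | succ n ih =>
        have e1 : d ^ (n + 1) * x * (d ^ (n + 1))⁻¹ = d * (d ^ n * x * (d ^ n)⁻¹) * d⁻¹ := by
          rw [pow_succ']; group
        have e2 : d * z ^ n = z ^ n * d := mem_center_comm (pow_mem hz n) d
        have e3 : d * x * d⁻¹ = z * x := by rw [hzd]; group
        rw [e1, ih, ← mul_assoc, e2, mul_assoc, mul_assoc, ← mul_assoc d x, e3, ← mul_assoc, pow_succ]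
    have h2 := h1 (orderOf d)
    rw [pow_orderOf_eq_one, one_mul, inv_one, mul_one] at h2
    have h3 : z ^ orderOf d = 1 := by
      have : z ^ orderOf d * x = 1 * x := by rw [← h2, one_mul]
      exact mul_right_cancel this
    have h4 : z = 1 := by
      refine Weak.eq_one_of_coprime hPp (S.Z_le_P hz) ?_
      exact Nat.Coprime.coprime_dvd_left (orderOf_dvd_of_pow_eq_one h3) hdc
    have h5 : d * x * d⁻¹ = x := by
      have : d * x * d⁻¹ = z * x := by rw [hzd]; group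
      rw [this, h4, one_mul]
    rw [mul_inv_eq_iff_eq_mul] at h5
    exact h5.symm
  exact Lib.Cores.le_pCore hDn hDp (show y ∈ D from hy)

/-- `Y ∩ N_L(Y^g) ≤ P` for `g ∉ N_L(Y)` -/
theorem mem_P_of_normalizes {g : L} (hg : g ∉ normalizer (Y : Set L)) {y : L} (hy : y ∈ Y)
    (hyg : y ∈ normalizer ((cj g Y : Subgroup L) : Set L)) : y ∈ pCore p L := by
  refine S.mem_P_of_forall fun x hx => ?_
  obtain ⟨b, hb, c, hc, rfl⟩ := S.exists_mul hg hx
  have h1 : y * b * y⁻¹ = b := by rw [S.Yc hy hb.2, mul_inv_cancel_right]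
  have h2 : y * c * y⁻¹ * c⁻¹ ∈ Y ⊓ center L := by
    rw [← S.inf_cj hg]
    refine mem_inf.2 ⟨?_, ?_⟩
    · have : c * y⁻¹ * c⁻¹ ∈ Y := (mem_normalizer_iff.1 (S.norm hc.1) _).1 (inv_mem hy)
      have h3 := mul_mem hy this
      simpa [mul_assoc] using h3
    · exact mul_mem ((mem_normalizer_iff.1 hyg _).1 hc.2) (inv_mem hc.2)
  have h3 : y * (b * c) * y⁻¹ * (b * c)⁻¹ = (y * b * y⁻¹) * (y * c * y⁻¹ * c⁻¹) * b⁻¹ := by group
  rw [h3, h1, mem_center_comm h2, mul_inv_cancel_right]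
  exact h2

theorem not_mem_center_of {y : L} (hy : y ∉ pCore p L) : y ∉ Y ⊓ center L :=
  fun h => hy (S.Z_le_P h)

/-- `C_{P/Z}(y) = (P ∩ Y)/Z` for `y ∈ Y ∖ P` -/
theorem mem_Y_of_comm {y x : L} (hy : y ∈ Y) (hyP : y ∉ pCore p L) (hx : x ∈ pCore p L)
    (hyx : y * x * y⁻¹ * x⁻¹ ∈ Y ⊓ center L) : x ∈ Y := by
  have hPn := S.Pn
  have hZn := Z_normal Y
  obtain ⟨g, hg⟩ := S.exists_not_mem
  obtain ⟨b, hb, c, hc, rfl⟩ := S.exists_mul hg hx
  refine Y.mul_mem hb.2 ?_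
  -- `[y, c] ∈ Z`
  have h1 : y * b * y⁻¹ = b := by rw [S.Yc hy hb.2, mul_inv_cancel_right]
  have hyc : y * c * y⁻¹ * c⁻¹ ∈ Y ⊓ center L := by
    have h3 : y * c * y⁻¹ * c⁻¹ = b⁻¹ * (y * (b * c) * y⁻¹ * (b * c)⁻¹) * b := by
      have : y * (b * c) * y⁻¹ * (b * c)⁻¹ = (y * b * y⁻¹) * (y * c * y⁻¹ * c⁻¹) * b⁻¹ := by group
      rw [this, h1]; group
    rw [h3, mem_center_comm hyx, inv_mul_cancel_right]
    exact hyx
  -- the subgroup of `e` with `[e, c] ∈ Z`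
  let E : Subgroup L :=
    { carrier := {e | e * c * e⁻¹ * c⁻¹ ∈ Y ⊓ center L}
      one_mem' := by
        change (1 : L) * c * 1⁻¹ * c⁻¹ ∈ Y ⊓ center L
        simp
      mul_mem' := by
        intro a b (ha : a * c * a⁻¹ * c⁻¹ ∈ Y ⊓ center L) (hb : b * c * b⁻¹ * c⁻¹ ∈ Y ⊓ center L)
        change a * b * c * (a * b)⁻¹ * c⁻¹ ∈ Y ⊓ center L
        have : a * b * c * (a * b)⁻¹ * c⁻¹ = (a * (b * c * b⁻¹ * c⁻¹) * a⁻¹) *
            (a * c * a⁻¹ * c⁻¹) := by group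
        rw [this]
        exact mul_mem (hZn.conj_mem _ hb a) ha
      inv_mem' := by
        intro a (ha : a * c * a⁻¹ * c⁻¹ ∈ Y ⊓ center L)
        change a⁻¹ * c * a⁻¹⁻¹ * c⁻¹ ∈ Y ⊓ center L
        have : a⁻¹ * c * a⁻¹⁻¹ * c⁻¹ = (a⁻¹ * (a * c * a⁻¹ * c⁻¹) * a⁻¹⁻¹)⁻¹ := by group
        rw [this]
        exact inv_mem (hZn.conj_mem _ ha a⁻¹) }
  have hEg : cj g Y ≤ E := by
    intro e he
    change e * c * e⁻¹ * c⁻¹ ∈ Y ⊓ center L
    rw [S.cjYc he hc.2, mul_inv_cancel_right, mul_inv_cancel]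
    exact one_mem _
  have hEy : y ∈ E := hyc
  have hET : E = ⊤ := by
    by_contra hne
    have h2 : cj g⁻¹ E ≠ ⊤ := by
      intro h
      rw [cj_eq_iff] at h
      exact hne (h.trans (cj_normal _ ⊤))
    have h3 := YMin.le_of_ne_top S.coatom le_normalizer S.min h2 (cj_le_iff.1 hEg)
    have h4 : E ≤ normalizer ((cj g Y : Subgroup L) : Set L) := by
      have := cj_mono g h3
      rwa [cj_cj_inv, Weak.cj_normalizer] at this
    exact hyP (S.mem_P_of_normalizes hg hy (h4 hEy))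
  -- `C_L(c)` is normal
  have hCn : (centralizer ({c} : Set L)).Normal := by
    constructor
    intro e he f
    rw [mem_centralizer_singleton_iff] at he ⊢
    have hf : f⁻¹ ∈ E := hET ▸ mem_top _
    change f⁻¹ * c * f⁻¹⁻¹ * c⁻¹ ∈ Y ⊓ center L at hf
    set z := f⁻¹ * c * f⁻¹⁻¹ * c⁻¹ with hz
    have h2 : f⁻¹ * c * f = z * c := by rw [hz]; group
    clear_value z
    have h3 : e * (z * c) = z * c * e := by
      have e1 := mem_center_comm hf e
      calc e * (z * c) = e * z * c := by rw [mul_assoc]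
        _ = z * (e * c) := by rw [e1, mul_assoc]
        _ = z * c * e := by rw [he, mul_assoc]
    have h4 : c = f * (z * c) * f⁻¹ := by rw [← h2]; group
    calc f * e * f⁻¹ * c = f * e * f⁻¹ * (f * (z * c) * f⁻¹) := by rw [← h4]
      _ = f * (e * (z * c)) * f⁻¹ := by group
      _ = f * (z * c * e) * f⁻¹ := by rw [h3]
      _ = f * (z * c) * f⁻¹ * (f * e * f⁻¹) := by group
      _ = c * (f * e * f⁻¹) := by rw [← h4]
  have hYC : Y ≤ centralizer ({c} : Set L) := by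
    have h2 : cj g Y ≤ centralizer ({c} : Set L) := by
      intro e he
      rw [mem_centralizer_singleton_iff]
      exact S.cjYc he hc.2
    have h3 := cj_le_iff.1 h2
    rwa [cj_normal g⁻¹ (centralizer ({c} : Set L))] at h3
  have hCT := YMin.eq_top_of_normal S.min hCn hYC
  have hcc : c ∈ center L := by
    rw [mem_center_iff]
    intro e
    exact mem_centralizer_singleton_iff.1 (hCT ▸ mem_top e : e ∈ centralizer ({c} : Set L))
  have h5 : g⁻¹ * c * g = c := by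
    rw [mul_assoc, ← mem_center_iff.1 hcc g, inv_mul_cancel_left]
  have h6 := mem_cj.1 hc.2
  rwa [h5] at h6

theorem mem_cjY_of_comm {g y x : L} (hy : y ∈ cj g Y) (hyP : y ∉ pCore p L) (hx : x ∈ pCore p L)
    (hyx : y * x * y⁻¹ * x⁻¹ ∈ Y ⊓ center L) : x ∈ cj g Y := by
  have hPn := S.Pn
  have hZn := Z_normal Y
  rw [mem_cj] at hy ⊢
  refine S.mem_Y_of_comm hy ?_ ?_ ?_
  · intro h
    apply hyP
    have := hPn.conj_mem _ h g
    simpa [mul_assoc] using this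
  · simpa using hPn.conj_mem _ hx g⁻¹
  · have := hZn.conj_mem _ hyx g⁻¹
    have h2 : g⁻¹ * y * g * (g⁻¹ * x * g) * (g⁻¹ * y * g)⁻¹ * (g⁻¹ * x * g)⁻¹ =
        g⁻¹ * (y * x * y⁻¹ * x⁻¹) * g⁻¹⁻¹ := by group
    rw [h2]
    exact this

/-- the fixed point property depends only on the coset modulo `P` -/
theorem fp_congr {h n : L} (hn : n ∈ pCore p L) (hh : Fp p Y h) : Fp p Y (h * n) := by
  intro x hx hhx
  have hZn := Z_normal Y
  apply hh x hx
  have h1 : n * x * n⁻¹ * x⁻¹ ∈ Y ⊓ center L := S.comm_mem hn hx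
  have h2 : h * n * x * (h * n)⁻¹ * x⁻¹ = (h * (n * x * n⁻¹ * x⁻¹) * h⁻¹) *
      (h * x * h⁻¹ * x⁻¹) := by group
  rw [h2] at hhx
  have h3 := mul_mem (inv_mem (hZn.conj_mem _ h1 h)) hhx
  rwa [inv_mul_cancel_left] at h3

theorem fp_conj {h : L} (g : L) (hh : Fp p Y (g * h * g⁻¹)) : Fp p Y h := by
  intro x hx hhx
  have hZn := Z_normal Y
  have hPn := S.Pn
  have h1 := hh (g * x * g⁻¹) (hPn.conj_mem x hx g) (by
    have h2 := hZn.conj_mem _ hhx g
    have h3 : g * h * g⁻¹ * (g * x * g⁻¹) * (g * h * g⁻¹)⁻¹ * (g * x * g⁻¹)⁻¹ =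
        g * (h * x * h⁻¹ * x⁻¹) * g⁻¹ := by group
    rw [h3]
    exact h2)
  have h2 := hZn.conj_mem _ h1 g⁻¹
  have h3 : g⁻¹ * (g * x * g⁻¹) * g⁻¹⁻¹ = x := by group
  rwa [h3] at h2

theorem fp_of_pow {h : L} (n : ℕ) (hh : Fp p Y (h ^ n)) : Fp p Y h := by
  intro x hx hhx
  have hZn := Z_normal Y
  apply hh x hx
  set z := h * x * h⁻¹ * x⁻¹ with hz
  have h1 : ∀ n : ℕ, h ^ n * x * (h ^ n)⁻¹ = z ^ n * x := by
    intro n
    induction n with
    | zero => simp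
    | succ n ih =>
      have e1 : h ^ (n + 1) * x * (h ^ (n + 1))⁻¹ = h * (h ^ n * x * (h ^ n)⁻¹) * h⁻¹ := by
        rw [pow_succ']; group
      have e2 : h * z ^ n = z ^ n * h := mem_center_comm (pow_mem hhx n) h
      have e3 : h * x * h⁻¹ = z * x := by rw [hz]; group
      rw [e1, ih, ← mul_assoc, e2, mul_assoc, mul_assoc, ← mul_assoc h x, e3, ← mul_assoc, pow_succ]
  rw [h1 n, mul_inv_cancel_right]
  exact pow_mem hhx n

/-- **Products of two elements from different conjugates of `Y`.** -/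
theorem fp_mul {a b y₁ y₂ : L} (hab : cj a Y ≠ cj b Y) (h1 : y₁ ∈ cj a Y) (h2 : y₂ ∈ cj b Y)
    (h1P : y₁ ∉ pCore p L) (h2P : y₂ ∉ pCore p L) : Fp p Y (y₁ * y₂) := by
  intro x hx hhx
  have hPn := S.Pn
  have hZn := Z_normal Y
  -- `[y₂, x] = z [y₁⁻¹, x]`
  have e1 : y₂ * x * y₂⁻¹ * x⁻¹ =
      (y₁⁻¹ * (y₁ * y₂ * x * (y₁ * y₂)⁻¹ * x⁻¹) * y₁⁻¹⁻¹) * (y₁⁻¹ * x * y₁⁻¹⁻¹ * x⁻¹) := by group
  have hz := hZn.conj_mem _ hhx y₁⁻¹
  have m2 : y₂ * x * y₂⁻¹ * x⁻¹ ∈ cj b Y := by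
    have : x * y₂⁻¹ * x⁻¹ ∈ cj b Y :=
      (mem_normalizer_iff.1 (S.P_le_norm_cj b hx) _).1 (inv_mem h2)
    have h3 := mul_mem h2 this
    simpa [mul_assoc] using h3
  have m1 : y₁⁻¹ * x * y₁⁻¹⁻¹ * x⁻¹ ∈ cj a Y := by
    have : x * y₁⁻¹⁻¹ * x⁻¹ ∈ cj a Y :=
      (mem_normalizer_iff.1 (S.P_le_norm_cj a hx) _).1 (inv_mem (inv_mem h1))
    have h3 := mul_mem (inv_mem h1) this
    simpa [mul_assoc] using h3
  have m2' : y₂ * x * y₂⁻¹ * x⁻¹ ∈ cj a Y := by
    rw [e1]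
    exact mul_mem (Z_le_cj a Y hz) m1
  have k2 : y₂ * x * y₂⁻¹ * x⁻¹ ∈ Y ⊓ center L := by
    rw [← S.cj_inf_cj hab]
    exact mem_inf.2 ⟨m2', m2⟩
  have k1 : y₁⁻¹ * x * y₁⁻¹⁻¹ * x⁻¹ ∈ Y ⊓ center L := by
    rw [e1] at k2
    have := mul_mem (inv_mem hz) k2
    rwa [inv_mul_cancel_left] at this
  have x2 := S.mem_cjY_of_comm h2 h2P hx k2
  have x1 := S.mem_cjY_of_comm (inv_mem h1) (fun h => h1P (by simpa using inv_mem h)) hx k1
  rw [← S.cj_inf_cj hab]
  exact mem_inf.2 ⟨x1, x2⟩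

/-- elements central modulo `P` -/
theorem fp_central {h y : L} (hc : ∀ e : L, h * e * h⁻¹ * e⁻¹ ∈ pCore p L) (hy : y ∈ Y)
    (hhy : Fp p Y (h * y)) : Fp p Y h := by
  intro x hx hhx
  have hPn := S.Pn
  have hZn := Z_normal Y
  -- `x' = [y, x]`
  set x' := y * x * y⁻¹ * x⁻¹ with hx'
  have hx'P : x' ∈ pCore p L := mul_mem (hPn.conj_mem _ hx y) (inv_mem hx)
  have hx'Y : x' ∈ Y := by
    have : x * y⁻¹ * x⁻¹ ∈ Y := (mem_normalizer_iff.1 (S.norm hx) _).1 (inv_mem hy)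
    have h3 := mul_mem hy this
    simpa [hx', mul_assoc] using h3
  -- `h` fixes `x'` modulo `Z`
  have k1 : h * x' * h⁻¹ * x'⁻¹ ∈ Y ⊓ center L := by
    set n := h * y * h⁻¹ * y⁻¹ with hn
    have hnP : n ∈ pCore p L := hc y
    set z := h * x * h⁻¹ * x⁻¹ with hz
    have e1 : h * y * h⁻¹ = n * y := by rw [hn]; group
    have e2 : h * x * h⁻¹ = z * x := by rw [hz]; group
    have e3 : h * x' * h⁻¹ = (h * y * h⁻¹) * (h * x * h⁻¹) * (h * y * h⁻¹)⁻¹ * (h * x * h⁻¹)⁻¹ := by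
      rw [hx']; group
    have ez : ∀ w : L, w * z = z * w := fun w => mem_center_comm hhx w
    have e4 : (n * y) * (z * x) * (n * y)⁻¹ * (z * x)⁻¹ = n * (y * x * y⁻¹) * n⁻¹ * x⁻¹ := by
      have : (n * y) * (z * x) = z * (n * y * x) := by
        rw [← mul_assoc (n * y) z x, ez, mul_assoc]
      rw [this, mul_inv_rev z x]
      have h5 : z * (n * y * x) * (n * y)⁻¹ * (x⁻¹ * z⁻¹) =
          z * (n * (y * x * y⁻¹) * n⁻¹ * x⁻¹) * z⁻¹ := by group
      rw [h5, ← ez, mul_inv_cancel_right]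
    have e5 : n * (y * x * y⁻¹) * n⁻¹ * (y * x * y⁻¹)⁻¹ ∈ Y ⊓ center L :=
      S.comm_mem hnP (hPn.conj_mem _ hx y)
    have e6 : h * x' * h⁻¹ * x'⁻¹ = n * (y * x * y⁻¹) * n⁻¹ * (y * x * y⁻¹)⁻¹ := by
      rw [e3, e1, e2, e4, hx']; group
    rw [e6]
    exact e5
  have k2 : x' ∈ Y ⊓ center L := by
    apply hhy x' hx'P
    have : h * y * x' * (h * y)⁻¹ * x'⁻¹ = h * (y * x' * y⁻¹) * h⁻¹ * x'⁻¹ := by group
    rw [this, S.Yc hy hx'Y, mul_inv_cancel_right]
    exact k1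
  -- hence `h y` fixes `x`
  apply hhy x hx
  have : h * y * x * (h * y)⁻¹ * x⁻¹ = (h * x' * h⁻¹) * (h * x * h⁻¹ * x⁻¹) := by
    rw [hx']; group
  rw [this]
  exact mul_mem (hZn.conj_mem _ k2 h) hhx

end Setup

end Cfsg.Agent.H227.FrakL
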