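import Cfsg.Agent.H227.FrakInv
import Cfsg.Agent.OddCyclic.ClaimC.Sz

/-!
# Suzuki groups: the elements of odd prime order are inverted by involutions

and `Sz(2)` is not the normal closure of an elementary abelian 2-subgroup.
-/

set_option autoImplicit false
set_option linter.unusedSectionVars false

namespace Cfsg.Agent.H227.FrakSz

open Subgroup Cfsg
open Cfsg.Agent.H227.Weak (cj mem_cj)
open Cfsg.Agent.ThreePrime Cfsg.Agent.ThreePrime.SzRel

theorem exists_inv_of_torus {J : Type*} [Group J] [Finite J] {r : ℕ} (hr : r.Prime)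
    {U : Subgroup J} (hU : ¬ r ∣ U.index) {t : J} (htt : t * t = 1) (ht1 : t ≠ 1)
    (ht : ∀ u ∈ U, t * u * t⁻¹ = u⁻¹) {x : J} (hx : orderOf x = r) :
    ∃ t : J, t * t = 1 ∧ t ≠ 1 ∧ t * x * t⁻¹ = x⁻¹ := by
  have : Fact r.Prime := ⟨hr⟩
  obtain ⟨P⟩ : Nonempty (Sylow r U) := inferInstance
  have hP : ¬ r ∣ ((P : Subgroup U).map U.subtype).index := by
    have h1 : ((P : Subgroup U).map U.subtype).relIndex U * U.index
        = ((P : Subgroup U).map U.subtype).index :=
      Subgroup.relIndex_mul_index (Subgroup.map_subtype_le _)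
    rw [← h1]
    have h2 : ((P : Subgroup U).map U.subtype).relIndex U = (P : Subgroup U).index := by
      rw [Subgroup.relIndex, Subgroup.subgroupOf, Subgroup.comap_map_eq_self_of_injective
        U.subtype_injective]
    rw [h2]
    intro h
    rcases hr.dvd_mul.1 h with h | h
    · exact P.not_dvd_index h
    · exact hU h
  have hPp : IsPGroup r ((P : Subgroup U).map U.subtype) := Weak.sylow_map_isPGroup P
  have hxp : IsPGroup r (zpowers x) := by
    refine IsPGroup.of_card (n := 1) ?_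
    rw [Nat.card_zpowers, hx, pow_one]
  obtain ⟨g, hg⟩ := Weak.exists_cj_le_sylow (hPp.toSylow hP) hxp
  have hgx : g * x * g⁻¹ ∈ U := by
    have h1 : g * x * g⁻¹ ∈ cj g (zpowers x) := Weak.conj_mem_cj (mem_zpowers x)
    exact Subgroup.map_subtype_le _ (hg h1)
  have h2 := ht _ hgx
  refine ⟨g⁻¹ * t * g, ?_, ?_, ?_⟩
  · have : g⁻¹ * t * g * (g⁻¹ * t * g) = g⁻¹ * (t * t) * g := by group
    rw [this, htt]; group
  · intro h
    apply ht1
    have : t = g * (g⁻¹ * t * g) * g⁻¹ := by group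
    rw [this, h]; group
  · have h3 : g⁻¹ * t * g * x * (g⁻¹ * t * g)⁻¹ = g⁻¹ * (t * (g * x * g⁻¹) * t⁻¹) * g := by group
    rw [h3, h2]; group

theorem no_closure {J : Type*} [Group J] [Finite J] (hJ : Nat.card J = 20) {u : J}
    (hu : u * u ≠ 1) (hu4 : (u * u) * (u * u) = 1) (T : Subgroup J) (hT : ∀ t ∈ T, t * t = 1)
    (hn : normalClosure (T : Set J) = ⊤) : False := by
  have h5 : Fact (Nat.Prime 5) := ⟨by norm_num⟩
  obtain ⟨R⟩ : Nonempty (Sylow 5 J) := inferInstance
  have hfac : (20 : ℕ).factorization 5 = 1 := by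
    have : (20 : ℕ) = 2 ^ 2 * 5 ^ 1 := by norm_num
    rw [this, Nat.factorization_mul (by norm_num) (by norm_num),
      Nat.Prime.factorization_pow Nat.prime_two, Nat.Prime.factorization_pow h5.out]
    simp
  have hR : Nat.card R = 5 := by
    rw [R.card_eq_multiplicity, hJ, hfac]
    rfl
  have hRi : (R : Subgroup J).index = 4 := by
    have h1 := Subgroup.card_mul_index (R : Subgroup J)
    change Nat.card R * _ = _ at h1
    rw [hR, hJ] at h1
    omega
  have hRn : (R : Subgroup J).Normal := by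
    have h1 := card_sylow_modEq_one 5 J
    have h2 := Sylow.card_dvd_index R
    rw [hRi] at h2
    have h3 : Nat.card (Sylow 5 J) ≤ 4 := Nat.le_of_dvd (by norm_num) h2
    have h4 : Nat.card (Sylow 5 J) = 1 := by
      have : Nat.card (Sylow 5 J) % 5 = 1 % 5 := h1
      omega
    have h6 : Subsingleton (Sylow 5 J) := (Nat.card_eq_one_iff_unique.1 h4).1
    exact Sylow.normal_of_subsingleton R
  have hq : Nat.card (J ⧸ (R : Subgroup J)) = 2 ^ 2 := by
    have : Nat.card (J ⧸ (R : Subgroup J)) = (R : Subgroup J).index := rfl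
    rw [this, hRi]
    norm_num
  have h2 : Fact (Nat.Prime 2) := ⟨Nat.prime_two⟩
  have hcomm : ∀ a b : J ⧸ (R : Subgroup J), a * b = b * a :=
    (IsPGroup.isMulCommutative_of_card_eq_prime_sq hq).is_comm.comm
  let K : Subgroup J :=
    { carrier := {x | (QuotientGroup.mk' (R : Subgroup J) x) * (QuotientGroup.mk' (R : Subgroup J) x) = 1}
      one_mem' := by simp
      mul_mem' := by
        intro a b ha hb
        simp only [Set.mem_ofPred_eq] at ha hb ⊢
        set a' := QuotientGroup.mk' (R : Subgroup J) a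
        set b' := QuotientGroup.mk' (R : Subgroup J) b
        rw [map_mul]
        calc a' * b' * (a' * b') = (a' * a') * (b' * b') := by
              rw [mul_assoc a' b', ← mul_assoc b' a' b', hcomm b' a']; group
          _ = 1 := by rw [ha, hb, one_mul]
      inv_mem' := by
        intro a ha
        simp only [Set.mem_ofPred_eq] at ha ⊢
        rw [map_inv, ← mul_inv_rev, ha, inv_one] }
  have hKn : K.Normal := by
    constructor
    intro a (ha : (QuotientGroup.mk' (R : Subgroup J) a) * (QuotientGroup.mk' (R : Subgroup J) a) = 1) g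
    change (QuotientGroup.mk' (R : Subgroup J) (g * a * g⁻¹)) *
      (QuotientGroup.mk' (R : Subgroup J) (g * a * g⁻¹)) = 1
    rw [← map_mul]
    have : g * a * g⁻¹ * (g * a * g⁻¹) = g * (a * a) * g⁻¹ := by group
    rw [this, map_mul, map_mul, map_mul, ha, mul_one, ← map_mul, mul_inv_cancel, map_one]
  have hTK : T ≤ K := by
    intro t ht
    change (QuotientGroup.mk' (R : Subgroup J) t) * (QuotientGroup.mk' (R : Subgroup J) t) = 1
    rw [← map_mul, hT t ht, map_one]
  have hKT : K = ⊤ := by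
    rw [eq_top_iff, ← hn]
    exact normalClosure_le_normal hTK
  have huK : u ∈ K := hKT ▸ mem_top _
  change (QuotientGroup.mk' (R : Subgroup J) u) * (QuotientGroup.mk' (R : Subgroup J) u) = 1 at huK
  rw [← map_mul] at huK
  have huR : u * u ∈ (R : Subgroup J) := (QuotientGroup.eq_one_iff _).1 huK
  have ho : orderOf (u * u) = 2 := orderOf_eq_prime (by rw [pow_two, hu4]) hu
  have h6 : orderOf (⟨u * u, huR⟩ : (R : Subgroup J)) ∣ Nat.card R := orderOf_dvd_natCard _
  rw [← Subgroup.orderOf_coe] at h6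
  change orderOf (u * u) ∣ _ at h6
  rw [ho, hR] at h6
  omega

theorem sz_two {F : Type*} [Field F] [Fintype F] (hF : Fintype.card F = 2 ^ (2 * 0 + 1))
    (T : Subgroup ↥(Lie.Sz F (2 ^ (0 + 1)))) (hT : ∀ t ∈ T, t * t = 1)
    (hn : normalClosure (T : Set ↥(Lie.Sz F (2 ^ (0 + 1)))) = ⊤) : False := by
  have H := LieRecognition.SzMatrix.good hF
  have D := Cfsg.Agent.S1163.data_sz H
  have hcF : Nat.card F = 2 := by rw [Nat.card_eq_fintype_card, hF]; norm_num
  have hcu : Nat.card H.unip = 4 := by rw [H.card_unip, hcF]; norm_num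
  have hcb : Nat.card H.borel = 4 := by rw [H.card_borel, hcF]; norm_num
  have hidx : H.borel.index = 5 := by rw [D.index, hcu]
  have hcard : Nat.card ↥(Lie.Sz F (2 ^ (0 + 1))) = 20 := by
    rw [← Subgroup.card_mul_index H.borel, hcb, hidx]
  have hfin : Finite ↥(Lie.Sz F (2 ^ (0 + 1))) := inferInstance
  let R := ofGood H
  have e1 : R.u 1 0 * R.u 1 0 = R.u 0 1 := by
    rw [R.u_mul_self, map_one, mul_one]
  refine no_closure hcard (u := R.u 1 0) ?_ ?_ T hT hn
  · rw [e1]
    exact R.u_ne_one one_ne_zero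
  · rw [e1, R.u_mul_self]
    rw [zero_mul, R.u_zero]

theorem sz_inv {F : Type} [Field F] [Fintype F] {m : ℕ} (hm : 1 ≤ m)
    (hF : Fintype.card F = 2 ^ (2 * m + 1)) (x : ↥(Lie.Sz F (2 ^ (m + 1)))) (r : ℕ) (hr : r.Prime)
    (hr2 : r ≠ 2) (hx : orderOf x = r) : ∃ t, t * t = 1 ∧ t ≠ 1 ∧ t * x * t⁻¹ = x⁻¹ := by
  have hfin : Finite ↥(Lie.Sz F (2 ^ (m + 1))) := inferInstance
  obtain ⟨q, hq⟩ : ∃ q, q = 2 ^ (2 * m + 1) := ⟨_, rfl⟩
  obtain ⟨s, hs⟩ : ∃ s, s = 2 ^ (m + 1) := ⟨_, rfl⟩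
  have hcard : Nat.card ↥(Lie.Sz F (2 ^ (m + 1))) = q ^ 2 * (q - 1) * (q ^ 2 + 1) := by
    rw [hq]
    exact (Cfsg.Agent.S1163.result hm hF).1
  have hss : s * s = 2 * q := by rw [hs, hq, ← pow_add, ← pow_succ']; congr 1; ring
  have hsq : s < q := by
    rw [hs, hq]; exact Nat.pow_lt_pow_right (by norm_num) (by omega)
  have hq1 : 1 < q := by rw [hq]; exact Nat.one_lt_two_pow (by omega)
  have hfac : (q + s + 1) * (q - s + 1) = q ^ 2 + 1 := by
    obtain ⟨y, hy⟩ : ∃ y, q = s + y := ⟨q - s, by omega⟩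
    have h5 : q - s = y := by omega
    rw [h5, hy]
    rw [hy] at hss
    nlinarith
  have hrq : ¬ r ∣ q := by
    intro h
    rw [hq] at h
    exact hr2 ((Nat.prime_dvd_prime_iff_eq hr Nat.prime_two).1 (hr.dvd_of_dvd_pow h))
  have hr2' : ¬ r ∣ 2 := fun h => hr2 ((Nat.prime_dvd_prime_iff_eq hr Nat.prime_two).1 h)
  have hdvd : r ∣ q ^ 2 * (q - 1) * (q ^ 2 + 1) := by
    rw [← hcard, ← hx]
    exact _root_.orderOf_dvd_natCard x
  have hdvd' : r ∣ (q - 1) ∨ r ∣ (q ^ 2 + 1) := by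
    rcases hr.dvd_mul.1 hdvd with h | h
    · rcases hr.dvd_mul.1 h with h | h
      · exact absurd (hr.dvd_of_dvd_pow h) hrq
      · exact Or.inl h
    · exact Or.inr h
  have hq2 : q ^ 2 + 1 = (q - 1) * (q + 1) + 2 := by
    obtain ⟨y, hy⟩ : ∃ y, q = y + 1 := ⟨q - 1, by omega⟩
    rw [hy]; simp; ring
  by_cases h1 : r ∣ q - 1
  · -- the split torus
    let R := ofGood (LieRecognition.SzMatrix.good hF)
    have hDc : Nat.card R.D = q - 1 := by
      have h2 : Nat.card R.D = Nat.card Fˣ := by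
        refine (Nat.card_congr (Equiv.ofBijective
          (fun k : Fˣ => (⟨R.d k, R.d_mem k⟩ : R.D)) ⟨?_, ?_⟩)).symm
        · intro a b hab
          exact R.d_inj (congrArg Subtype.val hab)
        · rintro ⟨_, k, rfl⟩
          exact ⟨k, rfl⟩
      rw [h2, Nat.card_units, Nat.card_eq_fintype_card, hF, hq]
    have hDi : R.D.index = q ^ 2 * (q ^ 2 + 1) := by
      have h2 := Subgroup.card_mul_index R.D
      rw [hDc, hcard] at h2
      have h3 : 0 < q - 1 := by omega
      have h4 : (q - 1) * R.D.index = (q - 1) * (q ^ 2 * (q ^ 2 + 1)) := by rw [h2]; ring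
      exact Nat.eq_of_mul_eq_mul_left h3 h4
    refine exists_inv_of_torus hr (U := R.D) ?_ R.w_mul_w (OddCyclic.FFSz.w_ne_one R) ?_ hx
    · rw [hDi]
      intro h2
      rcases hr.dvd_mul.1 h2 with h2 | h2
      · exact hrq (hr.dvd_of_dvd_pow h2)
      · rw [hq2] at h2
        exact hr2' ((Nat.dvd_add_right (h1.mul_right _)).1 h2)
    · rintro _ ⟨k, rfl⟩
      exact OddCyclic.FFSz.w_inv_d R k
  · -- the other tori
    have h2 : r ∣ q ^ 2 + 1 := hdvd'.resolve_left h1
    have hrq1 : ¬ r ∣ q + 1 := by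
      intro h3
      rw [hq2] at h2
      exact hr2' ((Nat.dvd_add_right (h3.mul_left _)).1 h2)
    obtain ⟨i⟩ := OddCyclic.ClaimC.SzIso.iso hm hF
    have hfin' : Finite ↥(Cfsg.Sz F m) := Finite.of_equiv _ i.symm.toEquiv
    have hcard' : Nat.card ↥(Cfsg.Sz F m) = q ^ 2 * (q - 1) * (q ^ 2 + 1) := by
      rw [← hcard]; exact Nat.card_congr i.toEquiv
    have hodds : Odd (q + s + 1) ∧ Odd (q - s + 1) := by
      have e1 : Even q := by rw [hq]; exact (Nat.even_pow.2 ⟨even_two, by omega⟩)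
      have e2 : Even s := by rw [hs]; exact (Nat.even_pow.2 ⟨even_two, by omega⟩)
      obtain ⟨a, ha⟩ := e1
      obtain ⟨b, hb⟩ := e2
      exact ⟨⟨a + b, by omega⟩, ⟨a - b, by omega⟩⟩
    have key : ∀ c d : ℕ, c ∈ ({q + s + 1, q - s + 1} : Set ℕ) → Odd c → r ∣ c →
        c * d = q ^ 2 + 1 → c + d = 2 * (q + 1) →
        ∃ t : ↥(Cfsg.Sz F m), t * t = 1 ∧ t ≠ 1 ∧ t * i.symm x * t⁻¹ = (i.symm x)⁻¹ := by
      intro c d hc hco hrc hcd hcd'
      rw [hq, hs] at hc
      obtain ⟨U, hU1, hU2, hU3, hU4⟩ := Cfsg.Agent.S0333.result hm hF c hc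
      obtain ⟨t, ht1, ht2, ht3⟩ := OddCyclic.ClaimC.Sz.inverts_torus hco hU1 hU2 hU3 hU4
      have hUi : U.index = q ^ 2 * (q - 1) * d := by
        have h3 := Subgroup.card_mul_index U
        rw [hU2, hcard', ← hcd] at h3
        have h4 : c * U.index = c * (q ^ 2 * (q - 1) * d) := by rw [h3]; ring
        exact Nat.eq_of_mul_eq_mul_left (Odd.pos hco) h4
      refine exists_inv_of_torus hr (U := U) ?_ ht1 ht2 ht3 ?_
      · rw [hUi]
        intro h3
        rcases hr.dvd_mul.1 h3 with h3 | h3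
        · rcases hr.dvd_mul.1 h3 with h3 | h3
          · exact hrq (hr.dvd_of_dvd_pow h3)
          · exact h1 h3
        · have h4 : r ∣ 2 * (q + 1) := hcd' ▸ dvd_add hrc h3
          rcases hr.dvd_mul.1 h4 with h5 | h5
          · exact hr2' h5
          · exact hrq1 h5
      · rw [MulEquiv.orderOf_eq, hx]
    obtain ⟨t, ht1, ht2, ht3⟩ : ∃ t : ↥(Cfsg.Sz F m), t * t = 1 ∧ t ≠ 1 ∧
        t * i.symm x * t⁻¹ = (i.symm x)⁻¹ := by
      rw [← hfac] at h2
      rcases hr.dvd_mul.1 h2 with h3 | h3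
      · exact key _ (q - s + 1) (by simp) hodds.1 h3 hfac (by omega)
      · exact key _ (q + s + 1) (by simp) hodds.2 h3 (by rw [mul_comm, hfac]) (by omega)
    refine ⟨i t, ?_, ?_, ?_⟩
    · rw [← map_mul, ht1, map_one]
    · intro h
      exact ht2 (i.injective (by rw [h, map_one]))
    · have h3 := congrArg i ht3
      rw [map_mul, map_mul, map_inv, map_inv, MulEquiv.apply_symm_apply] at h3
      exact h3

end Cfsg.Agent.H227.FrakSz
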