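import Cfsg.Agent.H227.FrakSL2
import Cfsg.Agent.H227.FrakSz

/-!
# S2863: non-`p`-elements of `L ∈ 𝔏_G(Y_M)` act fixed-point-freely on `O_p(L)/C_{Y_M}(L)`
-/

set_option autoImplicit false
set_option linter.unusedSectionVars false

namespace Cfsg.Agent.H227.FrakMain

open Subgroup Cfsg
open Cfsg.Agent.H227.FrakL

theorem fp {L : Type*} [Group L] [Finite L] {p : ℕ} [hp : Fact p.Prime] {Y : Subgroup L}
    (S : Setup p Y) [(pCore p L).Normal]
    (hquot : (∃ (F : Type) (_ : Field F) (_ : Fintype F),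
        Fintype.card F = (Y ⊓ pCore p L).relIndex Y ∧
          Nonempty (L ⧸ pCore p L ≃* Matrix.SpecialLinearGroup (Fin 2) F)) ∨
      (p = 2 ∧ ∃ (F : Type) (_ : Field F) (_ : Fintype F) (m : ℕ),
        Fintype.card F = 2 ^ (2 * m + 1) ∧
          Nonempty (L ⧸ pCore p L ≃* ↥(Lie.Sz F (2 ^ (m + 1))))) ∨
      (p = 2 ∧ ∃ r : ℕ, r.Prime ∧ r ≠ 2 ∧ Nonempty (L ⧸ pCore p L ≃* DihedralGroup r)))
    {h : L} (hnp : ¬ ∃ k : ℕ, orderOf h = p ^ k) : Fp p Y h := by
  have hsurj : ∀ {J : Type} [Group J] (e : L ⧸ pCore p L ≃* J),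
      Function.Surjective (e.toMonoidHom.comp (QuotientGroup.mk' (pCore p L))) :=
    fun e => e.surjective.comp (QuotientGroup.mk'_surjective _)
  have hker : ∀ {J : Type} [Group J] (e : L ⧸ pCore p L ≃* J),
      (e.toMonoidHom.comp (QuotientGroup.mk' (pCore p L))).ker = pCore p L := by
    intro J _ e
    ext x
    rw [MonoidHom.mem_ker]
    change e (QuotientGroup.mk' (pCore p L) x) = 1 ↔ _
    rw [EmbeddingLike.map_eq_one_iff, ← MonoidHom.mem_ker, QuotientGroup.ker_mk']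
  rcases hquot with ⟨F, iF, iF', hcard, ⟨e⟩⟩ | ⟨rfl, F, iF, iF', m, hF, ⟨e⟩⟩ | ⟨rfl, r, hr, hr2, ⟨e⟩⟩
  · exact S.fp_sl2 _ (hsurj e) (hker e) (by rw [Nat.card_eq_fintype_card, hcard]) hnp
  · rcases Nat.eq_zero_or_pos m with rfl | hm
    · exfalso
      refine FrakSz.sz_two hF (Y.map (e.toMonoidHom.comp (QuotientGroup.mk' (pCore 2 L)))) ?_ ?_
      · rintro _ ⟨y, hy, rfl⟩
        rw [← map_mul, ← pow_two, S.el.2 y hy, map_one]
      · have h1 := Subgroup.map_normalClosure (Y : Set L)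
          (e.toMonoidHom.comp (QuotientGroup.mk' (pCore 2 L))) (hsurj e)
        rw [S.min.1, Subgroup.map_top_of_surjective _ (hsurj e)] at h1
        rw [Subgroup.coe_map]
        exact h1.symm
    · refine S.fp_invol _ (hsurj e) (hker e) ?_ (FrakSz.sz_inv hm hF) hnp
      have hfin : Finite ↥(Lie.Sz F (2 ^ (m + 1))) := inferInstance
      intro s t hs hs1 ht ht1
      exact OddCyclic.FFSz.conj_inv ⟨F, iF, iF', m, hm, hF, ⟨MulEquiv.refl _⟩⟩ hs hs1 ht ht1
  · refine S.fp_invol _ (hsurj e) (hker e) (dihedral_conj (hr.odd_of_ne_two hr2)) ?_ hnp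
    intro x q _ hq2 hx
    exact dihedral_inv x q hq2 hx

theorem main {G : Type*} [Group G] [Finite G] {p : ℕ} [Fact p.Prime] {Y L : Subgroup G}
    (hel : IsElementaryAbelian p Y) (hYL : Y ≤ L)
    (hgen : pCoreOf p L = (Subgroup.normalClosure
        (((Y ⊓ pCoreOf p L).subgroupOf L : Subgroup ↥L) : Set ↥L)).map L.subtype)
    (hnorm : pCoreOf p L ≤ Subgroup.normalizer (Y : Set G))
    (hmin : IsMinimalOver (Y.subgroupOf L))
    (hchar : Subgroup.centralizer (pCore p ↥L : Set ↥L) ≤ pCore p ↥L)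
    (hmax : L ⊓ Subgroup.normalizer (Y : Set G) < L ∧
      ∀ X : Subgroup G, Y ≤ X → X < L → X ≤ L ⊓ Subgroup.normalizer (Y : Set G))
    (hquot : (∃ (F : Type) (_ : Field F) (_ : Fintype F),
        Fintype.card F = (Y ⊓ pCoreOf p L).relIndex Y ∧
          Nonempty (↥L ⧸ pCore p ↥L ≃* Matrix.SpecialLinearGroup (Fin 2) F)) ∨
      (p = 2 ∧ ∃ (F : Type) (_ : Field F) (_ : Fintype F) (m : ℕ),
        Fintype.card F = 2 ^ (2 * m + 1) ∧
          Fintype.card F = (Y ⊓ pCoreOf p L).relIndex Y ∧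
            Nonempty (↥L ⧸ pCore p ↥L ≃* ↥(Lie.Sz F (2 ^ (m + 1))))) ∨
      (p = 2 ∧ ∃ r : ℕ, r.Prime ∧ r ≠ 2 ∧ Nonempty (↥L ⧸ pCore p ↥L ≃* DihedralGroup r)))
    {h : G} (hh : h ∈ L) (hnp : ¬ ∃ k : ℕ, orderOf h = p ^ k) :
    ∀ a ∈ pCoreOf p L, h * a * h⁻¹ * a⁻¹ ∈ Y ⊓ Subgroup.centralizer ((L : Subgroup G) : Set G) →
      a ∈ Y ⊓ Subgroup.centralizer ((L : Subgroup G) : Set G) := by
  have hcomap : (pCoreOf p L).subgroupOf L = pCore p ↥L := by
    rw [subgroupOf, pCoreOf, comap_map_eq_self_of_injective L.subtype_injective]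
  have hinf : (Y ⊓ pCoreOf p L).subgroupOf L = pCore p ↥L ⊓ Y.subgroupOf L := by
    rw [← hcomap, inf_comm]
    rfl
  have hnr : normalizer ((Y.subgroupOf L : Subgroup ↥L) : Set ↥L) =
      (L ⊓ Subgroup.normalizer (Y : Set G)).subgroupOf L := by
    ext x
    rw [mem_subgroupOf, mem_inf, mem_normalizer_iff, mem_normalizer_iff]
    constructor
    · intro h1
      refine ⟨x.2, fun y => ⟨fun hy => ?_, fun hy => ?_⟩⟩
      · have := (h1 ⟨y, hYL hy⟩).1 hy
        exact this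
      · have hyL : y ∈ L := by
          have := L.mul_mem (L.mul_mem (L.inv_mem x.2) (hYL hy)) x.2
          simpa [mul_assoc] using this
        exact (h1 ⟨y, hyL⟩).2 hy
    · rintro ⟨-, h1⟩ y
      exact h1 y
  have S : Setup p (Y.subgroupOf L) :=
    { char := hchar
      coatom := by
        rw [hnr]
        refine ⟨fun h1 => ?_, fun X hX => ?_⟩
        · rw [subgroupOf_eq_top] at h1
          exact absurd h1 (not_le_of_gt hmax.1)
        · by_contra hne
          have hY' : Y.subgroupOf L ≤ X := by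
            refine le_trans ?_ hX.le
            intro y hy
            exact mem_inf.2 ⟨y.2, le_normalizer hy⟩
          have h2 : Y ≤ X.map L.subtype := by
            rw [← Subgroup.map_subgroupOf_eq_of_le hYL]
            exact Subgroup.map_mono hY'
          have h3 : X.map L.subtype < L := by
            refine lt_of_le_of_ne (Subgroup.map_subtype_le _) fun h3 => hne ?_
            rw [eq_top_iff]
            rintro ⟨x, hx⟩ -
            rw [← h3] at hx
            obtain ⟨y, hy, hyx⟩ := hx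
            have : y = ⟨x, h3 ▸ ⟨y, hy, hyx⟩⟩ := Subtype.ext hyx
            rw [← this]
            exact hy
          have h4 := hmax.2 _ h2 h3
          have h5 : X ≤ (L ⊓ Subgroup.normalizer (Y : Set G)).subgroupOf L := by
            intro x hx
            exact h4 ⟨x, hx, rfl⟩
          exact absurd h5 (not_le_of_gt hX)
      el := by
        refine ⟨⟨⟨?_⟩⟩, ?_⟩
        · rintro ⟨x, hx⟩ ⟨y, hy⟩
          have h3 := congrArg Subtype.val (hel.1.is_comm.comm (⟨x, hx⟩ : Y) ⟨y, hy⟩)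
          exact Subtype.ext (Subtype.ext h3)
        · intro x hx
          exact Subtype.ext (by simpa using hel.2 _ hx)
      min := hmin
      norm := by
        rw [hnr]
        intro x hx
        exact mem_inf.2 ⟨x.2, hnorm ⟨x, hx, rfl⟩⟩
      gen := by
        rw [← hinf]
        exact Subgroup.map_injective L.subtype_injective hgen }
  have hn : (pCore p ↥L).Normal := S.Pn
  have hrel : (Y ⊓ pCoreOf p L).relIndex Y = (Y.subgroupOf L ⊓ pCore p ↥L).relIndex (Y.subgroupOf L) := by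
    rw [inf_comm (Y.subgroupOf L), ← hinf]
    exact (Subgroup.relIndex_subgroupOf hYL).symm
  have key : Fp p (Y.subgroupOf L) (⟨h, hh⟩ : ↥L) := by
    refine fp S ?_ ?_
    · rcases hquot with ⟨F, iF, iF', h1, h2⟩ | ⟨h0, F, iF, iF', m, h1, -, h2⟩ | h1
      · exact Or.inl ⟨F, iF, iF', h1.trans hrel, h2⟩
      · exact Or.inr (Or.inl ⟨h0, F, iF, iF', m, h1, h2⟩)
      · exact Or.inr (Or.inr h1)
    · rwa [← Subgroup.orderOf_coe]
  have hZ : ∀ x : ↥L, x ∈ Y.subgroupOf L ⊓ center ↥L ↔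
      (x : G) ∈ Y ⊓ Subgroup.centralizer ((L : Subgroup G) : Set G) := by
    intro x
    rw [mem_inf, mem_inf, mem_subgroupOf, mem_center_iff, mem_centralizer_iff]
    constructor
    · rintro ⟨h1, h2⟩
      exact ⟨h1, fun y hy => congrArg Subtype.val (h2 ⟨y, hy⟩)⟩
    · rintro ⟨h1, h2⟩
      exact ⟨h1, fun y => Subtype.ext (h2 y y.2)⟩
  rintro _ ⟨a, ha, rfl⟩ hha
  exact (hZ a).1 (key a ha ((hZ _).2 hha))

end Cfsg.Agent.H227.FrakMain
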