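import Cfsg.Agent.H227.FrakL
import Cfsg.Agent.Lib.AutSL2

/-!
# The action of a `Y`-minimal group `L` on `O_p(L)/C_Y(L)`: the case `L/O_p(L) ≅ SL₂(q)`
-/

set_option autoImplicit false
set_option linter.unusedSectionVars false

namespace Cfsg.Agent.H227.FrakL

open Subgroup Cfsg
open Cfsg.Agent.H227.Weak (cj mem_cj cj_cj cj_eq_self_iff cj_le_iff cj_mono cj_cj_inv cj_inv_cj
  conj_mem_cj cj_eq_iff cj_inj cj_normal cj_sup cj_inf cj_eq_self_of_mem cj_commutator cj_one)
open Cfsg.Agent.Lib.SL2Mat Cfsg.Agent.Lib.AutSL2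

section mat

variable {F : Type*} [Field F]

theorem tr_conj (g x : Matrix.SpecialLinearGroup (Fin 2) F) :
    ent (g * x * g⁻¹) 0 0 + ent (g * x * g⁻¹) 1 1 = ent x 0 0 + ent x 1 1 := by
  have h := det_eq g
  rw [ent_inv g]
  simp only [ent_mul, mk_00, mk_01, mk_10, mk_11]
  linear_combination (ent x 0 0 + ent x 1 1) * h

theorem conj_of_ne (x : Matrix.SpecialLinearGroup (Fin 2) F) (hc : ent x 1 0 ≠ 0)
    (htr : ent x 0 0 + ent x 1 1 ≠ 2) :
    ∃ (g : Matrix.SpecialLinearGroup (Fin 2) F) (s t : F), s ≠ 0 ∧ t ≠ 0 ∧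
      g * x * g⁻¹ = up s * lo t := by
  refine ⟨up ((ent x 1 1 - 1) / ent x 1 0), (ent x 1 1 - 1) / ent x 1 0 +
    (ent x 0 0 - 1) / ent x 1 0, ent x 1 0, ?_, hc, ?_⟩
  · intro h
    apply htr
    field_simp at h
    linear_combination h
  · have h1 := eq_up_lo_up x hc
    generalize (ent x 0 0 - 1) / ent x 1 0 = s1 at h1 ⊢
    generalize (ent x 1 1 - 1) / ent x 1 0 = s2 at h1 ⊢
    calc up s2 * x * (up s2)⁻¹ = up s2 * (up s1 * lo (ent x 1 0) * up s2) * (up s2)⁻¹ := by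
          rw [← h1]
      _ = up s2 * up s1 * lo (ent x 1 0) := by group
      _ = _ := by rw [up_mul]

theorem conj_of_ne' (x : Matrix.SpecialLinearGroup (Fin 2) F) (hb : ent x 0 1 ≠ 0)
    (htr : ent x 0 0 + ent x 1 1 ≠ 2) :
    ∃ (g : Matrix.SpecialLinearGroup (Fin 2) F) (s t : F), s ≠ 0 ∧ t ≠ 0 ∧
      g * x * g⁻¹ = up s * lo t := by
  set w : Matrix.SpecialLinearGroup (Fin 2) F := wm 1 one_ne_zero with hw
  have h1 : ent (w * x * w⁻¹) 1 0 ≠ 0 := by
    rw [ent_inv w]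
    simp only [hw, ent_mul, mk_00, mk_10, wm_00, wm_01, wm_10, wm_11]
    simpa using hb
  obtain ⟨g, s, t, hs, ht, h2⟩ := conj_of_ne (w * x * w⁻¹) h1 (by rwa [tr_conj])
  refine ⟨g * w, s, t, hs, ht, ?_⟩
  rw [← h2]; group

theorem sl2_cases (x : Matrix.SpecialLinearGroup (Fin 2) F) (htr : ent x 0 0 + ent x 1 1 ≠ 2) :
    (∃ (g : Matrix.SpecialLinearGroup (Fin 2) F) (s t : F), s ≠ 0 ∧ t ≠ 0 ∧
      g * x * g⁻¹ = up s * lo t) ∨
    ((∀ e, x * e = e * x) ∧ ∃ (g : Matrix.SpecialLinearGroup (Fin 2) F) (s t : F),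
      s ≠ 0 ∧ t ≠ 0 ∧ g * (x * up 1) * g⁻¹ = up s * lo t) := by
  by_cases hc : ent x 1 0 = 0
  swap
  · exact Or.inl (conj_of_ne x hc htr)
  by_cases hb : ent x 0 1 = 0
  swap
  · exact Or.inl (conj_of_ne' x hb htr)
  by_cases had : ent x 0 0 = ent x 1 1
  · right
    have hd := det_eq x
    have h1 : ent x 0 0 = -1 := by
      rw [hb, ← had] at hd
      have h2 : (ent x 0 0 - 1) * (ent x 0 0 + 1) = 0 := by linear_combination hd
      rcases mul_eq_zero.1 h2 with h3 | h3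
      · exfalso
        apply htr
        rw [← had]
        linear_combination 2 * h3
      · linear_combination h3
    have h2 : ent x 1 1 = -1 := by rw [← had, h1]
    refine ⟨fun e => ?_, ?_⟩
    · refine ext_ent ?_ ?_ ?_ ?_ <;> simp [ent_mul, hb, hc, h1, h2]
    · apply conj_of_ne'
      · rw [ent_mul, hb, h1, up_01, up_11]; simp
      · rw [ent_mul, ent_mul, hb, hc, up_00, up_10, up_01, up_11]
        simpa using htr
  · left
    set x' := up 1 * x * (up 1)⁻¹ with hx'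
    have h1 : ent x' 0 1 ≠ 0 := by
      rw [hx', up_inv]
      simp only [ent_mul, up_00, up_01, up_11, hb, hc]
      intro h
      apply had
      linear_combination -h
    obtain ⟨g, s, t, hs, ht, h2⟩ := conj_of_ne' x' h1 (by rwa [hx', tr_conj])
    refine ⟨g * up 1, s, t, hs, ht, ?_⟩
    rw [← h2, hx']; group

theorem lo_pow (b : F) (n : ℕ) : lo b ^ n = lo (n * b) := by
  induction n with
  | zero => simp [lo_zero]
  | succ n ih => rw [pow_succ, ih, lo_mul]; congr 1; push_cast; ring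

theorem pow_eq_one {p : ℕ} [CharP F p] (x : Matrix.SpecialLinearGroup (Fin 2) F)
    (htr : ent x 0 0 + ent x 1 1 = 2) : x ^ p = 1 := by
  by_cases hc : ent x 1 0 = 0
  · have hd := det_eq x
    have h1 : ent x 0 0 = 1 := by
      have h2 : (ent x 0 0 - 1) ^ 2 = 0 := by
        rw [hc] at hd
        linear_combination ent x 0 0 * htr - hd
      have := pow_eq_zero_iff (two_ne_zero) |>.1 h2
      linear_combination this
    have h2 : ent x 1 1 = 1 := by rw [h1] at htr; linear_combination htr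
    have h3 : x = up (ent x 0 1) := by
      refine ext_ent ?_ ?_ ?_ ?_ <;> simp [hc, h1, h2]
    rw [h3, up_pow, CharP.cast_eq_zero, zero_mul, up_zero]
  · have h1 := eq_up_lo_up x hc
    set s1 := (ent x 0 0 - 1) / ent x 1 0 with hs1
    set s2 := (ent x 1 1 - 1) / ent x 1 0 with hs2
    have h2 : s1 + s2 = 0 := by
      rw [hs1, hs2]
      field_simp
      linear_combination htr
    have h3 : s1 = -s2 := by linear_combination h2
    have h4 : x = (up s2)⁻¹ * lo (ent x 1 0) * up s2 := by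
      rw [up_inv, ← h3]; exact h1
    rw [h4]
    have h5 : ((up s2)⁻¹ * lo (ent x 1 0) * up s2) ^ p = (up s2)⁻¹ * lo (ent x 1 0) ^ p * up s2 := by
      have := conj_pow (i := p) (a := (up s2)⁻¹) (b := lo (ent x 1 0))
      simpa using this
    rw [h5, lo_pow, CharP.cast_eq_zero, zero_mul, lo_zero]
    simp

theorem wm_conj (t : F) : wm 1 one_ne_zero * up (-t) * (wm 1 one_ne_zero)⁻¹ = lo t := by
  rw [ent_inv (wm 1 one_ne_zero)]
  refine ext_ent ?_ ?_ ?_ ?_ <;> simp [ent_mul]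

end mat

variable {L : Type*} [Group L] [Finite L] {p : ℕ} [hp : Fact p.Prime] {Y : Subgroup L}

theorem Setup.fp_sl2_aux (S : Setup p Y) {F : Type*} [Field F] [Finite F] [CharP F p]
    (φ : L →* Matrix.SpecialLinearGroup (Fin 2) F) (hφ : Function.Surjective φ)
    (hker : φ.ker = pCore p L) (hY : ∀ b : F, ∃ y ∈ Y, φ y = up b) (hY' : ∀ y ∈ Y, ∃ b : F, φ y = up b)
    {h : L} (hnp : ¬ ∃ k : ℕ, orderOf h = p ^ k) : Fp p Y h := by
  have memP : ∀ x : L, x ∈ pCore p L ↔ φ x = 1 := fun x => by rw [← hker, MonoidHom.mem_ker]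
  -- good elements
  have key : ∀ (h : L), (∃ (g : Matrix.SpecialLinearGroup (Fin 2) F) (s t : F), s ≠ 0 ∧ t ≠ 0 ∧
      g * φ h * g⁻¹ = up s * lo t) → Fp p Y h := by
    rintro h ⟨G, s, t, hs, ht, hG⟩
    obtain ⟨g, rfl⟩ := hφ G
    obtain ⟨ω, hω⟩ := hφ (wm 1 one_ne_zero)
    obtain ⟨y₁, hy₁, e1⟩ := hY s
    obtain ⟨y₂, hy₂, e2⟩ := hY (-t)
    apply S.fp_conj g
    have e3 : φ (ω * y₂ * ω⁻¹) = lo t := by
      rw [map_mul, map_mul, map_inv, hω, e2, wm_conj]
    have h1 : g * h * g⁻¹ = (y₁ * (ω * y₂ * ω⁻¹)) * ((y₁ * (ω * y₂ * ω⁻¹))⁻¹ * (g * h * g⁻¹)) := by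
      group
    rw [h1]
    refine S.fp_congr ?_ ?_
    · rw [memP, map_mul, map_inv, map_mul, e1, e3, ← hG, map_mul, map_mul, map_inv, inv_mul_cancel]
    · refine S.fp_mul (a := 1) (b := ω) ?_ ?_ (conj_mem_cj hy₂) ?_ ?_
      · rw [cj_one]
        intro heq
        obtain ⟨y, hy, ey⟩ := hY (-1)
        have h2 : ω * y * ω⁻¹ ∈ Y := by rw [heq]; exact conj_mem_cj hy
        obtain ⟨b, hb⟩ := hY' _ h2
        rw [map_mul, map_mul, map_inv, hω, ey, wm_conj] at hb
        have := congrArg (fun x => ent x 1 0) hb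
        simp at this
      · rwa [cj_one]
      · rw [memP, e1]
        intro h2
        apply hs
        have := congrArg (fun x => ent x 0 1) h2
        simpa using this
      · rw [memP, e3]
        intro h2
        apply ht
        have := congrArg (fun x => ent x 1 0) h2
        simpa using this
  by_cases htr : ent (φ h) 0 0 + ent (φ h) 1 1 = 2
  · exfalso
    apply hnp
    have h1 := pow_eq_one (p := p) (φ h) htr
    rw [← map_pow, ← memP] at h1
    obtain ⟨k, hk⟩ := (Lib.Cores.pCore_isPGroup (G := L) p) ⟨_, h1⟩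
    have h2 : h ^ p ^ (k + 1) = 1 := by
      have := congrArg Subtype.val hk
      rw [pow_succ', pow_mul]
      simpa using this
    obtain ⟨j, -, hj⟩ := (Nat.dvd_prime_pow hp.out).1 (orderOf_dvd_of_pow_eq_one h2)
    exact ⟨j, hj⟩
  · rcases sl2_cases (φ h) htr with h1 | ⟨h1, h2⟩
    · exact key h h1
    · obtain ⟨y, hy, ey⟩ := hY 1
      refine S.fp_central (y := y) (fun e => ?_) hy (key _ ?_)
      · rw [memP, map_mul, map_mul, map_mul, map_inv, map_inv, h1, mul_inv_cancel_right,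
          mul_inv_cancel]
      · rw [map_mul, ey]
        exact h2

theorem Setup.fp_sl2 (S : Setup p Y) {F : Type*} [Field F] [Finite F]
    (φ : L →* Matrix.SpecialLinearGroup (Fin 2) F) (hφ : Function.Surjective φ)
    (hker : φ.ker = pCore p L) (hcard : Nat.card F = (Y ⊓ pCore p L).relIndex Y)
    {h : L} (hnp : ¬ ∃ k : ℕ, orderOf h = p ^ k) : Fp p Y h := by
  have := Fintype.ofFinite F
  have hYp : IsPGroup p Y := fun y => ⟨1, Subtype.ext (by simpa using S.el.2 y y.2)⟩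
  have hMp : IsPGroup p (Y.map φ) := hYp.map φ
  have hc : Nat.card (Y.map φ) = Nat.card F := by
    rw [hcard, inf_relIndex_left, ← hker, relIndex_ker]
  obtain ⟨n, hn⟩ := IsPGroup.iff_card.1 hMp
  have hch : CharP F p := by
    refine charP_of_card_eq_prime_pow (f := n) ?_
    rw [← Nat.card_eq_fintype_card, ← hc, hn]
  obtain ⟨Q, hQ⟩ := hMp.exists_le_sylow
  obtain ⟨g, hg⟩ := MulAction.exists_smul_eq (Matrix.SpecialLinearGroup (Fin 2) F) Q (sylU F p)
  have hcU : Nat.card (upG F) = Nat.card F := by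
    refine (Nat.card_congr (Equiv.ofBijective (fun b : F => (⟨up b, up_mem b⟩ : upG F)) ⟨?_, ?_⟩)).symm
    · intro a b hab
      exact up_inj (congrArg Subtype.val hab)
    · rintro ⟨_, b, rfl⟩
      exact ⟨b, rfl⟩
  have hcQ : Nat.card Q = Nat.card F := by
    rw [← hcU]
    exact Q.card_eq_multiplicity.trans (sylU F p).card_eq_multiplicity.symm
  have hMQ : Y.map φ = Q := by
    apply Subgroup.eq_of_le_of_card_ge hQ
    rw [hcQ, hc]
  let φ' : L →* Matrix.SpecialLinearGroup (Fin 2) F := (MulAut.conj g).toMonoidHom.comp φ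
  have hφ'v : ∀ x, φ' x = g * φ x * g⁻¹ := fun x => rfl
  have hmem : ∀ x, x ∈ Q ↔ g * x * g⁻¹ ∈ upG F := by
    intro x
    have h1 : g * x * g⁻¹ ∈ g • Q ↔ x ∈ Q := by
      rw [mem_smul_sylow]
      have : g⁻¹ * (g * x * g⁻¹) * g = x := by group
      rw [this]
    rw [← h1, hg]
    rfl
  refine S.fp_sl2_aux φ' ((MulAut.conj g).surjective.comp hφ) ?_ ?_ ?_ hnp
  · rw [← hker]
    ext x
    rw [MonoidHom.mem_ker, MonoidHom.mem_ker, hφ'v, conj_eq_one_iff]
  · intro b
    have h1 : g⁻¹ * up b * g ∈ Q := by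
      rw [hmem]
      have : g * (g⁻¹ * up b * g) * g⁻¹ = up b := by group
      rw [this]
      exact up_mem b
    have h2 : g⁻¹ * up b * g ∈ Y.map φ := by rw [hMQ]; exact h1
    obtain ⟨y, hy, ey⟩ := h2
    refine ⟨y, hy, ?_⟩
    rw [hφ'v, ey]
    group
  · intro y hy
    have h1 : φ y ∈ Q := by
      have : φ y ∈ Y.map φ := mem_map_of_mem _ hy
      rw [hMQ] at this
      exact this
    obtain ⟨b, hb⟩ := (hmem _).1 h1
    exact ⟨b, hb.symm⟩

end Cfsg.Agent.H227.FrakL
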