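import Cfsg.Agent.H227.Weak
import Cfsg.Agent.Lib.SylowNormalInf
import Cfsg.Agent.Transfer.Residual

/-!
# Weakly closed subgroups: overgroups, normal subgroups, quotients
-/

set_option autoImplicit false
set_option linter.unusedSectionVars false

namespace Cfsg.Agent.H227.Weak

open Subgroup Cfsg
open scoped commutatorElement

variable {H : Type*} [Group H]

theorem map_subtype_cj {K : Subgroup H} (k : K) (R : Subgroup K) :
    (cj k R).map K.subtype = cj (k : H) (R.map K.subtype) := by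
  ext x
  rw [mem_cj]
  constructor
  · rintro ⟨y, hy, rfl⟩
    rw [SetLike.mem_coe, mem_cj] at hy
    exact ⟨_, hy, by simp⟩
  · rintro ⟨y, hy, hyx⟩
    refine ⟨k * y * k⁻¹, conj_mem_cj hy, ?_⟩
    have hyx' : (y : H) = (k : H)⁻¹ * x * k := hyx
    simp [hyx', mul_assoc]

/-- elements of `A ⊔ B` when `B` normalizes `A` -/
theorem exists_mul_of_mem_sup {A B : Subgroup H} (h : B ≤ normalizer (A : Set H)) {x : H}
    (hx : x ∈ A ⊔ B) : ∃ a ∈ A, ∃ b ∈ B, x = a * b := by
  have h1 : x ∈ ((A ⊔ B : Subgroup H) : Set H) := hx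
  rw [coe_mul_of_right_le_normalizer_left A B h] at h1
  obtain ⟨a, ha, b, hb, hab⟩ := h1
  exact ⟨a, ha, b, hb, hab.symm⟩

theorem exists_mul_of_mem_sup' {A B : Subgroup H} (h : A ≤ normalizer (B : Set H)) {x : H}
    (hx : x ∈ A ⊔ B) : ∃ a ∈ A, ∃ b ∈ B, x = a * b := by
  have h1 : x ∈ ((A ⊔ B : Subgroup H) : Set H) := hx
  rw [coe_mul_of_left_le_normalizer_right A B h] at h1
  obtain ⟨a, ha, b, hb, hab⟩ := h1
  exact ⟨a, ha, b, hb, hab.symm⟩

section fin

variable [Finite H] {p : ℕ} [Fact p.Prime]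

theorem wc_subgroupOf {Q : Subgroup H} (hQ : IsPGroup p Q) (hwc : IsWeaklyClosedSubgroup p Q)
    {K : Subgroup H} (hQK : Q ≤ K) : IsWeaklyClosedSubgroup p (Q.subgroupOf K) := by
  have hQ' : IsPGroup p (Q.subgroupOf K) := hQ.comap_of_injective _ K.subtype_injective
  refine of_forall_eq hQ' fun R hR hQR k hk => ?_
  have hinj := K.subtype_injective
  apply Subgroup.map_injective hinj
  rw [map_subtype_cj, Subgroup.map_subgroupOf_eq_of_le hQK]
  refine eq_of_le (R := R.map K.subtype) hwc (hR.map _) ?_ ?_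
  · have := Subgroup.map_mono (f := K.subtype) hQR
    rwa [Subgroup.map_subgroupOf_eq_of_le hQK] at this
  · have := Subgroup.map_mono (f := K.subtype) hk
    rwa [map_subtype_cj, Subgroup.map_subgroupOf_eq_of_le hQK] at this

/-- `H`-conjugates of `Q` inside an overgroup `K` are `K`-conjugates of `Q`. -/
theorem exists_mem_cj_of_le {Q : Subgroup H} (hQ : IsPGroup p Q)
    (hwc : IsWeaklyClosedSubgroup p Q) {K : Subgroup H} (hQK : Q ≤ K) {g : H}
    (hg : cj g Q ≤ K) : ∃ k ∈ K, cj g Q = cj k Q := by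
  obtain ⟨S, hS⟩ := exists_le_sylow_map hQ hQK
  obtain ⟨S', hS'⟩ := exists_le_sylow_map (isPGroup_cj hQ g) hg
  obtain ⟨k, hk, hkS⟩ := exists_mem_cj_eq S' S
  refine ⟨k⁻¹, K.inv_mem hk, ?_⟩
  have h1 : cj (k * g) Q = Q := by
    refine eq_of_le hwc (sylow_map_isPGroup S) hS ?_
    have := cj_mono k hS'
    rwa [hkS, cj_cj] at this
  rw [← cj_eq_iff, cj_cj, h1]

theorem parabolic_normalizer {Q : Subgroup H} (hQ : IsPGroup p Q)
    (hwc : IsWeaklyClosedSubgroup p Q) {K : Subgroup H} (hQK : Q ≤ K) :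
    IsParabolic p ((normalizer (Q : Set H)).subgroupOf K) := by
  obtain ⟨S, hS⟩ := exists_le_sylow_map hQ hQK
  refine ⟨S, fun x hx => ?_⟩
  rw [mem_subgroupOf]
  exact le_normalizer_of_isPGroup hwc (sylow_map_isPGroup S) hS ⟨x, hx, rfl⟩

theorem inf_normalizer_sup_residual {Q : Subgroup H} (hwc : IsWeaklyClosedSubgroup p Q)
    (N' : Subgroup H) [N'.Normal] :
    (N' ⊓ normalizer (Q : Set H)) ⊔ (pResidual p N').map N'.subtype = N' := by
  obtain ⟨T, hQT, hT⟩ := hwc
  have hTN : (T : Subgroup H) ≤ normalizer (Q : Set H) :=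
    le_normalizer_of_isPGroup ⟨T, hQT, hT⟩ T.isPGroup' hQT
  have h1 : ¬ p ∣ (T : Subgroup H).relIndex N' := Lib.SylowNormalInf.not_dvd_relIndex T N'
  have h2 : ((normalizer (Q : Set H)).subgroupOf N').index ∣ (T : Subgroup H).relIndex N' :=
    Subgroup.relIndex_dvd_of_le_left N' hTN
  have h3 : ¬ p ∣ ((normalizer (Q : Set H)).subgroupOf N').index := fun h => h1 (h.trans h2)
  have h4 := Transfer.Residual.pResidual_sup_of_not_dvd_index h3
  have h5 := congrArg (Subgroup.map N'.subtype) h4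
  rw [Subgroup.map_sup, ← MonoidHom.range_eq_map, range_subtype, subgroupOf_map_subtype] at h5
  rw [sup_comm, inf_comm]
  exact h5

theorem wc_quotient {Q : Subgroup H} (hQ : IsPGroup p Q) (hwc : IsWeaklyClosedSubgroup p Q)
    (N' : Subgroup H) [N'.Normal] : IsWeaklyClosedSubgroup p (Q.map (QuotientGroup.mk' N')) := by
  obtain ⟨T, hQT⟩ := hQ.exists_le_sylow
  have hTN : (T : Subgroup H) ≤ normalizer (Q : Set H) :=
    le_normalizer_of_isPGroup hwc T.isPGroup' hQT
  have hsurj : Function.Surjective (QuotientGroup.mk' N') := QuotientGroup.mk'_surjective N'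
  refine ⟨T.mapSurjective hsurj, ?_, ?_⟩
  · exact Subgroup.map_mono hQT
  · intro g' hg'
    obtain ⟨g, rfl⟩ := hsurj g'
    have hmap : cj (QuotientGroup.mk' N' g) (Q.map (QuotientGroup.mk' N'))
        = (cj g Q).map (QuotientGroup.mk' N') := by
      ext x
      constructor
      · rintro ⟨_, ⟨y, hy, rfl⟩, rfl⟩
        exact ⟨g * y * g⁻¹, conj_mem_cj hy, by simp⟩
      · rintro ⟨y, hy, rfl⟩
        rw [SetLike.mem_coe, mem_cj] at hy
        exact ⟨_, ⟨_, hy, rfl⟩, by simp [mul_assoc]⟩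
    change cj (QuotientGroup.mk' N' g) (Q.map (QuotientGroup.mk' N')) ≤ _ at hg'
    change cj (QuotientGroup.mk' N' g) (Q.map (QuotientGroup.mk' N')) = _
    rw [hmap] at hg' ⊢
    have h1 : cj g Q ≤ (T : Subgroup H) ⊔ N' := by
      have h2 : (cj g Q).map (QuotientGroup.mk' N') ≤
          (T : Subgroup H).map (QuotientGroup.mk' N') := hg'
      rw [Subgroup.map_le_iff_le_comap, QuotientGroup.comap_map_mk'] at h2
      rwa [sup_comm] at h2
    obtain ⟨k, hk, hgk⟩ := exists_mem_cj_of_le hQ hwc (hQT.trans le_sup_left) h1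
    rw [hgk]
    rw [sup_comm] at hk
    obtain ⟨n, hn, t, ht, rfl⟩ := Subgroup.mem_sup_of_normal_left.1 hk
    have h3 : cj t Q = Q := cj_eq_self_iff.2 (hTN ht)
    rw [← cj_cj, h3]
    ext x
    constructor
    · rintro ⟨y, hy, rfl⟩
      rw [SetLike.mem_coe, mem_cj] at hy
      refine ⟨_, hy, ?_⟩
      have : QuotientGroup.mk' N' n = 1 := (QuotientGroup.eq_one_iff n).2 hn
      simp only [map_mul, map_inv, this]
      simp
    · rintro ⟨y, hy, rfl⟩
      refine ⟨n * y * n⁻¹, conj_mem_cj hy, ?_⟩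
      have : QuotientGroup.mk' N' n = 1 := (QuotientGroup.eq_one_iff n).2 hn
      simp only [map_mul, map_inv, this]
      simp

/-- `K° = ⟨Q^K⟩`. -/
theorem weakClosure_eq {Q : Subgroup H} (hQ : IsPGroup p Q) (hwc : IsWeaklyClosedSubgroup p Q)
    {K : Subgroup H} (hQK : Q ≤ K) : weakClosure Q K = ⨆ k : K, cj (k : H) Q := by
  refine le_antisymm (iSup_le fun g => ?_) (iSup_le fun k => ?_)
  · obtain ⟨k, hk, hgk⟩ := exists_mem_cj_of_le hQ hwc hQK g.2
    change cj (g : H) Q ≤ _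
    rw [hgk]
    exact le_iSup (fun k : K => cj (k : H) Q) ⟨k, hk⟩
  · have h1 : cj (k : H) Q ≤ K := by
      have := cj_mono (k : H) hQK
      rwa [cj_eq_self_of_mem k.2] at this
    exact le_iSup (fun g : {g : H // Q.map (MulAut.conj g).toMonoidHom ≤ K} =>
      Q.map (MulAut.conj (g : H)).toMonoidHom) ⟨k, h1⟩

/-- every subnormal subgroup `M` of `K` containing `Q` contains all `K`-conjugates of `Q` -/
theorem cj_le_of_isSubnormal {Q : Subgroup H} (hQ : IsPGroup p Q)
    (hwc : IsWeaklyClosedSubgroup p Q) {M : Subgroup H} (hM : M.IsSubnormal) :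
    Q ≤ M → ∀ g : H, cj g Q ≤ M := by
  induction hM with
  | top => intro _ _; exact le_top
  | step M M' hle _ hN ih =>
    intro hQM g
    obtain ⟨m, hm, hgm⟩ := exists_mem_cj_of_le hQ hwc (hQM.trans hle) (ih (hQM.trans hle) g)
    rw [hgm]
    intro x hx
    rw [mem_cj] at hx
    have h1 : (⟨m⁻¹ * x * m, hle (hQM hx)⟩ : M') ∈ M.subgroupOf M' := mem_subgroupOf.2 (hQM hx)
    have h2 := hN.conj_mem _ h1 ⟨m, hm⟩
    have h3 := mem_subgroupOf.1 h2
    simpa [mul_assoc] using h3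

theorem weakClosure_eq_subnormalClosure {Q : Subgroup H} (hQ : IsPGroup p Q)
    (hwc : IsWeaklyClosedSubgroup p Q) {K : Subgroup H} (hQK : Q ≤ K) :
    weakClosure Q K = (subnormalClosure (Q.subgroupOf K)).map K.subtype := by
  rw [weakClosure_eq hQ hwc hQK]
  have hQ' : IsPGroup p (Q.subgroupOf K) := hQ.comap_of_injective _ K.subtype_injective
  have hwc' := wc_subgroupOf hQ hwc hQK
  have hmap : ∀ k : K, (cj k (Q.subgroupOf K)).map K.subtype = cj (k : H) Q := fun k => by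
    rw [map_subtype_cj, Subgroup.map_subgroupOf_eq_of_le hQK]
  apply le_antisymm
  · refine iSup_le fun k => ?_
    rw [← hmap]
    refine Subgroup.map_mono (le_sInf fun M hM => ?_)
    exact cj_le_of_isSubnormal hQ' hwc' hM.2 hM.1 k
  · have hle : subnormalClosure (Q.subgroupOf K) ≤ ⨆ k : K, cj k (Q.subgroupOf K) := by
      refine sInf_le ⟨?_, ?_⟩
      · have := le_iSup (fun k : K => cj k (Q.subgroupOf K)) 1
        rwa [cj_one] at this
      · apply Subgroup.Normal.isSubnormal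
        have : (⨆ k : K, cj k (Q.subgroupOf K)) = normalClosure (Q.subgroupOf K : Set K) := by
          apply le_antisymm
          · refine iSup_le fun k => ?_
            intro x hx
            rw [mem_cj] at hx
            have h1 : k⁻¹ * x * k ∈ normalClosure (Q.subgroupOf K : Set K) :=
              subset_normalClosure hx
            have h2 := normalClosure_normal.conj_mem _ h1 k
            simpa [mul_assoc] using h2
          · rw [normalClosure, closure_le]
            intro x hx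
            obtain ⟨a, ha, hax⟩ := Group.mem_conjugatesOfSet_iff.1 hx
            obtain ⟨c, rfl⟩ := isConj_iff.1 hax
            exact (le_iSup (fun k : K => cj k (Q.subgroupOf K)) c) (conj_mem_cj ha)
        rw [this]
        exact normalClosure_normal
    refine (Subgroup.map_mono hle).trans ?_
    rw [Subgroup.map_iSup]
    exact iSup_mono fun k => le_of_eq (hmap k)

/-- For a subgroup `N` normalized by the weakly closed subgroup `Q`: `N = N_N(Q) [N, Q]`. -/
theorem exists_mul_of_normalizes {Q : Subgroup H} (hQ : IsPGroup p Q)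
    (hwc : IsWeaklyClosedSubgroup p Q) {N : Subgroup H} (hN : Q ≤ normalizer (N : Set H))
    {n : H} (hn : n ∈ N) :
    ∃ a ∈ N ⊓ normalizer (Q : Set H), ∃ b ∈ ⁅N, Q⁆, n = a * b := by
  have hNQ : ⁅N, Q⁆ ≤ N := commutator_le_of_le_normalizer hN
  have hQn : Q ≤ normalizer ((⁅N, Q⁆ : Subgroup H) : Set H) := by
    intro q hq
    rw [← cj_eq_self_iff, cj_commutator, cj_eq_self_iff.2 (hN hq), cj_eq_self_of_mem hq]
  -- `K = [N, Q] Q`
  have hcj : cj n⁻¹ Q ≤ ⁅N, Q⁆ ⊔ Q := by
    intro x hx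
    rw [mem_cj, inv_inv] at hx
    have h1 : x = ⁅n⁻¹, n * x * n⁻¹⁆ * (n * x * n⁻¹) := by
      rw [commutatorElement_def]; group
    rw [h1]
    exact mul_mem (mem_sup_left (commutator_mem_commutator (N.inv_mem hn) hx)) (mem_sup_right hx)
  obtain ⟨k, hk, hgk⟩ := exists_mem_cj_of_le hQ hwc le_sup_right hcj
  obtain ⟨b, hb, q, hq, rfl⟩ := exists_mul_of_mem_sup hQn hk
  -- `cj n⁻¹ Q = cj b Q`
  rw [← cj_cj b q, cj_eq_self_of_mem hq] at hgk
  refine ⟨n * b, ⟨N.mul_mem hn (hNQ hb), ?_⟩, b⁻¹, inv_mem hb, by group⟩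
  have h2 : cj (n * b) Q = Q := by rw [← cj_cj, ← hgk, cj_cj_inv]
  exact cj_eq_self_iff.1 h2

/-- For `N` normalized by `Q`: `[N, Q] = (Q ∩ [N, Q]) [N, Q, Q]`. -/
theorem exists_mul_of_mem_commutator {Q : Subgroup H} (hQ : IsPGroup p Q)
    (hwc : IsWeaklyClosedSubgroup p Q) {N : Subgroup H} (hN : Q ≤ normalizer (N : Set H))
    {c : H} (hc : c ∈ ⁅N, Q⁆) :
    ∃ a ∈ Q ⊓ ⁅N, Q⁆, ∃ b ∈ ⁅⁅N, Q⁆, Q⁆, c = a * b := by
  set L := ⁅N, Q⁆ with hL
  have hLN : L ≤ N := commutator_le_of_le_normalizer hN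
  have hQL : Q ≤ normalizer (L : Set H) := normalizer_commutator_ge_right N Q
  have hNL : N ≤ normalizer (L : Set H) := normalizer_commutator_ge_left N Q
  have hQLQ : Q ≤ normalizer ((⁅L, Q⁆ : Subgroup H) : Set H) := normalizer_commutator_ge_right L Q
  set M := (Q ⊓ L) ⊔ ⁅L, Q⁆ with hM
  -- who normalizes `M`
  have key : ∀ a : H, a ∈ normalizer (Q : Set H) → a ∈ normalizer (L : Set H) → cj a M = M := by
    intro a ha hb
    rw [← cj_eq_self_iff] at ha hb
    rw [hM, cj_sup, cj_inf, cj_commutator a L Q, ha, hb]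
  have hLM : L ≤ normalizer (M : Set H) := by
    intro l hl
    obtain ⟨a, ha, b, hb, rfl⟩ := exists_mul_of_normalizes hQ hwc hQL hl
    refine mul_mem (cj_eq_self_iff.1 (key a ha.2 (le_normalizer ha.1))) ?_
    exact le_normalizer ((le_sup_right : ⁅L, Q⁆ ≤ M) hb)
  have hLle : L ≤ M := by
    rw [hL, commutator_le]
    intro n hn q hq
    obtain ⟨a, ha, b, hb, rfl⟩ := exists_mul_of_normalizes hQ hwc hN hn
    have h1 : ⁅b, q⁆ ∈ M := (le_sup_right : ⁅L, Q⁆ ≤ M) (commutator_mem_commutator hb hq)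
    have h2 : a * ⁅b, q⁆ * a⁻¹ ∈ M := by
      have := cj_eq_self_iff.1 (key a ha.2 (hNL ha.1))
      exact (mem_normalizer_iff.1 this _).1 h1
    have h3 : ⁅a, q⁆ ∈ M := by
      refine (le_sup_left : Q ⊓ L ≤ M) ⟨?_, commutator_mem_commutator ha.1 hq⟩
      have h4 : a * q * a⁻¹ ∈ Q := (mem_normalizer_iff.1 ha.2 q).1 hq
      rw [commutatorElement_def]
      exact Q.mul_mem h4 (Q.inv_mem hq)
    have h5 : ⁅a * b, q⁆ = (a * ⁅b, q⁆ * a⁻¹) * ⁅a, q⁆ := by
      simp only [commutatorElement_def]; group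
    rw [h5]
    exact M.mul_mem h2 h3
  exact exists_mul_of_mem_sup' (inf_le_left.trans hQLQ) (hLle hc)

end fin

end Cfsg.Agent.H227.Weak
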