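import Cfsg.Agent.H227.WeakChar

/-!
# `Y`-minimal groups

`L` is `Y`-minimal: generated by the conjugates of `Y`, and `Y` is in a unique maximal subgroup `L₀`.
-/

set_option autoImplicit false
set_option linter.unusedSectionVars false

namespace Cfsg.Agent.H227.YMin

open Subgroup Cfsg
open scoped commutatorElement
open Cfsg.Agent.H227.Weak (cj mem_cj cj_cj cj_eq_self_iff cj_le_iff cj_mono cj_cj_inv cj_inv_cj
  conj_mem_cj cj_eq_iff cj_inj cj_normal cj_sup cj_inf cj_eq_self_of_mem cj_commutator cj_one)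

variable {L : Type*} [Group L]

theorem isCoatom_cj {M : Subgroup L} (hM : IsCoatom M) (g : L) : IsCoatom (cj g M) := by
  refine ⟨fun h => hM.1 ?_, fun X hX => ?_⟩
  · rw [cj_eq_iff] at h
    rw [h]
    exact cj_normal g⁻¹ ⊤
  · have h1 : M < cj g⁻¹ X := by
      refine lt_of_le_of_ne ?_ fun h => ?_
      · rw [← cj_inv_cj g M]; exact cj_mono _ hX.le
      · apply hX.ne
        rw [h, cj_cj_inv]
    have h2 := hM.2 _ h1
    rw [← cj_cj_inv g X, h2]
    exact cj_normal g ⊤

section fin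

variable [Finite L] {L₀ Y : Subgroup L}

theorem eq_of_isCoatom (hL₀ : IsCoatom L₀) (hY : Y ≤ L₀) (hmin : IsMinimalOver Y) {M : Subgroup L}
    (hM : IsCoatom M) (hYM : Y ≤ M) : M = L₀ :=
  hmin.2.unique ⟨hM, hYM⟩ ⟨hL₀, hY⟩

theorem le_of_ne_top (hL₀ : IsCoatom L₀) (hY : Y ≤ L₀) (hmin : IsMinimalOver Y) {X : Subgroup L}
    (hX : X ≠ ⊤) (hYX : Y ≤ X) : X ≤ L₀ := by
  rcases eq_top_or_exists_le_coatom X with h | ⟨M, hM, hXM⟩
  · exact absurd h hX
  · rw [← eq_of_isCoatom hL₀ hY hmin hM (hYX.trans hXM)]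
    exact hXM

/-- a normal subgroup containing `Y` is everything -/
theorem eq_top_of_normal (hmin : IsMinimalOver Y) {N : Subgroup L} (hN : N.Normal) (hYN : Y ≤ N) :
    N = ⊤ := by
  rw [eq_top_iff, ← hmin.1]
  exact normalClosure_le_normal hYN

theorem normalizer_eq (hL₀ : IsCoatom L₀) (hY : Y ≤ L₀) (hmin : IsMinimalOver Y) :
    normalizer (L₀ : Set L) = L₀ := by
  by_contra hne
  have h1 : L₀ < normalizer (L₀ : Set L) := lt_of_le_of_ne le_normalizer (Ne.symm hne)
  have h2 := hL₀.2 _ h1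
  exact hL₀.1 (eq_top_of_normal hmin (normalizer_eq_top_iff.1 h2) hY)

theorem not_cj_le (hL₀ : IsCoatom L₀) (hY : Y ≤ L₀) (hmin : IsMinimalOver Y) {g : L}
    (hg : g ∉ L₀) : ¬ cj g Y ≤ L₀ := by
  intro h
  rw [cj_le_iff] at h
  have h1 := eq_of_isCoatom hL₀ hY hmin (isCoatom_cj hL₀ g⁻¹) h
  have h2 := cj_eq_self_iff.1 h1
  rw [normalizer_eq hL₀ hY hmin] at h2
  exact hg (by simpa using L₀.inv_mem h2)

theorem sup_cj_eq_top (hL₀ : IsCoatom L₀) (hY : Y ≤ L₀) (hmin : IsMinimalOver Y) {g : L}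
    (hg : g ∉ L₀) : Y ⊔ cj g Y = ⊤ := by
  by_contra hne
  exact not_cj_le hL₀ hY hmin hg
    (le_sup_right.trans (le_of_ne_top hL₀ hY hmin hne le_sup_left))

/-- for abelian `Y`: `Y ∩ Y^g = Y ∩ Z(L)` -/
theorem inf_cj_eq (hL₀ : IsCoatom L₀) (hY : Y ≤ L₀) (hmin : IsMinimalOver Y) {g : L}
    (hg : g ∉ L₀) (hYc : IsMulCommutative Y) : Y ⊓ cj g Y = Y ⊓ center L := by
  apply le_antisymm
  · intro x hxx
    obtain ⟨hx, hxg⟩ := mem_inf.1 hxx
    refine mem_inf.2 ⟨hx, ?_⟩
    have h1 : Y ⊔ cj g Y ≤ centralizer ({x} : Set L) := by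
      refine sup_le ?_ ?_
      · intro y hy
        rw [mem_centralizer_iff]
        intro z hz
        rw [Set.mem_singleton_iff.1 hz]
        exact congrArg Subtype.val (hYc.is_comm.comm (⟨x, hx⟩ : Y) ⟨y, hy⟩)
      · intro y hy
        rw [mem_centralizer_iff]
        intro z hz
        rw [Set.mem_singleton_iff.1 hz]
        rw [mem_cj] at hxg hy
        have h2 := congrArg Subtype.val (hYc.is_comm.comm (⟨_, hxg⟩ : Y) ⟨_, hy⟩)
        have h3 : g⁻¹ * (x * y) * g = g⁻¹ * (y * x) * g := by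
          simpa [mul_assoc] using h2
        simpa using h3
    rw [sup_cj_eq_top hL₀ hY hmin hg] at h1
    rw [mem_center_iff]
    intro y
    exact ((mem_centralizer_iff.1 (h1 (mem_top y))) x rfl).symm
  · intro x hxx
    obtain ⟨hx, hxc⟩ := mem_inf.1 hxx
    refine mem_inf.2 ⟨hx, ?_⟩
    rw [mem_cj]
    have : g⁻¹ * x * g = x := by
      rw [mul_assoc, ← mem_center_iff.1 hxc g, inv_mul_cancel_left]
    rw [this]
    exact hx

section p

variable {p : ℕ} [Fact p.Prime]

/-- The normalizer of a `p`-subgroup `T` with `Y ≤ T ≤ L₀` lies in `L₀`. -/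
theorem normalizer_le (hL₀ : IsCoatom L₀) (hmin : IsMinimalOver Y) {T : Subgroup L}
    (hYT : Y ≤ T) (hTL : T ≤ L₀) : normalizer (T : Set L) ≤ L₀ := by
  refine le_of_ne_top hL₀ (hYT.trans hTL) hmin (fun h => ?_) (hYT.trans le_normalizer)
  have h1 := eq_top_of_normal hmin (normalizer_eq_top_iff.1 h) hYT
  exact hL₀.1 (top_le_iff.1 (h1 ▸ hTL))

/-- `Y` lies in a Sylow `p`-subgroup of `L` contained in `L₀`. -/
theorem exists_sylow (hL₀ : IsCoatom L₀) (hmin : IsMinimalOver Y)
    (T : Sylow p L₀) (hYT : Y ≤ (T : Subgroup L₀).map L₀.subtype) :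
    ∃ S : Sylow p L, (S : Subgroup L) = (T : Subgroup L₀).map L₀.subtype := by
  have hTp : IsPGroup p ((T : Subgroup L₀).map L₀.subtype) := Weak.sylow_map_isPGroup T
  obtain ⟨S, hS⟩ := hTp.exists_le_sylow
  refine ⟨S, ?_⟩
  by_contra hne
  set T' := (T : Subgroup L₀).map L₀.subtype with hT'
  have hTL : T' ≤ L₀ := Subgroup.map_subtype_le _
  have hlt : T' < S := lt_of_le_of_ne hS (Ne.symm hne)
  have hnil : Group.IsNilpotent S := S.isPGroup'.isNilpotent
  have hnc := @Group.normalizerCondition_of_isNilpotent S _ hnil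
  have h2 : T'.subgroupOf S < ⊤ := by
    rw [lt_top_iff_ne_top]
    intro h
    rw [subgroupOf_eq_top] at h
    exact hlt.not_ge h
  obtain ⟨x, hx, hxT⟩ := SetLike.exists_of_lt (hnc _ h2)
  have hxn : (x : L) ∈ normalizer (T' : Set L) := by
    rw [mem_normalizer_iff]
    intro u
    constructor
    · intro hu
      exact mem_subgroupOf.1 ((mem_normalizer_iff.1 hx ⟨u, hS hu⟩).1 (mem_subgroupOf.2 hu))
    · intro hu
      have huS : u ∈ (S : Subgroup L) := by
        have := (S : Subgroup L).mul_mem ((S : Subgroup L).mul_mem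
          ((S : Subgroup L).inv_mem x.2) (hS hu)) x.2
        simpa [mul_assoc] using this
      exact mem_subgroupOf.1 ((mem_normalizer_iff.1 hx ⟨u, huS⟩).2 (mem_subgroupOf.2 hu))
  -- `x ∈ L₀`; `T' ⊔ ⟨x⟩` is a `p`-subgroup of `L₀`
  have hxL : (x : L) ∈ L₀ := normalizer_le hL₀ hmin hYT hTL hxn
  set V := T' ⊔ zpowers (x : L) with hV
  have hVp : IsPGroup p V := S.isPGroup'.to_le (sup_le hS (by rw [zpowers_le]; exact x.2))
  have hVL : V ≤ L₀ := sup_le hTL (by rw [zpowers_le]; exact hxL)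
  have h3 : IsPGroup p (V.subgroupOf L₀) := hVp.comap_of_injective _ L₀.subtype_injective
  have h4 : (T : Subgroup L₀) ≤ V.subgroupOf L₀ := by
    intro t ht
    rw [mem_subgroupOf]
    exact mem_sup_left ⟨t, ht, rfl⟩
  have h5 := T.is_maximal' h3 h4
  apply hxT
  rw [mem_subgroupOf]
  have h6 : (⟨x, hxL⟩ : L₀) ∈ V.subgroupOf L₀ := by
    rw [mem_subgroupOf]
    exact mem_sup_right (mem_zpowers _)
  rw [h5] at h6
  exact ⟨_, h6, rfl⟩

/-- **Key principle.** -/
theorem eq_top_of_not_dvd_index (hL₀ : IsCoatom L₀) (hY : Y ≤ L₀) (hmin : IsMinimalOver Y)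
    (hYp : IsPGroup p Y) {N X : Subgroup L} (hN : N.Normal) (hNL : N ≤ L₀) (hXN : X ⊔ N = ⊤)
    (hX : ¬ p ∣ X.index) : X = ⊤ := by
  by_contra hne
  -- a Sylow subgroup of `L` inside `X`
  obtain ⟨P⟩ : Nonempty (Sylow p X) := inferInstance
  have hP : ¬ p ∣ ((P : Subgroup X).map X.subtype).index := by
    have h1 : ((P : Subgroup X).map X.subtype).relIndex X * X.index
        = ((P : Subgroup X).map X.subtype).index :=
      Subgroup.relIndex_mul_index (Subgroup.map_subtype_le _)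
    rw [← h1]
    have h2 : ((P : Subgroup X).map X.subtype).relIndex X = (P : Subgroup X).index := by
      rw [Subgroup.relIndex, Subgroup.subgroupOf, Subgroup.comap_map_eq_self_of_injective
        X.subtype_injective]
    rw [h2]
    intro h
    rcases (Fact.out : p.Prime).dvd_mul.1 h with h | h
    · exact P.not_dvd_index h
    · exact hX h
  have hPp : IsPGroup p ((P : Subgroup X).map X.subtype) := Weak.sylow_map_isPGroup P
  obtain ⟨g, hg⟩ := Weak.exists_cj_le_sylow (hPp.toSylow hP) hYp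
  have hg' : cj g Y ≤ X := hg.trans (Subgroup.map_subtype_le _)
  have h1 : Y ≤ cj g⁻¹ X := cj_le_iff.1 hg'
  have h2 : cj g⁻¹ X ≠ ⊤ := by
    intro h
    rw [cj_eq_iff] at h
    exact hne (h.trans (cj_normal _ ⊤))
  have h3 := le_of_ne_top hL₀ hY hmin h2 h1
  have h4 : cj g⁻¹ X ⊔ N = ⊤ := by
    have := congrArg (cj g⁻¹) hXN
    rwa [cj_sup, cj_normal g⁻¹ N, cj_normal g⁻¹ ⊤] at this
  exact hL₀.1 (top_le_iff.1 (h4 ▸ sup_le h3 hNL))

/-- `S ∩ N` is normal in `L` for a normal subgroup `N ≤ L₀` and a Sylow `p`-subgroup `S`. -/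
theorem inf_normal (hL₀ : IsCoatom L₀) (hY : Y ≤ L₀) (hmin : IsMinimalOver Y)
    (hYp : IsPGroup p Y) {N : Subgroup L} (hN : N.Normal) (hNL : N ≤ L₀) (S : Sylow p L) :
    ((S : Subgroup L) ⊓ N).Normal := by
  have h1 := Lib.SylowNormalInf.normalizer_inf_sup_eq_top S N
  refine normalizer_eq_top_iff.1 (eq_top_of_not_dvd_index hL₀ hY hmin hYp hN hNL h1 ?_)
  intro h
  refine S.not_dvd_index (h.trans (Subgroup.index_dvd_of_le ?_))
  intro s hs
  rw [← cj_eq_self_iff, cj_inf, cj_eq_self_of_mem hs, cj_normal]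

theorem isPClosed (hL₀ : IsCoatom L₀) (hY : Y ≤ L₀) (hmin : IsMinimalOver Y)
    (hYp : IsPGroup p Y) {N : Subgroup L} (hN : N.Normal) (hNL : N ≤ L₀) : IsPClosed p N := by
  intro P
  obtain ⟨S, hS⟩ := (Weak.sylow_map_isPGroup P : IsPGroup p _).exists_le_sylow
  have h1 := inf_normal hL₀ hY hmin hYp hN hNL S
  have h2 : (P : Subgroup N).map N.subtype = (S : Subgroup L) ⊓ N := by
    have h3 : (P : Subgroup N) ≤ (S : Subgroup L).subgroupOf N := by
      intro x hx
      rw [mem_subgroupOf]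
      exact hS ⟨x, hx, rfl⟩
    have h4 : (S : Subgroup L).subgroupOf N = P :=
      P.is_maximal' (Lib.SylowNormalInf.isPGroup_subgroupOf S N) h3
    rw [← h4, subgroupOf_map_subtype]
  have h5 : (P : Subgroup N) = ((S : Subgroup L) ⊓ N).subgroupOf N := by
    rw [← h2, subgroupOf, comap_map_eq_self_of_injective N.subtype_injective]
  rw [h5]
  exact h1.comap N.subtype

/-- `O_p(N) = S ∩ N` for a normal subgroup `N ≤ L₀`. -/
theorem pCoreOf_eq (hL₀ : IsCoatom L₀) (hY : Y ≤ L₀) (hmin : IsMinimalOver Y)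
    (hYp : IsPGroup p Y) {N : Subgroup L} (hN : N.Normal) (hNL : N ≤ L₀) (S : Sylow p L) :
    pCoreOf p N = (S : Subgroup L) ⊓ N := by
  have h1 := inf_normal hL₀ hY hmin hYp hN hNL S
  have hn : pCoreOf p N = N ⊓ pCore p L := Lib.Cores.map_subtype_pCore p hN
  apply le_antisymm
  · rw [hn, inf_comm]
    exact inf_le_inf_right _ (Lib.Cores.pCore_le_sylow S)
  · rw [hn]
    exact le_inf inf_le_right (Lib.Cores.le_pCore h1 (S.isPGroup'.to_le inf_le_left))

theorem not_dvd_relIndex_pCoreOf (hL₀ : IsCoatom L₀) (hY : Y ≤ L₀) (hmin : IsMinimalOver Y)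
    (hYp : IsPGroup p Y) {N : Subgroup L} (hN : N.Normal) (hNL : N ≤ L₀) :
    ¬ p ∣ (pCoreOf p N).relIndex N := by
  obtain ⟨S⟩ : Nonempty (Sylow p L) := inferInstance
  rw [pCoreOf_eq hL₀ hY hmin hYp hN hNL S, inf_relIndex_right]
  exact Lib.SylowNormalInf.not_dvd_relIndex S N

theorem relIndex_pCoreOf (N : Subgroup L) :
    (pCoreOf p N).relIndex N = Nat.card (N ⧸ pCore p N) := by
  rw [relIndex, subgroupOf, pCoreOf, comap_map_eq_self_of_injective N.subtype_injective]
  rfl

theorem card_quotient_coprime (hL₀ : IsCoatom L₀) (hY : Y ≤ L₀) (hmin : IsMinimalOver Y)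
    (hYp : IsPGroup p Y) {N : Subgroup L} (hN : N.Normal) (hNL : N ≤ L₀) :
    (Nat.card (N ⧸ pCore p N)).Coprime p := by
  rw [Nat.coprime_comm, (Fact.out : p.Prime).coprime_iff_not_dvd, ← relIndex_pCoreOf]
  exact not_dvd_relIndex_pCoreOf hL₀ hY hmin hYp hN hNL

/-- `N / O_p(N)` is nilpotent. -/
theorem isNilpotent_quotient (hL₀ : IsCoatom L₀) (hY : Y ≤ L₀) (hmin : IsMinimalOver Y)
    (hYp : IsPGroup p Y) {N : Subgroup L} (hN : N.Normal) (hNL : N ≤ L₀)
    [hc : (pCore p N).Normal] : Group.IsNilpotent (N ⧸ pCore p N) := by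
  have hsurj : Function.Surjective (QuotientGroup.mk' (pCore p N)) :=
    QuotientGroup.mk'_surjective _
  refine ((Group.isNilpotent_of_finite_tfae (G := N ⧸ pCore p N)).out 3 0 rfl rfl).1 ?_
  intro q hq P
  obtain ⟨S, rfl⟩ := Sylow.mapSurjective_surjective hsurj q P
  rw [Sylow.coe_mapSurjective]
  -- Frattini
  have h1 := Sylow.normalizer_sup_eq_top S
  set S' := (S : Subgroup N).map N.subtype with hS'
  set R := pCoreOf p N with hR
  have hRn : R.Normal := by
    rw [hR, show pCoreOf p N = N ⊓ pCore p L from Lib.Cores.map_subtype_pCore p hN]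
    have := Lib.Cores.pCore_normal (G := L) p
    infer_instance
  have hRN : R ≤ N := Weak.pCoreOf_le p N
  have hX : R ⊔ normalizer (S' : Set L) = ⊤ := by
    refine eq_top_of_not_dvd_index hL₀ hY hmin hYp hN hNL ?_ ?_
    · rw [eq_top_iff, ← h1, sup_assoc]
      exact le_sup_right
    · intro h
      refine not_dvd_relIndex_pCoreOf hL₀ hY hmin hYp hN hNL (p := p) (h.trans ?_)
      have h2 : (R ⊔ normalizer (S' : Set L)).relIndex ((R ⊔ normalizer (S' : Set L)) ⊔ N)
          = (R ⊔ normalizer (S' : Set L)).relIndex N :=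
        Lib.SylowNormalInf.relIndex_sup_of_normal _ _
      have h3 : (R ⊔ normalizer (S' : Set L)) ⊔ N = ⊤ := by
        rw [eq_top_iff, ← h1, sup_assoc]
        exact le_sup_right
      rw [h3, relIndex_top_right] at h2
      rw [h2]
      exact relIndex_dvd_of_le_left N le_sup_left
  -- the image of `S` is normal
  constructor
  rintro _ ⟨s, hs, rfl⟩ x
  obtain ⟨x, rfl⟩ := hsurj x
  have hx : (x : L) ∈ R ⊔ normalizer (S' : Set L) := hX ▸ mem_top _
  obtain ⟨r, hr, m, hm, hrm⟩ := mem_sup_of_normal_left.1 hx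
  -- `m ∈ N`
  have hmN : m ∈ N := by
    have : m = r⁻¹ * x := by rw [← hrm]; group
    rw [this]
    exact N.mul_mem (N.inv_mem (hRN hr)) x.2
  have hr' : (⟨r, hRN hr⟩ : N) ∈ pCore p N := by
    obtain ⟨r', hr', hrr⟩ := hr
    have : r' = ⟨r, hRN ⟨r', hr', hrr⟩⟩ := Subtype.ext hrr
    rwa [← this]
  have hxe : QuotientGroup.mk' (pCore p N) x = QuotientGroup.mk' (pCore p N) ⟨m, hmN⟩ := by
    have : x = ⟨r, hRN hr⟩ * ⟨m, hmN⟩ := Subtype.ext hrm.symm
    rw [this, map_mul]
    have h3 : QuotientGroup.mk' (pCore p N) ⟨r, hRN hr⟩ = 1 := (QuotientGroup.eq_one_iff _).2 hr'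
    rw [h3, one_mul]
  rw [hxe, ← map_mul, ← map_inv, ← map_mul]
  refine ⟨_, ?_, rfl⟩
  have h4 : m * s * m⁻¹ ∈ S' := (mem_normalizer_iff.1 hm _).1 ⟨s, hs, rfl⟩
  obtain ⟨t, ht, hts⟩ := h4
  have : t = ⟨m, hmN⟩ * s * ⟨m, hmN⟩⁻¹ := Subtype.ext hts
  rw [← this]
  exact ht

theorem pCore_le (hL₀ : IsCoatom L₀) (hmin : IsMinimalOver Y)
    (T : Sylow p L₀) (hYT : Y ≤ (T : Subgroup L₀).map L₀.subtype) : pCore p L ≤ L₀ := by
  obtain ⟨S, hS⟩ := exists_sylow hL₀ hmin T hYT
  have := Lib.Cores.pCore_le_sylow S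
  rw [hS] at this
  exact this.trans (Subgroup.map_subtype_le _)

/-- `core(L₀) / O_p(L) = Φ(L / O_p(L))` -/
theorem map_normalCore_eq_frattini (hL₀ : IsCoatom L₀) (hY : Y ≤ L₀) (hmin : IsMinimalOver Y)
    (hYp : IsPGroup p Y) (hO : pCore p L ≤ L₀) [hc : (pCore p L).Normal] :
    (L₀.normalCore).map (QuotientGroup.mk' (pCore p L)) = frattini (L ⧸ pCore p L) := by
  have hsurj : Function.Surjective (QuotientGroup.mk' (pCore p L)) :=
    QuotientGroup.mk'_surjective _
  have hker : (QuotientGroup.mk' (pCore p L)).ker = pCore p L := QuotientGroup.ker_mk' _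
  apply le_antisymm
  · -- every maximal subgroup of the quotient contains the image
    refine le_iInf₂ fun M' hM' => ?_
    have hM'c : IsCoatom M' := hM'
    set M := M'.comap (QuotientGroup.mk' (pCore p L)) with hM
    have hMO : pCore p L ≤ M := by
      rw [← hker]
      exact le_trans (ker_le_comap _ _) le_rfl
    have hMc : IsCoatom M := by
      refine ⟨fun h => hM'c.1 ?_, fun X hX => ?_⟩
      · rw [← map_comap_eq_self_of_surjective hsurj M', ← hM, h, map_top_of_surjective _ hsurj]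
      · have h1 : M' < X.map (QuotientGroup.mk' (pCore p L)) := by
          refine lt_of_le_of_ne ?_ fun h => ?_
          · rw [← map_comap_eq_self_of_surjective hsurj M']
            exact Subgroup.map_mono hX.le
          · apply hX.ne
            rw [hM, h, comap_map_eq, hker, sup_eq_left]
            exact hMO.trans hX.le
        have h2 := hM'c.2 _ h1
        have h3 : X ⊔ pCore p L = ⊤ := by
          rw [← hker, ← comap_map_eq, h2, comap_top]
        rwa [sup_eq_left.2 (hMO.trans hX.le)] at h3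
    rw [map_le_iff_le_comap, ← hM]
    by_contra hD
    have h1 : M ⊔ L₀.normalCore = ⊤ := by
      refine hMc.2 _ (lt_of_le_of_ne le_sup_left fun h => hD ?_)
      rw [h]; exact le_sup_right
    refine hMc.1 (eq_top_of_not_dvd_index hL₀ hY hmin hYp (normalCore_normal L₀)
      (normalCore_le L₀) h1 ?_)
    intro h
    refine not_dvd_relIndex_pCoreOf hL₀ hY hmin hYp (normalCore_normal L₀)
      (normalCore_le L₀) (p := p) (h.trans ?_)
    have h2 := Lib.SylowNormalInf.relIndex_sup_of_normal M L₀.normalCore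
    rw [h1, relIndex_top_right] at h2
    rw [h2]
    refine relIndex_dvd_of_le_left _ ?_
    rw [show pCoreOf p L₀.normalCore = L₀.normalCore ⊓ pCore p L from
      Lib.Cores.map_subtype_pCore p (normalCore_normal L₀)]
    exact inf_le_right.trans hMO
  · have hF : (frattini (L ⧸ pCore p L)).comap (QuotientGroup.mk' (pCore p L)) ≤ L₀ := by
      have h1 : IsCoatom (L₀.map (QuotientGroup.mk' (pCore p L))) := by
        have hcm : (L₀.map (QuotientGroup.mk' (pCore p L))).comap
            (QuotientGroup.mk' (pCore p L)) = L₀ := by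
          rw [comap_map_eq, hker, sup_eq_left.2 hO]
        refine ⟨fun h => hL₀.1 ?_, fun X hX => ?_⟩
        · rw [← hcm, h, comap_top]
        · have h2 : L₀ < X.comap (QuotientGroup.mk' (pCore p L)) := by
            refine lt_of_le_of_ne ?_ fun h => ?_
            · rw [← map_le_iff_le_comap]; exact hX.le
            · apply hX.ne
              rw [h, map_comap_eq_self_of_surjective hsurj]
          have h3 := hL₀.2 _ h2
          rw [← map_comap_eq_self_of_surjective hsurj X, h3, map_top_of_surjective _ hsurj]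
      have h2 := comap_mono (f := QuotientGroup.mk' (pCore p L)) (frattini_le_coatom h1)
      rwa [comap_map_eq, hker, sup_eq_left.2 hO] at h2
    have hn : ((frattini (L ⧸ pCore p L)).comap (QuotientGroup.mk' (pCore p L))).Normal :=
      inferInstance
    have h3 := normal_le_normalCore.2 hF
    rw [← map_comap_eq_self_of_surjective hsurj (frattini (L ⧸ pCore p L))]
    exact Subgroup.map_mono h3

end p

end fin

end Cfsg.Agent.H227.YMin
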